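import Mathlib
import Cfsg.Agent.CT8.BasB
import Cfsg.Agent.S1910

/-! The pair data (S1308, piece Bas). -/

set_option autoImplicit false
set_option linter.unusedSectionVars false
set_option linter.unusedVariables false

namespace Cfsg.Agent.CT8

open Subgroup Cfsg.Agent.GT Cfsg.Agent.Inv Cfsg.Agent.Cmp
open scoped commutatorElement

variable {G : Type*} [Group G] [Finite G] {𝒦 : Set (Subgroup G)}

variable {K L : Subgroup G}

theorem Bas_core (h : TI 𝒦) (hK : K ∈ 𝒦) (hL : L ∈ 𝒦) (hne : K ≠ L) {T R : Subgroup G}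
    (hT : Syl T (L ⊓ NN K)) (h0 : T ≠ ⊥) (hR : Syl R K) (hTR : T ≤ NN R) :
    T ⊓ K = ⊥ ∧ Nonempty (↥(R ⊓ CC T) ≃* T) := by
  obtain ⟨g, rfl⟩ := h.trans K hK L hL
  have hc : ∀ x : G, x ∉ NN K → K ≠ K ^ᶜ x := fun x hx e => hx (mem_normalizer_iff_map_conj_eq.2 e.symm)
  have hg : g ∉ NN K := fun hg => hne (mem_normalizer_iff_map_conj_eq.1 hg).symm
  have hte : IsTightlyEmbedded K := by
    refine ⟨?_, fun x hx => h.odd_inf hK (h.conj K hK x) (hc x hx)⟩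
    obtain ⟨y, hy, h2⟩ := exists_inv_of_ne_bot hT.two h0
    rw [← card_map_of_injective (f := (MulAut.conj g).toMonoidHom) (MulAut.conj g).injective, even_iff_two_dvd, ← h2]
    exact orderOf_dvd_natCard _ (hT.le hy).1
  have hS := hR.sup_right hT.two (hT.le.trans inf_le_right) hTR
  obtain ⟨a, -, b, -, c⟩ := S1910.result K hte g hg T h0 hT.le ⟨hT.two, hT.idx⟩ (R ⊔ T) le_sup_right hS.le
    ⟨hS.two, hS.idx⟩
  have e : (R ⊔ T) ⊓ NN T ⊓ K = R ⊓ CC T := by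
    refine le_antisymm (fun x hx => ⟨hR.mem_of_mem hS.two le_sup_left hx.2 hx.1.1, ?_⟩)
      fun x hx => ⟨⟨mem_sup_left hx.1, CC_le_NN T hx.2⟩, hR.le hx.1⟩
    rw [commutator_comm, commutator_eq_bot_iff_le_centralizer] at b
    exact b hx
  exact ⟨a, e ▸ c⟩

/-- The pair data (S1910). -/
theorem TI.pair (h : TI 𝒦) (hK : K ∈ 𝒦) (hL : L ∈ 𝒦) (hne : K ≠ L) {T R : Subgroup G}
    (hT : Syl T (L ⊓ NN K)) (h0 : T ≠ ⊥) (hR : Syl R K) (hTR : T ≤ NN R) :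
    PD K L R T (R ⊓ CC T) := by
  obtain ⟨a, ⟨e⟩⟩ := Bas_core h hK hL hne hT h0 hR hTR
  have hc : Nat.card ↥(R ⊓ CC T) = Nat.card T := Nat.card_congr e.toEquiv
  have key : ∀ t ∈ T, t ≠ 1 → R ⊓ centralizer {t} ≤ R ⊓ CC T ∧ Syl (R ⊓ CC T) (K ⊓ NN L) := fun t ht h1 => by
    have h2 : R ⊓ CC T ≤ R ⊓ centralizer {t} := fun x hx =>
      ⟨hx.1, mem_centralizer_singleton_iff.2 (comm_of_CC hx.2 ht).symm⟩
    obtain ⟨T', h3, hT'⟩ := exists_syl_ge (T := R ⊓ centralizer {t}) (K := K ⊓ NN L) (hR.two.to_le inf_le_left)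
      fun x hx => ⟨hR.le hx.1, h.mem_NN hL (hT.le ht).1 (Two.of_mem hT.two ht) h1
        (mem_centralizer_singleton_iff.1 hx.2)⟩
    have h4 : T' ≠ ⊥ := fun e' => h0 (by
      rw [← card_eq_one, ← hc, card_eq_one, ← le_bot_iff, ← e']; exact h2.trans h3)
    obtain ⟨R', hR', h5⟩ := exists_inv_syl' hT'.two (hT'.le.trans inf_le_right)
    obtain ⟨-, ⟨e'⟩⟩ := Bas_core h hL hK hne.symm hT' h4 hR' h5
    obtain ⟨y, hy, hy2⟩ := exists_inv_of_ne_bot hT'.two h4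
    have h6 := hT.card_le (T := R' ⊓ CC T') (hR'.two.to_le inf_le_left) fun x hx =>
      ⟨hR'.le hx.1, h.mem_NN hK (hT'.le hy).1 (Two.of_two hy2) (by rintro rfl; simp at hy2)
        (comm_of_CC hx.2 hy).symm⟩
    rw [Nat.card_congr e'.toEquiv, ← hc] at h6
    have h7 : R ⊓ CC T = T' := eq_of_le_of_card_ge (h2.trans h3) h6
    exact ⟨h7 ▸ h3, h7 ▸ hT'⟩
  obtain ⟨y, hy, hy2⟩ := exists_inv_of_ne_bot hT.two h0
  exact ⟨hne, hT, h0, hR, hTR, inf_le_left, (key y hy (by rintro rfl; simp at hy2)).2, fun x hx h1 u hu =>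
    ⟨fun hc => (key x hx h1).1 ⟨hu, mem_centralizer_singleton_iff.2 hc⟩, fun hc => (comm_of_CC hc.2 hx).symm⟩,
    ⟨e⟩, a⟩

theorem TI.exists_pd (h : TI 𝒦) (hK : K ∈ 𝒦) (hL : L ∈ 𝒦) (hne : K ≠ L) {Y : Subgroup G}
    (hY : IsPGroup 2 Y) (hYL : Y ≤ L) (hYK : Y ≤ NN K) (h0 : Y ≠ ⊥) :
    ∃ R T T0, PD K L R T T0 ∧ Y ≤ T := by
  obtain ⟨T, h1, hT⟩ := exists_syl_ge hY (le_inf hYL hYK)
  obtain ⟨R, hR, h2⟩ := exists_inv_syl' hT.two (hT.le.trans inf_le_right)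
  exact ⟨R, T, _, h.pair hK hL hne hT (fun e => h0 (le_bot_iff.1 (e ▸ h1))) hR h2, h1⟩

theorem TI.exists_pd_of_rl (h : TI 𝒦) (hK : K ∈ 𝒦) (hL : L ∈ 𝒦) (hr : Rl K L) :
    ∃ R T T0, PD K L R T T0 := by
  obtain ⟨hne, y, hy, h2, hn⟩ := hr
  obtain ⟨R, T, T0, p, -⟩ := h.exists_pd hK hL hne (Two.of_two h2).isPGroup (zpowers_le.2 hy) (zpowers_le.2 hn)
    (fun e => by rw [zpowers_eq_bot.1 e] at h2; simp at h2)
  exact ⟨R, T, T0, p⟩

theorem PD.card {R T T0 : Subgroup G} (p : PD K L R T T0) : Nat.card T0 = Nat.card T :=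
  p.iso.elim fun e => Nat.card_congr e.toEquiv

theorem PD.le_CC {R T T0 : Subgroup G} (p : PD K L R T T0) : T0 ≤ CC T := fun u hu =>
  mem_CC.2 fun x hx => by
    rcases eq_or_ne x 1 with rfl | h1
    · exact Commute.one_left u
    · exact ((p.cen x hx h1 u (p.le hu)).2 hu).symm

theorem PD.symm (h : TI 𝒦) (hK : K ∈ 𝒦) (hL : L ∈ 𝒦) {R T T0 : Subgroup G}
    (p : PD K L R T T0) : ∃ R', PD L K R' T0 T := by
  obtain ⟨R', hR', h1, h2⟩ := exists_inv_syl p.sT0.two (p.sT0.le.trans inf_le_right) p.sT.two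
    (p.sT.le.trans inf_le_left) (p.le_CC.trans (CC_le_NN T))
  have q := h.pair hL hK p.ne.symm p.sT0 (fun e => p.neT (by rw [← card_eq_one, ← p.card, card_eq_one, e])) hR' h2
  have h3 : T ≤ R' ⊓ CC T0 := le_inf h1 fun x hx => mem_CC.2 fun u hu => (comm_of_CC (p.le_CC hu) hx).symm
  rw [← eq_of_le_of_card_ge h3 (q.card.trans p.card).le] at q
  exact ⟨R', q⟩

theorem PD.nf {R T T0 : Subgroup G} (p : PD K L R T T0) (hne : T0 ≠ R) : Nf K R T0 T :=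
  ⟨p.sR, p.sT.two, p.sT.le.trans inf_le_right, p.TR, p.disj, p.neT, lt_of_le_of_ne p.le hne, p.cen, p.card⟩

theorem PD.nf_of_fh (fh : FH 𝒦) (hK : K ∈ 𝒦) (hL : L ∈ 𝒦) {R T T0 : Subgroup G}
    (p : PD K L R T T0) (hc : ¬ HC K L) : Nf K R T0 T :=
  p.nf fun e => hc (fh L hL K hK p.ne.symm R p.sR (e ▸ p.sT0.le.trans inf_le_right)).symm

theorem Bas_el {X Y : Subgroup G} (e : X ≃* Y) (h : El X) : El Y := fun y hy => by
  have h1 : e.symm ⟨y, hy⟩ * e.symm ⟨y, hy⟩ = 1 := Subtype.ext (h _ (e.symm ⟨y, hy⟩).2)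
  rw [← map_mul, MulEquiv.map_eq_one_iff] at h1
  exact congrArg Subtype.val h1

theorem Bas_four {X Y : Subgroup G} (e : X ≃* Y) (h : Four X) : Four Y := by
  obtain ⟨a, ha, b, hb, h1, h2, h3, h4⟩ := h
  refine ⟨_, (e ⟨a, ha⟩).2, _, (e ⟨b, hb⟩).2, ?_, ?_, fun h5 => h3 ?_, ?_⟩
  · rw [orderOf_coe, MulEquiv.orderOf_eq, ← orderOf_coe, h1]
  · rw [orderOf_coe, MulEquiv.orderOf_eq, ← orderOf_coe, h2]
  · exact congrArg Subtype.val (e.injective (Subtype.ext h5))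
  · exact ((show Commute (⟨a, ha⟩ : X) ⟨b, hb⟩ from Subtype.ext h4).map e).map Y.subtype

theorem PD.el_iff {R T T0 : Subgroup G} (p : PD K L R T T0) : El T0 ↔ El T :=
  p.iso.elim fun e => ⟨Bas_el e, Bas_el e.symm⟩

theorem PD.four_iff {R T T0 : Subgroup G} (p : PD K L R T T0) : Four T0 ↔ Four T :=
  p.iso.elim fun e => ⟨Bas_four e, Bas_four e.symm⟩

end Cfsg.Agent.CT8
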