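import Mathlib
import Cfsg.Agent.CT8.Bas

/-! The algebra behind `q = 4` and the swapping element of a complete line (S1308, piece ALG). -/

set_option autoImplicit false
set_option linter.unusedSectionVars false
set_option linter.unusedVariables false

namespace Cfsg.Agent.CT8

open Subgroup Cfsg.Agent.GT Cfsg.Agent.Inv Cfsg.Agent.Cmp
open scoped commutatorElement

variable {G : Type*} [Group G] [Finite G] {𝒦 : Set (Subgroup G)}

/-- The algebra behind `q = 4`. -/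
theorem alg {M : Type*} [AddCommGroup M] [Finite M] (h2 : ∀ x : M, x + x = 0)
    (Ψ : AddSubgroup (AddMonoid.End M)) (h1 : (1 : AddMonoid.End M) ∈ Ψ)
    (hi : ∀ a ∈ Ψ, ∀ x : M, a x = 0 → a = 0 ∨ x = 0) (hc : Nat.card Ψ = Nat.card M)
    (h4 : 4 ≤ Nat.card M) (l : AddMonoid.End M → M)
    (la : ∀ a ∈ Ψ, ∀ b ∈ Ψ, l (a + b) = l a + l b) (l1 : l 1 ≠ 0)
    (hk : ∀ a ∈ Ψ, a ≠ 0 → ∀ b ∈ Ψ, a * b * a ∈ Ψ ∧ a (l (a * b * a)) = l b) :
    Nat.card M = 4 ∧ ∀ a ∈ Ψ, ∀ b ∈ Ψ, a (l b) = b (l a) := by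
  classical
  have hR : ∀ c : AddMonoid.End M, c + c = 0 := fun c => AddMonoidHom.ext fun x => h2 (c x)
  have hne : ∀ {a b : AddMonoid.End M}, a + b = 0 → a = b := fun {a b} e => by
    rw [← add_right_cancel_iff (a := b), e, hR]
  have hsq : ∀ a ∈ Ψ, a ≠ 0 → a ≠ 1 → l (a * a) = l 1 + a (l 1) ∧ a * a = a + 1 := fun a ha a0 a1 => by
    obtain ⟨m1, e1⟩ := hk a ha a0 1 h1
    obtain ⟨-, e2⟩ := hk (a + 1) (add_mem ha h1) (fun e => a1 (hne e)) 1 h1
    rw [mul_one] at m1 e1 e2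
    rw [show (a + 1) * (a + 1) = a * a + 1 by linear_combination (norm := noncomm_ring) hR a, la _ m1 _ h1] at e2
    change a (l (a * a) + l 1) + (l (a * a) + l 1) = l 1 at e2
    rw [map_add, e1] at e2
    have e3 : l (a * a) = l 1 + a (l 1) := by
      linear_combination (norm := abel1) e2 - h2 (l 1) - h2 (a (l 1))
    refine ⟨e3, hne ((hi _ (add_mem m1 (add_mem ha h1)) (l 1) ?_).resolve_right l1)⟩
    change a (a (l 1)) + (a (l 1) + l 1) = 0
    rw [e3, map_add] at e1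
    linear_combination (norm := abel1) e1 + h2 (l 1)
  have hmul : ∀ a ∈ Ψ, ∀ b ∈ Ψ, a ≠ 0 → b ≠ 0 → a * b ≠ 0 := fun a ha b hb a0 b0 e => by
    have : a (b (l 1)) = 0 := by change (a * b) (l 1) = 0; rw [e]; rfl
    exact l1 ((hi b hb _ ((hi a ha _ this).resolve_left a0)).resolve_left b0)
  have : Finite Ψ := Nat.finite_of_card_ne_zero (by omega)
  obtain ⟨a, ha, a0, a1⟩ : ∃ a ∈ Ψ, a ≠ 0 ∧ a ≠ 1 := by
    by_contra hn
    push Not at hn
    have : (Ψ : Set (AddMonoid.End M)) ⊆ {0, 1} := fun a ha => by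
      by_cases a0 : a = 0
      exacts [.inl a0, .inr (hn a ha a0)]
    have h5 := Set.ncard_le_ncard this
    have h6 := Set.ncard_insert_le (0 : AddMonoid.End M) {1}
    rw [Set.ncard_singleton] at h6
    have h7 : (Ψ : Set (AddMonoid.End M)).ncard = Nat.card Ψ := rfl
    omega
  have a2 := (hsq a ha a0 a1).2
  have hall : ∀ b ∈ Ψ, b = 0 ∨ b = 1 ∨ b = a ∨ b = a + 1 := fun b hb => by
    by_contra hn
    push Not at hn
    obtain ⟨b0, b1, ba, ba1⟩ := hn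
    have b2 := (hsq b hb b0 b1).2
    have c2 := (hsq (a + b) (add_mem ha hb) (fun e => ba (hne e).symm) (fun e => ba1 (hne (by
      linear_combination (norm := noncomm_ring) e + hR 1)))).2
    have e1 : b * a = a * b + 1 := by
      linear_combination (norm := noncomm_ring) c2 - a2 - b2 - hR (a * b) - hR 1
    have e2 : a * b * a = a * b + b + a := by
      linear_combination (norm := noncomm_ring) a * e1 + a2 * b
    have m1 : a * b ∈ Ψ := by
      have := sub_mem (sub_mem (hk a ha a0 b hb).1 ha) hb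
      rwa [e2, add_sub_cancel_right, add_sub_cancel_right] at this
    have d2 := (hsq _ m1 (hmul a ha b hb a0 b0) fun e => hmul b hb a ha b0 a0 (by rw [e1, e, hR])).2
    have e3 : (a + 1) * (b + (a + 1)) = 0 := by
      linear_combination (norm := noncomm_ring) e2 * b + a * b2 + b2 - d2 + a2 + hR (a * b) + hR a +
        hR a + hR b + hR 1
    exact hmul _ (add_mem ha h1) _ (add_mem hb (add_mem ha h1)) (fun e => a1 (hne e)) (fun e => ba1 (hne e)) e3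
  have hl : ∀ c ∈ Ψ, l c = c (l 1) := fun c hc' => by
    by_cases c0 : c = 0
    · have := la 0 (zero_mem _) 0 (zero_mem _)
      rw [add_zero, h2] at this
      rw [c0, this]; rfl
    by_cases c1 : c = 1
    · rw [c1]; rfl
    obtain ⟨e1, e2⟩ := hsq (c + 1) (add_mem hc' h1) (fun e => c1 (hne e)) (fun e => c0 (by simpa using e))
    rw [e2, add_assoc, hR, add_zero] at e1
    rw [e1]
    change l 1 + (c (l 1) + l 1) = _
    linear_combination (norm := abel1) h2 (l 1)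
  refine ⟨le_antisymm ?_ h4, fun b hb c hc' => ?_⟩
  · have : (Ψ : Set (AddMonoid.End M)) ⊆ {0, 1, a, a + 1} := hall
    have h5 := Set.ncard_le_ncard this
    have h6 := Set.ncard_insert_le (0 : AddMonoid.End M) {1, a, a + 1}
    have h7 := Set.ncard_insert_le (1 : AddMonoid.End M) {a, a + 1}
    have h8 := Set.ncard_insert_le a {a + 1}
    rw [Set.ncard_singleton] at h8
    have h9 : (Ψ : Set (AddMonoid.End M)).ncard = Nat.card Ψ := rfl
    omega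
  · rw [hl b hb, hl c hc']
    change (b * c) (l 1) = (c * b) (l 1)
    have : b * c = c * b := by
      rcases hall b hb with rfl | rfl | rfl | rfl <;> rcases hall c hc' with rfl | rfl | rfl | rfl <;> noncomm_ring
    rw [this]

variable {K L P Q Z Y : Subgroup G}

theorem Rt.alg_surj (r' : Rt Q Y P) (hcY : Nat.card Y = Nat.card Q * Nat.card Q) {p : G} (hp : p ∈ P)
    (h1 : p ≠ 1) {q : G} (hq : q ∈ Q) : ∃ y ∈ Y, ⁅y, p⁆ = q := by
  let f : Y →* Q := MonoidHom.mk' (fun y => ⟨⁅(y : G), p⁆, r'.com y y.2 p hp⟩) fun a b => Subtype.ext (by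
    have e1 := (comm_of_CC (r'.cen (r'.com b b.2 p hp)) a.2).eq
    have e2 := (comm_of_CC (r'.cen (r'.com b b.2 p hp)) (r'.le (r'.com a a.2 p hp))).eq
    change ⁅(a : G) * b, p⁆ = ⁅(a : G), p⁆ * ⁅(b : G), p⁆
    rw [e2]
    calc ⁅(a : G) * b, p⁆ = a * ⁅(b : G), p⁆ * (p * (a : G)⁻¹ * p⁻¹) := by
          simp only [commutatorElement_def]; group
      _ = _ := by rw [e1]; simp only [commutatorElement_def]; group)
  have hk : f.ker = Q.subgroupOf Y := by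
    ext y
    rw [MonoidHom.mem_ker, mem_subgroupOf, Subtype.ext_iff]
    change ⁅(y : G), p⁆ = 1 ↔ _
    rw [commutatorElement_eq_one_iff_commute]
    exact ⟨fun h => (r'.ns y y.2 p hp h).resolve_right h1, fun h => (comm_of_CC (r'.EF h) hp).symm⟩
  have h2 : Nat.card f.range * Nat.card Q = Nat.card Q * Nat.card Q := by
    rw [← hcY, ← index_ker, ← f.ker.index_mul_card, hk, Nat.card_congr (subgroupOfEquivOfLe r'.le).toEquiv]
  have h3 : f.range = ⊤ := eq_top_of_card_eq _ (Nat.eq_of_mul_eq_mul_right Nat.card_pos h2)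
  obtain ⟨y, hy⟩ := MonoidHom.range_eq_top.1 h3 ⟨q, hq⟩
  exact ⟨y, y.2, congrArg Subtype.val hy⟩

/-- The swapping element of a complete line. -/
theorem Rt.exists_swap (r : Rt P Z Q) (r' : Rt Q Y P) (h : TI 𝒦) (hK : K ∈ 𝒦) (hL : L ∈ 𝒦)
    (hne : K ≠ L) (hZ : Z ≤ K) (hY : Y ≤ L) (eP : El P) (eQ : El Q)
    (hc : Nat.card P = Nat.card Q) (hcY : Nat.card Y = Nat.card Q * Nat.card Q) {z : G}
    (hz : z ∈ Z) (hP : z ∉ P) :
    ∃ y ∈ Y, (∀ q ∈ Q, ⁅y, ⁅z, q⁆⁆ = q) ∧ (∀ p ∈ P, ⁅z, ⁅y, p⁆⁆ = p) ∧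
      (∀ q ∈ Q, z * y * z * q * (z * y * z)⁻¹ = ⁅z, q⁆) ∧
      ∀ p ∈ P, z * y * z * p * (z * y * z)⁻¹ = ⁅y, p⁆ := by
  have hPK : P ≤ K := r.le.trans hZ
  have hQL : Q ≤ L := r'.le.trans hY
  have cj : ∀ a b : G, a * b * a⁻¹ = ⁅a, b⁆ * b := fun a b => by simp only [commutatorElement_def]; group
  have pq : ∀ p ∈ P, ∀ q ∈ Q, q * p = p * q := fun p hp q hq => (comm_of_CC (r.EF hp) hq).eq
  have zp : ∀ p ∈ P, z * p * z⁻¹ = p := fun p hp => conj_eq_of_comm (comm_of_CC (r.cen hp) hz)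
  obtain ⟨y, hy, key⟩ : ∃ y ∈ Y, ∀ p ∈ P, ⁅z, ⁅y, p⁆⁆ = p := by
    rcases bot_or_exists_ne_one Q with e | ⟨q0, hq0, q1⟩
    · rw [e, card_bot, card_eq_one] at hc
      refine ⟨1, one_mem _, fun p hp => ?_⟩
      rw [hc, mem_bot] at hp
      simp [hp]
    have hp0 := r.com z hz q0 hq0
    have p1 : ⁅z, q0⁆ ≠ 1 := fun e =>
      (r.ns z hz q0 hq0 (commutatorElement_eq_one_iff_commute.1 e)).elim hP q1
    obtain ⟨y, hy, e⟩ := r'.alg_surj hcY hp0 p1 hq0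
    have e1 : y * ⁅z, q0⁆ * y⁻¹ = z * q0 * z⁻¹ := by rw [cj, e, cj, pq _ hp0 _ hq0]
    have e2 : K ^ᶜ y = L ^ᶜ z := h.eq_of_two (h.conj K hK y) (h.conj L hL z) (conj_mem_map_conj.2 (hPK hp0))
      (e1 ▸ conj_mem_map_conj.2 (hQL hq0)) ((Two.of_sq (eP _ hp0)).conj y) (by simpa using p1)
    refine ⟨y, hy, fun p hp => ?_⟩
    have hq := r'.com y hy p hp
    have he := r.com z hz _ hq
    have m1 : y * p * y⁻¹ ∈ L ^ᶜ z := e2 ▸ conj_mem_map_conj.2 (hPK hp)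
    have e3 : y * p * y⁻¹ = z * (⁅z, ⁅y, p⁆⁆ * p * ⁅y, p⁆) * z⁻¹ := by
      calc y * p * y⁻¹ = ⁅z, ⁅y, p⁆⁆ * ⁅z, ⁅y, p⁆⁆ * (p * ⁅y, p⁆) := by rw [eP _ he, one_mul, cj, pq p hp _ hq]
        _ = ⁅z, ⁅y, p⁆⁆ * (⁅z, ⁅y, p⁆⁆ * p) * ⁅y, p⁆ := by simp only [mul_assoc]
        _ = ⁅z, ⁅y, p⁆⁆ * (p * ⁅z, ⁅y, p⁆⁆) * ⁅y, p⁆ := by rw [(eP.ab _ he _ hp).eq]
        _ = ⁅z, ⁅y, p⁆⁆ * p * (⁅z, ⁅y, p⁆⁆ * ⁅y, p⁆) := by simp only [mul_assoc]
        _ = z * (⁅z, ⁅y, p⁆⁆ * p) * z⁻¹ * (z * ⁅y, p⁆ * z⁻¹) := by rw [zp _ (mul_mem he hp), cj z]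
        _ = _ := by group
    rw [e3, conj_mem_map_conj] at m1
    have m2 : ⁅z, ⁅y, p⁆⁆ * p ∈ L := by
      have := mul_mem m1 (inv_mem (hQL hq))
      rwa [mul_inv_cancel_right] at this
    have e4 := h.eq_one hK hL hne (hPK (mul_mem he hp)) m2 (.of_sq (eP _ (mul_mem he hp)))
    rw [← inv_eq_of_mul_eq_one_left e4]
    exact inv_eq_of_mul_eq_one_right (eP p hp)
  have key' : ∀ q ∈ Q, ⁅y, ⁅z, q⁆⁆ = q := fun q hq => by
    have hq' := r'.com y hy _ (r.com z hz q hq)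
    have e := key _ (r.com z hz q hq)
    generalize ⁅y, ⁅z, q⁆⁆ = q' at hq' e
    have hc' : Commute z (q⁻¹ * q') := by
      refine comm_of_conj_eq ?_
      calc z * (q⁻¹ * q') * z⁻¹ = (z * q * z⁻¹)⁻¹ * (z * q' * z⁻¹) := by group
        _ = _ := by rw [cj, cj z q', e]; group
    exact (inv_mul_eq_one.1 ((r.ns z hz _ (mul_mem (inv_mem hq) hq') hc').resolve_left hP)).symm
  have yq : ∀ q ∈ Q, y * q * y⁻¹ = q := fun q hq => conj_eq_of_comm (comm_of_CC (r'.cen hq) hy)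
  refine ⟨y, hy, key', key, fun q hq => ?_, fun p hp => ?_⟩
  · have he := r.com z hz q hq
    calc z * y * z * q * (z * y * z)⁻¹ = z * (y * (z * q * z⁻¹) * y⁻¹) * z⁻¹ := by group
      _ = z * (y * ⁅z, q⁆ * y⁻¹ * (y * q * y⁻¹)) * z⁻¹ := by rw [cj z q]; group
      _ = _ := by rw [yq q hq, cj y, key' q hq, pq _ he q hq, mul_assoc ⁅z, q⁆, eQ q hq, mul_one, zp _ he]
  · have hq := r'.com y hy p hp
    calc z * y * z * p * (z * y * z)⁻¹ = z * (y * (z * p * z⁻¹) * y⁻¹) * z⁻¹ := by group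
      _ = z * (⁅y, p⁆ * p) * z⁻¹ := by rw [zp p hp, cj y p]
      _ = z * ⁅y, p⁆ * z⁻¹ * (z * p * z⁻¹) := by group
      _ = _ := by rw [zp p hp, cj z, key p hp, ← pq p hp _ hq, mul_assoc, eP p hp, mul_one]

end Cfsg.Agent.CT8
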