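import Mathlib
import Cfsg.Agent.CT8.Bas

/-! S1308, piece RT: root group lemmas.  See `stubs/Cfsg/Agent/CT8/PLAN.md`. -/

set_option autoImplicit false
set_option linter.unusedSectionVars false
set_option linter.unusedVariables false

namespace Cfsg.Agent.CT8

open Subgroup Cfsg.Agent.GT Cfsg.Agent.Inv Cfsg.Agent.Cmp
open scoped commutatorElement

variable {G : Type*} [Group G] [Finite G] {𝒦 : Set (Subgroup G)}

variable {E Z F : Subgroup G}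

theorem RT.comm_mul {x y m : G} (h : Commute x ⁅y, m⁆) : ⁅x * y, m⁆ = ⁅y, m⁆ * ⁅x, m⁆ := by
  calc ⁅x * y, m⁆ = (x * ⁅y, m⁆) * x⁻¹ * ⁅x, m⁆ := by simp only [commutatorElement_def]; group
    _ = ⁅y, m⁆ * ⁅x, m⁆ := by rw [h.eq]; group

theorem RT.comm_inv {x m : G} (h : Commute x ⁅x, m⁆) : ⁅x⁻¹, m⁆ = ⁅x, m⁆⁻¹ := by
  have h1 : ⁅x⁻¹, m⁆ = x⁻¹ * (⁅x, m⁆⁻¹ * x) := by simp only [commutatorElement_def]; group
  rw [h1, ← h.inv_right.eq]; group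

theorem RT.comm_pow {x m : G} (h : Commute x ⁅x, m⁆) (n : ℕ) : ⁅x ^ n, m⁆ = ⁅x, m⁆ ^ n := by
  induction n with
  | zero => simp
  | succ n ih => rw [pow_succ', RT.comm_mul (by rw [ih]; exact h.pow_right n), ih, pow_succ]

theorem RT.exists_ne_one (nF : F ≠ ⊥) : ∃ f ∈ F, f ≠ 1 := by
  by_contra hh
  push Not at hh
  exact nF ((eq_bot_iff_forall F).2 hh)

theorem Rt.comm_E (r : Rt E Z F) {z e : G} (hz : z ∈ Z) (he : e ∈ E) : Commute z e :=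
  comm_of_CC (r.cen he) hz

theorem Rt.comm_F (r : Rt E Z F) {f e : G} (hf : f ∈ F) (he : e ∈ E) : Commute f e :=
  comm_of_CC (r.EF he) hf

theorem Rt.mem_NN (r : Rt E Z F) {z : G} (hz : z ∈ Z) : z ∈ NN (E ⊔ F) := by
  refine mem_normalizer_of_map_conj_le ?_
  rw [map_conj_sup]
  refine sup_le (map_conj_le_iff_forall.2 fun e he => ?_) (map_conj_le_iff_forall.2 fun f hf => ?_)
  · rw [conj_eq_of_comm (r.comm_E hz he)]
    exact mem_sup_left he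
  · have : z * f * z⁻¹ = ⁅z, f⁆ * f := by simp only [commutatorElement_def]; group
    rw [this]
    exact mul_mem (mem_sup_left (r.com z hz f hf)) (mem_sup_right hf)

theorem Rt.sq_mem (r : Rt E Z F) (eE : El E) (nF : F ≠ ⊥) {z : G} (hz : z ∈ Z) : z * z ∈ E := by
  obtain ⟨f, hf, h1⟩ := RT.exists_ne_one nF
  have h : ⁅z * z, f⁆ = 1 := by
    rw [RT.comm_mul (r.comm_E hz (r.com z hz f hf))]
    exact eE _ (r.com z hz f hf)
  exact (r.ns _ (mul_mem hz hz) f hf (commutatorElement_eq_one_iff_commute.1 h)).resolve_right h1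

theorem Rt.cen_iff (r : Rt E Z F) {z : G} (hz : z ∈ Z) (hE : z ∉ E) {w : G} (hw : w ∈ E ⊔ F) :
    Commute w z ↔ w ∈ E := by
  refine ⟨fun hc => ?_, fun h => (r.comm_E hz h).symm⟩
  have hn : F ≤ NN E := fun f hf => CC_le_NN E (mem_CC.2 fun e he => (r.comm_F hf he).symm)
  obtain ⟨e, he, f, hf, rfl⟩ := exists_mul_of_mem_sup hn hw
  have h1 : Commute z f := by
    have := (r.comm_E hz (inv_mem he)).mul_right hc.symm
    rwa [inv_mul_cancel_left] at this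
  rw [(r.ns z hz f hf h1).resolve_left hE, mul_one]
  exact he

/-- For `z ∉ E` the map `f ↦ ⁅z, f⁆` is a bijection `F → E`. -/
theorem Rt.surj (r : Rt E Z F) (hc : Nat.card E = Nat.card F) {z : G} (hz : z ∈ Z) (hE : z ∉ E)
    {e : G} (he : e ∈ E) : ∃ f ∈ F, ⁅z, f⁆ = e := by
  let φ : F → E := fun f => ⟨⁅z, (f : G)⁆, r.com z hz f f.2⟩
  have hi : Function.Injective φ := by
    intro f f' h
    have h1 : ⁅z, (f : G)⁆ = ⁅z, (f' : G)⁆ := congrArg Subtype.val h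
    have h2 : Commute z ((f' : G)⁻¹ * f) := by
      rw [Commute, SemiconjBy]
      simp only [commutatorElement_def] at h1
      calc z * ((f' : G)⁻¹ * f) = z * (f' : G)⁻¹ * z⁻¹ * (z * f * z⁻¹ * (f : G)⁻¹) * f * z := by group
        _ = (f' : G)⁻¹ * f * z := by rw [h1]; group
    have h3 := (r.ns z hz _ (mul_mem (inv_mem f'.2) f.2) h2).resolve_left hE
    exact Subtype.ext (inv_mul_eq_one.1 h3).symm
  obtain ⟨f, hf⟩ := (hi.bijective_of_nat_card_le hc.le).2 ⟨e, he⟩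
  exact ⟨f, f.2, congrArg Subtype.val hf⟩

/-- The homomorphism `z ↦ ⁅z, f⁆`. -/
def Rt.phi (r : Rt E Z F) {f : G} (hf : f ∈ F) : Z →* G :=
  MonoidHom.mk' (fun z => ⁅(z : G), f⁆) fun a b => by
    simp only [Subgroup.coe_mul]
    rw [RT.comm_mul (r.comm_E a.2 (r.com b b.2 f hf))]
    exact (r.comm_E (r.le (r.com b b.2 f hf)) (r.com a a.2 f hf)).eq

theorem Rt.phi_range_le (r : Rt E Z F) {f : G} (hf : f ∈ F) : (r.phi hf).range ≤ E := by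
  rintro _ ⟨z, rfl⟩
  exact r.com z z.2 f hf

theorem Rt.card_eq (r : Rt E Z F) {f : G} (hf : f ∈ F) (h1 : f ≠ 1) :
    Nat.card Z = Nat.card E * Nat.card (r.phi hf).range := by
  have hk : (r.phi hf).ker = E.subgroupOf Z := by
    ext z
    rw [MonoidHom.mem_ker, mem_subgroupOf]
    refine ⟨fun h => ?_, fun h => ?_⟩
    · exact (r.ns z z.2 f hf (commutatorElement_eq_one_iff_commute.1 h)).resolve_right h1
    · exact commutatorElement_eq_one_iff_commute.2 (r.comm_F hf h).symm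
  rw [← (r.phi hf).ker.card_mul_index, index_ker, hk,
    Nat.card_congr (subgroupOfEquivOfLe r.le).toEquiv]

theorem Rt.card_le (r : Rt E Z F) (nF : F ≠ ⊥) : Nat.card Z ≤ Nat.card E * Nat.card E := by
  obtain ⟨f, hf, h1⟩ := RT.exists_ne_one nF
  rw [r.card_eq hf h1]
  exact Nat.mul_le_mul_left _ (card_le_of_le (r.phi_range_le hf))

/-- A complete root group. -/
theorem Rt.surj' (r : Rt E Z F) (hc : Nat.card Z = Nat.card E * Nat.card E) {f : G} (hf : f ∈ F)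
    (h1 : f ≠ 1) {e : G} (he : e ∈ E) : ∃ z ∈ Z, ⁅z, f⁆ = e := by
  have h2 := r.card_eq hf h1
  rw [hc] at h2
  have h3 := Nat.eq_of_mul_eq_mul_left Nat.card_pos h2
  have h4 : (r.phi hf).range = E := eq_of_le_of_card_ge (r.phi_range_le hf) h3.le
  rw [← h4] at he
  obtain ⟨z, hz⟩ := he
  exact ⟨z, z.2, hz⟩

theorem Rt.card_of_surj (r : Rt E Z F) {f : G} (hf : f ∈ F) (h1 : f ≠ 1)
    (hs : ∀ e ∈ E, ∃ z ∈ Z, ⁅z, f⁆ = e) : Nat.card Z = Nat.card E * Nat.card E := by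
  have h4 : (r.phi hf).range = E := by
    refine le_antisymm (r.phi_range_le hf) fun e he => ?_
    obtain ⟨z, hz, h⟩ := hs e he
    exact ⟨⟨z, hz⟩, h⟩
  rw [r.card_eq hf h1, h4]

/-- The `y² = 1` lemma. -/
theorem Rt.ysq (r : Rt E Z F) (eE : El E) (nF : F ≠ ⊥) (hlt : Z ≠ E) (hd : E ⊓ F = ⊥) {y : G}
    (hy : y ∈ CC (E ⊔ F)) (hn : y ∈ NN Z) (h2 : y * y ∈ F) : y * y = 1 := by
  obtain ⟨f, hf, h1⟩ := RT.exists_ne_one nF
  obtain ⟨ρ, hρ, hρE⟩ : ∃ ρ ∈ Z, ρ ∉ E := by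
    by_contra hh
    push Not at hh
    exact hlt (le_antisymm hh r.le)
  have hyE : ∀ e ∈ E, Commute y e := fun e he => (comm_of_CC hy (mem_sup_left he)).symm
  have hyf : Commute y f := (comm_of_CC hy (mem_sup_right hf)).symm
  have hρ' : y * ρ * y⁻¹ ∈ Z := conj_mem_of_mem_normalizer hn hρ
  have h3 : ⁅y * ρ * y⁻¹, f⁆ = ⁅ρ, f⁆ := by
    calc ⁅y * ρ * y⁻¹, f⁆ = ⁅y * ρ * y⁻¹, y * f * y⁻¹⁆ := by rw [conj_eq_of_comm hyf]
      _ = y * ⁅ρ, f⁆ * y⁻¹ := by simp only [commutatorElement_def]; group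
      _ = ⁅ρ, f⁆ := conj_eq_of_comm (hyE _ (r.com ρ hρ f hf))
  have h4 : ⁅ρ⁻¹ * (y * ρ * y⁻¹), f⁆ = 1 := by
    rw [RT.comm_mul (r.comm_E (inv_mem hρ) (r.com _ hρ' f hf)), h3,
      RT.comm_inv (r.comm_E hρ (r.com ρ hρ f hf)), mul_inv_cancel]
  have h5 : ρ⁻¹ * (y * ρ * y⁻¹) ∈ E :=
    (r.ns _ (mul_mem (inv_mem hρ) hρ') f hf
      (commutatorElement_eq_one_iff_commute.1 h4)).resolve_right h1
  set e := ρ⁻¹ * (y * ρ * y⁻¹) with he
  have h6 : y * ρ * y⁻¹ = ρ * e := by rw [he]; group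
  have h7 : y * y * ρ * (y * y)⁻¹ = ρ := by
    calc y * y * ρ * (y * y)⁻¹ = y * (y * ρ * y⁻¹) * y⁻¹ := by group
      _ = y * (ρ * e) * y⁻¹ := by rw [h6]
      _ = (y * ρ * y⁻¹) * (y * e * y⁻¹) := by group
      _ = ρ * (e * e) := by rw [h6, conj_eq_of_comm (hyE e h5), mul_assoc]
      _ = ρ := by rw [eE e h5, mul_one]
  exact (r.ns ρ hρ _ h2 (comm_of_conj_eq h7).symm).resolve_left hρE

theorem RT.mem_of_two {K L : Subgroup G} (hs : Syl E (K ⊓ NN L)) {c : G} (hc : c ∈ K)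
    (hL : c ∈ NN L) (hcE : c ∈ CC E) (h2 : Two c) : c ∈ E := by
  have hn : zpowers c ≤ NN E := zpowers_le.2 (CC_le_NN E hcE)
  exact hs.le_of_le (two_sup hs.two h2.isPGroup hn) le_sup_left
    (sup_le hs.le (zpowers_le.2 (mem_inf.2 ⟨hc, hL⟩))) (mem_sup_right (mem_zpowers c))

/-- Elements of `K` centralizing the line: an odd power lies in `E`. -/
theorem TI.exists_odd_pow (h : TI 𝒦) {K L : Subgroup G} (hK : K ∈ 𝒦) (hL : L ∈ 𝒦) (hF : F ≤ L)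
    (eF : El F) (nF : F ≠ ⊥) (hs : Syl E (K ⊓ NN L)) {c : G} (hc : c ∈ K) (hcE : c ∈ CC E)
    (hcF : c ∈ CC F) : ∃ n : ℕ, Odd n ∧ c ^ n ∈ E := by
  obtain ⟨f, hf, h1⟩ := RT.exists_ne_one nF
  have hn : c ∈ NN L := h.mem_NN hL (hF hf) (.of_sq (eF f hf)) h1 (comm_of_CC hcF hf).symm
  obtain ⟨k, m, hm, hkm⟩ := Nat.exists_eq_two_pow_mul_odd (orderOf_pos c).ne'
  refine ⟨m, hm, RT.mem_of_two hs (pow_mem hc m) (pow_mem hn m) (pow_mem hcE m) ⟨k, ?_⟩⟩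
  rw [← pow_mul, mul_comm, ← hkm, pow_orderOf_eq_one]

/-- The elements of `K ∩ C(E)` acting trivially on `X` modulo `E`. -/
def RT.N1 (K E : Subgroup G) (X : Set G) : Subgroup G where
  carrier := {x | x ∈ K ∧ x ∈ CC E ∧ ∀ m ∈ X, ⁅x, m⁆ ∈ E}
  one_mem' := ⟨one_mem _, one_mem _, fun m _ => by simp⟩
  mul_mem' := by
    rintro a b ⟨ha1, ha2, ha3⟩ ⟨hb1, hb2, hb3⟩
    refine ⟨mul_mem ha1 hb1, mul_mem ha2 hb2, fun m hm => ?_⟩
    rw [RT.comm_mul (comm_of_CC ha2 (hb3 m hm)).symm]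
    exact mul_mem (hb3 m hm) (ha3 m hm)
  inv_mem' := by
    rintro a ⟨ha1, ha2, ha3⟩
    refine ⟨inv_mem ha1, inv_mem ha2, fun m hm => ?_⟩
    rw [RT.comm_inv (comm_of_CC ha2 (ha3 m hm)).symm]
    exact inv_mem (ha3 m hm)

theorem Rt.two (r : Rt E Z F) (eE : El E) (nF : F ≠ ⊥) : IsPGroup 2 Z := fun z =>
  ⟨2, Subtype.ext (by
    have := eE _ (r.sq_mem eE nF z.2)
    simp only [SubmonoidClass.coe_pow, OneMemClass.coe_one]
    rw [← this]; norm_num [pow_succ, mul_assoc])⟩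

/-- Two complete root groups for the same line are conjugate by an element centralizing the
line and every `m` on which both act trivially modulo `E`. -/
theorem TI.rt_conj (h : TI 𝒦) {K L Z' : Subgroup G} (hK : K ∈ 𝒦) (hL : L ∈ 𝒦) (hne : K ≠ L)
    (hF : F ≤ L) (eE : El E) (eF : El F) (nF : F ≠ ⊥) (hs : Syl E (K ⊓ NN L)) (r : Rt E Z F)
    (r' : Rt E Z' F) (hZ : Z ≤ K) (hZ' : Z' ≤ K) (hc : Nat.card Z = Nat.card E * Nat.card E)
    (hc' : Nat.card Z' = Nat.card E * Nat.card E) {M : Set G} (hM : ∀ m ∈ M, m ∈ CC E)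
    (hMZ : ∀ m ∈ M, ∀ z ∈ Z, ⁅z, m⁆ ∈ E) (hMZ' : ∀ m ∈ M, ∀ z ∈ Z', ⁅z, m⁆ ∈ E) :
    ∃ c ∈ K, c ∈ CC E ∧ c ∈ CC F ∧ (∀ m ∈ M, Commute c m) ∧ Z' = Z ^ᶜ c := by
  set N := RT.N1 K E ((F : Set G) ∪ M) with hN
  have hle : ∀ {Y : Subgroup G}, Rt E Y F → Y ≤ K → (∀ m ∈ M, ∀ z ∈ Y, ⁅z, m⁆ ∈ E) → Y ≤ N := by
    intro Y rY hY hMY y hy
    refine ⟨hY hy, mem_CC.2 fun e he => (rY.comm_E hy he).symm, ?_⟩
    rintro m (hm | hm)
    · exact rY.com y hy m hm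
    · exact hMY m hm y hy
  have hNL : ∀ x : G, ∀ f ∈ F, f ≠ 1 → Commute x f → x ∈ NN L := fun x f hf h1 hx =>
    h.mem_NN hL (hF hf) (.of_sq (eF f hf)) h1 hx
  obtain ⟨S, hZS, hS⟩ := exists_syl_ge (r.two eE nF) (hle r hZ hMZ)
  have rS : Rt E S F := by
    refine ⟨r.le.trans hZS, fun e he => mem_CC.2 fun s hs' => (comm_of_CC (hS.le hs').2.1 he).symm,
      r.EF, fun s hs' f hf => (hS.le hs').2.2 f (Or.inl hf), fun s hs' f hf hc => ?_⟩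
    by_cases h1 : f = 1
    · exact Or.inr h1
    · exact Or.inl (RT.mem_of_two hs (hS.le hs').1 (hNL s f hf h1 hc) (hS.le hs').2.1
        (.of_mem hS.two hs'))
  have hZS' : Z = S := eq_of_le_of_card_ge hZS (hc ▸ rS.card_le nF)
  subst hZS'
  obtain ⟨k, hk, hkZ⟩ := hS.exists_conj (r'.two eE nF) (hle r' hZ' hMZ')
  have hkZ' : Z' ^ᶜ k = Z :=
    eq_of_le_of_card_ge (map_conj_le_iff_forall.2 hkZ) (by rw [card_map_conj, hc, hc'])
  obtain ⟨f0, hf0, h1⟩ := RT.exists_ne_one nF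
  have hg : k⁻¹ ∈ N := inv_mem hk
  obtain ⟨z, hz, hzf⟩ := r.surj' hc hf0 h1 (hg.2.2 f0 (Or.inl hf0))
  have hcN : k⁻¹ * z⁻¹ ∈ N := mul_mem hg (inv_mem (hS.le hz))
  have hc0 : Commute (k⁻¹ * z⁻¹) f0 := by
    refine commutatorElement_eq_one_iff_commute.1 ?_
    rw [RT.comm_mul (comm_of_CC hg.2.1 (r.com _ (inv_mem hz) f0 hf0)).symm,
      RT.comm_inv (r.comm_E hz (r.com z hz f0 hf0)), hzf, inv_mul_cancel]
  have hcL := hNL _ f0 hf0 h1 hc0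
  have hcF : k⁻¹ * z⁻¹ ∈ CC F := mem_CC.2 fun f hf => by
    have he := hcN.2.2 f (Or.inl hf)
    refine (commutatorElement_eq_one_iff_commute.1
      (h.eq_one hK hL hne (hZ (r.le he)) ?_ (.of_sq (eE _ he)))).symm
    rw [commutatorElement_def]
    exact mul_mem (conj_mem_of_mem_normalizer hcL (hF hf)) (inv_mem (hF hf))
  obtain ⟨n, ⟨j, hj⟩, hn⟩ := h.exists_odd_pow hK hL hF eF nF hs hcN.1 hcN.2.1 hcF
  refine ⟨k⁻¹ * z⁻¹, hcN.1, hcN.2.1, hcF, fun m hm => ?_, ?_⟩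
  · have he := hcN.2.2 m (Or.inr hm)
    have h2 : ⁅(k⁻¹ * z⁻¹) ^ n, m⁆ = 1 :=
      commutatorElement_eq_one_iff_commute.2 (comm_of_CC (hM m hm) hn)
    rw [RT.comm_pow (comm_of_CC hcN.2.1 he).symm, hj, pow_succ, pow_mul, sq, eE _ he, one_pow,
      one_mul] at h2
    exact commutatorElement_eq_one_iff_commute.1 h2
  · rw [map_conj_mul, map_conj_eq_of_mem (inv_mem hz), ← hkZ', map_conj_inv_map_conj]

end Cfsg.Agent.CT8
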