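import Mathlib
import Cfsg.Agent.CT8.RT

/-! S1308, piece CWa: basic facts on cores.  See `stubs/Cfsg/Agent/CT8/PLAN.md`. -/

set_option autoImplicit false
set_option linter.unusedSectionVars false
set_option linter.unusedVariables false

namespace Cfsg.Agent.CT8

open Subgroup Cfsg.Agent.GT Cfsg.Agent.Inv Cfsg.Agent.Cmp
open scoped commutatorElement

variable {G : Type*} [Group G] [Finite G] {𝒦 : Set (Subgroup G)}

variable {K L E Z F : Subgroup G}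

theorem Core.two (c : Core K E Z) : IsPGroup 2 Z :=
  IsPGroup.of_card (n := 4) (by rw [c.cZ]; norm_num)

theorem Core.ne (c : Core K E Z) : Z ≠ E := fun e => by
  have h1 := c.cZ
  rw [e, c.cE] at h1
  omega

theorem Core.card_mul (c : Core K E Z) : Nat.card Z = Nat.card E * Nat.card E := by
  rw [c.cZ, c.cE]

theorem Pt.el (p : Pt K E) : El E :=
  let ⟨_, c⟩ := p
  c.om.el

theorem Pt.le (p : Pt K E) : E ≤ K :=
  let ⟨_, c⟩ := p
  c.om.le.trans c.le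

theorem Pt.card (p : Pt K E) : Nat.card E = 4 :=
  let ⟨_, c⟩ := p
  c.cE

theorem Pt.ne_bot (p : Pt K E) : E ≠ ⊥ := fun e => by
  have h1 := p.card
  rw [e, card_bot] at h1
  omega

/-- Two distinct non-trivial elements generate a group of order 4 and exponent 2. -/
theorem mem_four_cases (hc : Nat.card E = 4) (e : El E) {a b x : G} (ha : a ∈ E) (hb : b ∈ E)
    (ha1 : a ≠ 1) (hb1 : b ≠ 1) (hab : a ≠ b) (hx : x ∈ E) :
    x = 1 ∨ x = a ∨ x = b ∨ x = a * b := by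
  have h1 : a * b ≠ 1 := fun h => hab (mul_right_cancel (h.trans (e b hb).symm))
  have h2 : a * b ≠ a := fun h => hb1 (mul_left_cancel (h.trans (mul_one a).symm))
  have h3 : a * b ≠ b := fun h => ha1 (mul_right_cancel (h.trans (one_mul b).symm))
  have hs : ({1, a, b, a * b} : Set G) ⊆ (E : Set G) := by
    rintro y (rfl | rfl | rfl | rfl)
    · exact one_mem E
    · exact ha
    · exact hb
    · exact mul_mem ha hb
  have h4 : ({1, a, b, a * b} : Set G).ncard = 4 := by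
    rw [Set.ncard_insert_of_notMem, Set.ncard_insert_of_notMem, Set.ncard_pair h3.symm]
    · rintro (h | h)
      · exact hab h
      · exact h2 h.symm
    · rintro (h | h | h)
      · exact ha1 h.symm
      · exact hb1 h.symm
      · exact h1 h.symm
  have h5 : (E : Set G).ncard = 4 := by
    rw [← Nat.card_coe_set_eq]; exact hc
  have h6 := Set.eq_of_subset_of_ncard_le hs (by rw [h4, h5]) (Set.toFinite _)
  have h7 : x ∈ ({1, a, b, a * b} : Set G) := by rw [h6]; exact hx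
  exact h7

theorem CW.bg (h : CW 𝒦) (hK : K ∈ 𝒦) : Bg K := by
  obtain ⟨E, Z, c⟩ := h.ex K hK
  obtain ⟨S, hZS, hS⟩ := exists_syl_ge c.two c.le
  refine bg_of_not_el hS fun he => c.ne (le_antisymm (fun z hz => ?_) c.om.le)
  exact (c.om z).2 ⟨hz, he z (hZS hz)⟩

namespace CWa

theorem aux (h : CW 𝒦) (hK : K ∈ 𝒦) (c : Core K E Z) {X D : Subgroup G} (hX : IsPGroup 2 X)
    (hXK : X ≤ NN K) (hXD : X ≤ NN D) (hZD : Z ≤ D) (hDK : D ≤ K) :
    ∃ g ∈ D, Core K (E ^ᶜ g) (Z ^ᶜ g) ∧ X ≤ NN (Z ^ᶜ g) := by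
  obtain ⟨S, hS, hXS⟩ := exists_inv_syl' hX hXD
  obtain ⟨g, hg, hZ⟩ := hS.exists_conj c.two hZD
  have hle : Z ^ᶜ g ≤ S := map_conj_le_iff_forall.2 hZ
  have c1 : Core K (E ^ᶜ g) (Z ^ᶜ g) := by
    have := c.conj g
    rwa [map_conj_eq_of_mem (hDK hg)] at this
  refine ⟨g, hg, c1, fun x hx => ?_⟩
  have c2 : Core K ((E ^ᶜ g) ^ᶜ x) ((Z ^ᶜ g) ^ᶜ x) := by
    have := c1.conj x
    rwa [map_conj_eq_of_mem_norm (hXK hx)] at this
  have hle2 : (Z ^ᶜ g) ^ᶜ x ≤ S := map_conj_le_of_mem_normalizer hle (hXS hx)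
  exact map_conj_eq_self_iff.1
    (h.uniq K hK _ _ _ _ c1 c2 (hS.two.to_le (sup_le hle hle2))).symm

theorem nn_inf {A B X : Subgroup G} (hA : X ≤ NN A) (hB : X ≤ NN B) : X ≤ NN (A ⊓ B) :=
  fun x hx => map_conj_eq_self_iff.1 (by
    rw [map_conj_inf, map_conj_eq_of_mem_norm (hA hx), map_conj_eq_of_mem_norm (hB hx)])

theorem nn_CC {A X : Subgroup G} (hA : X ≤ NN A) : X ≤ NN (CC A) :=
  fun x hx => map_conj_eq_self_iff.1 (by rw [← CC_conj, map_conj_eq_of_mem_norm (hA hx)])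

end CWa

/-- An invariant core with prescribed point. -/
theorem CW.core_inv (h : CW 𝒦) (hK : K ∈ 𝒦) (p : Pt K E) {X : Subgroup G} (hX : IsPGroup 2 X)
    (hn : X ≤ NN E) : ∃ Z, Core K E Z ∧ X ≤ NN Z := by
  obtain ⟨e, he, he2⟩ := exists_inv_of_ne_bot p.el.two p.ne_bot
  have hXK : X ≤ NN K := fun x hx =>
    h.toTI.mem_NN_of_conj hK (p.le he) (Two.of_two he2) (ne_one_of_two he2)
      (p.le (conj_mem_of_mem_normalizer (hn hx) he))
  obtain ⟨Z, c⟩ := p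
  obtain ⟨g, hg, c1, h1⟩ := CWa.aux h hK c (D := K ⊓ CC E) hX hXK (CWa.nn_inf hXK (CWa.nn_CC hn))
    (le_inf c.le fun z hz => mem_CC.2 fun y hy => c.ab y (c.om.le hy) z hz) inf_le_left
  rw [map_conj_eq_of_mem_norm (CC_le_NN E (mem_inf.1 hg).2)] at c1
  exact ⟨_, c1, h1⟩

/-- An invariant core whose point contains a given point involution. -/
theorem CW.pt_inv (h : CW 𝒦) (hK : K ∈ 𝒦) (p : Pt K E) {d : G} (hd : d ∈ E) (h1 : d ≠ 1)
    {X : Subgroup G} (hX : IsPGroup 2 X) (hc : ∀ x ∈ X, Commute x d) :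
    ∃ B Z, Core K B Z ∧ d ∈ B ∧ X ≤ NN Z := by
  have hXK : X ≤ NN K := fun x hx =>
    h.toTI.mem_NN hK (p.le hd) (Two.of_sq (p.el d hd)) h1 (hc x hx)
  have hXd : X ≤ NN (zpowers d) := fun x hx => map_conj_eq_self_iff.1 (by
    rw [map_conj_zpowers, conj_eq_of_comm (hc x hx)])
  obtain ⟨Z, c⟩ := p
  obtain ⟨g, hg, c1, h2⟩ := CWa.aux h hK c (D := K ⊓ CC (zpowers d)) hX hXK
    (CWa.nn_inf hXK (CWa.nn_CC hXd))
    (le_inf c.le fun z hz => mem_CC.2 fun y hy =>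
      c.ab y (c.om.le (zpowers_le.2 hd hy)) z hz) inf_le_left
  refine ⟨_, _, c1, ?_, h2⟩
  have h3 : g * d * g⁻¹ = d :=
    conj_eq_of_comm (comm_of_CC (mem_inf.1 hg).2 (mem_zpowers d)).symm
  rw [← h3]
  exact conj_mem_map_conj.2 hd

theorem CW.cen (h : CW 𝒦) (hK : K ∈ 𝒦) (hL : L ∈ 𝒦) (hne : K ≠ L) (c : Core K E Z) (q : Pt L F)
    (hn : F ≤ NN Z) : E ≤ CC F := by
  by_cases hc : HC K L
  · intro e he
    exact mem_CC.2 fun f hf =>
      (comm_of_CC (h.toTI.mem_CC_of_hc hK hL hc c.two c.le (q.le hf) (hn hf)) (c.om.le he)).symm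
  · exact (h.rt K hK L hL hne hc E Z F c q hn).EF

theorem CW.hc_of_cen (h : CW 𝒦) (hK : K ∈ 𝒦) (hL : L ∈ 𝒦) (hne : K ≠ L) (c : Core K E Z) {d : G}
    (hd : d ∈ L) (h2 : Two d) (h1 : d ≠ 1) (hc : d ∈ CC Z) : HC K L := by
  by_contra hn
  have h3 := h.small K hK L hL hne hn Z c.le
    (fun z hz => h.toTI.mem_NN hL hd h2 h1 (comm_of_CC hc hz)) c.two
  rw [c.cZ] at h3
  omega

theorem CW.syl (h : CW 𝒦) (hK : K ∈ 𝒦) (hL : L ∈ 𝒦) (hne : K ≠ L) (hc : ¬ HC K L) (p : Pt K E)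
    (hn : E ≤ NN L) : Syl E (K ⊓ NN L) := by
  obtain ⟨S, hS⟩ := exists_syl (K ⊓ NN L)
  refine syl_of_card hS p.el.two (le_inf p.le hn) ?_
  rw [p.card]
  exact h.small K hK L hL hne hc S (hS.le.trans inf_le_left) (hS.le.trans inf_le_right) hS.two

end Cfsg.Agent.CT8
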