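import Mathlib
import Cfsg.Agent.CT8.CWa

/-! S1308, piece CWc: elementary computations in the `L₃`-configuration. -/

set_option autoImplicit false
set_option linter.unusedSectionVars false
set_option linter.unusedVariables false

namespace Cfsg.Agent.CT8

open Subgroup Cfsg.Agent.GT Cfsg.Agent.Inv Cfsg.Agent.Cmp
open scoped commutatorElement

variable {G : Type*} [Group G] [Finite G] {𝒦 : Set (Subgroup G)}

variable {K E Z K1 K2 U V : Subgroup G}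

theorem cwc_ex {X : Subgroup G} (h : X ≠ ⊥) : ∃ x ∈ X, x ≠ 1 := by
  by_contra hn
  exact h ((eq_bot_iff_forall X).2 fun x hx => by_contra fun h1 => hn ⟨x, hx, h1⟩)

theorem cwc_le_CC {X Y : Subgroup G} (h : X ≤ CC Y) : Y ≤ CC X := fun y hy =>
  mem_CC.2 fun x hx => (comm_of_CC (h hx) hy).symm

theorem cwc_comm_mem {g x : G} {X : Subgroup G} (hg : g ∈ NN X) (hx : x ∈ X) : ⁅g, x⁆ ∈ X := by
  rw [commutatorElement_def]
  exact mul_mem (conj_mem_of_mem_normalizer hg hx) (inv_mem hx)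

theorem cwc_comm_symm {x y : G} {X : Subgroup G} (h : ⁅x, y⁆ ∈ X) : ⁅y, x⁆ ∈ X := by
  rw [← commutatorElement_inv]; exact inv_mem h

theorem cwc_mul_left (a b x : G) : ⁅a * b, x⁆ = a * ⁅b, x⁆ * a⁻¹ * ⁅a, x⁆ := by
  simp only [commutatorElement_def]; group

theorem cwc_mul_right (a x y : G) : ⁅a, x * y⁆ = ⁅a, x⁆ * (x * ⁅a, y⁆ * x⁻¹) := by
  simp only [commutatorElement_def]; group

theorem L3c.cwc_ti (l : L3c 𝒦 K1 K2 K U V E) : TI 𝒦 := l.cw.toFm.toTI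

/-- An element of `E` lying in `K₁` is trivial. -/
theorem L3c.cwc_E1 (l : L3c 𝒦 K1 K2 K U V E) {e : G} (he : e ∈ E) (h1 : e ∈ K1) : e = 1 :=
  l.cwc_ti.eq_one l.m1 l.m l.n1 h1 (l.l he) (.of_sq (l.p.el e he))

theorem L3c.not_NN (l : L3c 𝒦 K1 K2 K U V E) {u : G} (hu : u ∈ U) (hn : u ∈ NN K2) : u = 1 := by
  obtain ⟨v, hv, hv1⟩ := cwc_ex l.p2.ne_bot
  have h := l.symm.cwc_E1 (l.com u hu v hv) (cwc_comm_mem hn (l.l2 hv))
  exact (l.ns u hu v hv (commutatorElement_eq_one_iff_commute.1 h)).resolve_right hv1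

theorem L3c.n12 (l : L3c 𝒦 K1 K2 K U V E) : K1 ≠ K2 := fun e => by
  obtain ⟨u, hu, hu1⟩ := cwc_ex l.p1.ne_bot
  exact hu1 (l.not_NN hu (le_normalizer (e ▸ l.l1 hu)))

theorem L3c.cwc_NN (l : L3c 𝒦 K1 K2 K U V E) : U ≤ NN (E ⊔ V) := fun u hu => by
  have hV : V ≤ NN E := (cwc_le_CC l.EV).trans (CC_le_NN E)
  refine mem_normalizer_iff_of_finite.2 fun x hx => ?_
  obtain ⟨e, he, v, hv, rfl⟩ := exists_mul_of_mem_sup hV hx
  have h1 : u * (e * v) * u⁻¹ = (u * e * u⁻¹) * ⁅u, v⁆ * v := by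
    rw [commutatorElement_def]; group
  rw [h1, conj_eq_of_comm (comm_of_CC (l.EU he) hu)]
  exact mul_mem (mem_sup_left (mul_mem he (l.com u hu v hv))) (mem_sup_right hv)

theorem L3c.two (l : L3c 𝒦 K1 K2 K U V E) : IsPGroup 2 ↥(U ⊔ V ⊔ E) := by
  have hV : V ≤ NN E := (cwc_le_CC l.EV).trans (CC_le_NN E)
  have h := two_sup (two_sup l.p.el.two l.p2.el.two hV) l.p1.el.two l.cwc_NN
  have e : U ⊔ V ⊔ E = E ⊔ V ⊔ U := by ac_rfl
  rw [e]; exact h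

theorem L3c.rt (l : L3c 𝒦 K1 K2 K U V E) (c : Core K E Z) (hU : U ≤ NN Z) : Rt E Z U :=
  l.cw.rt K l.m K1 l.m1 l.n1.symm (fun h => l.h1 h.symm) E Z U c l.p1 hU

theorem cwc_comm_of_eq {u v v' : G} (h : ⁅u, v⁆ = ⁅u, v'⁆) : Commute u (v'⁻¹ * v) := by
  have h1 : v * u⁻¹ * v⁻¹ = v' * u⁻¹ * v'⁻¹ := by
    have : u⁻¹ * ⁅u, v⁆ = u⁻¹ * ⁅u, v'⁆ := by rw [h]
    simpa only [commutatorElement_def, mul_assoc, inv_mul_cancel_left] using this
  have h2 : v'⁻¹ * v * u⁻¹ * (v'⁻¹ * v)⁻¹ = u⁻¹ := by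
    calc v'⁻¹ * v * u⁻¹ * (v'⁻¹ * v)⁻¹ = v'⁻¹ * (v * u⁻¹ * v⁻¹) * v' := by group
      _ = u⁻¹ := by rw [h1]; group
  exact (Commute.inv_right_iff.1 (comm_of_conj_eq h2)).symm

theorem L3c.surj (l : L3c 𝒦 K1 K2 K U V E) {u e : G} (hu : u ∈ U) (h1 : u ≠ 1) (he : e ∈ E) :
    ∃ v ∈ V, ⁅u, v⁆ = e := by
  let f : V → E := fun v => ⟨⁅u, (v : G)⁆, l.com u hu v v.2⟩
  have hf : Function.Injective f := fun v v' h => by
    have hc := cwc_comm_of_eq (congrArg Subtype.val h)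
    have := (l.ns u hu _ (mul_mem (inv_mem v'.2) v.2) hc).resolve_left h1
    exact Subtype.ext (inv_mul_eq_one.1 this).symm
  obtain ⟨v, hv⟩ := (hf.bijective_of_nat_card_le (by rw [l.p.card, l.p2.card])).2 ⟨e, he⟩
  exact ⟨v, v.2, congrArg Subtype.val hv⟩

/-- If `r` and `v` act in the same way on one element of `U#`, they do so on all of `U`. -/
theorem L3c.cwc_key (l : L3c 𝒦 K1 K2 K U V E) (c : Core K E Z) (hU : U ≤ NN Z) {r v u : G}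
    (hr : r ∈ Z) (hv : v ∈ V) (hu : u ∈ U) (h1 : u ≠ 1) (h : ⁅u, r⁆ = ⁅u, v⁆) :
    r * v ∈ CC U := by
  have hc := cwc_comm_of_eq h
  have hn : v⁻¹ * r ∈ NN K1 := l.cwc_ti.mem_NN l.m1 (l.l1 hu) (.of_sq (l.p1.el u hu)) h1 hc.symm
  have hg : v⁻¹ * r ∈ CC U := mem_CC.2 fun w hw => by
    have h2 : ⁅v⁻¹ * r, w⁆ ∈ E := by
      have h3 := (l.rt c hU).com r hr w hw
      rw [cwc_mul_left, conj_eq_of_comm (comm_of_CC (l.EV h3) (inv_mem hv))]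
      exact mul_mem h3 (l.symm.com _ (inv_mem hv) w hw)
    exact (commutatorElement_eq_one_iff_commute.1
      (l.cwc_E1 h2 (cwc_comm_mem hn (l.l1 hw)))).symm
  have e : r * v = r * r * (v⁻¹ * r)⁻¹ := by group
  rw [e]
  exact mul_mem (l.EU (c.sq r hr)) (inv_mem hg)

/-- The `y² = 1` lemma in the configuration. -/
theorem L3c.cwc_ysq (l : L3c 𝒦 K1 K2 K U V E) {y : G} (hU : y ∈ CC U) (hE : y ∈ CC E)
    (h2 : y * y ∈ E) : y * y = 1 := by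
  have hy : Two y := ⟨2, by
    have : y ^ 2 ^ 2 = y * y * (y * y) := by
      rw [show (2 : ℕ) ^ 2 = 4 by norm_num]; simp only [pow_succ, pow_zero, one_mul, mul_assoc]
    rw [this, l.p.el _ h2]⟩
  have hX : IsPGroup 2 ↥(E ⊔ zpowers y) :=
    two_sup l.p.el.two hy.isPGroup (zpowers_le.2 (CC_le_NN E hE))
  obtain ⟨ZU, cU, hn⟩ := l.cw.core_inv l.m1 l.p1 hX
    ((sup_le l.EU (zpowers_le.2 hU)).trans (CC_le_NN U))
  have r := l.cw.rt K1 l.m1 K l.m l.n1 l.h1 U ZU E cU l.p (le_sup_left.trans hn)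
  refine r.ysq l.p1.el l.p.ne_bot cU.ne ?_ ?_ (hn (mem_sup_right (mem_zpowers y))) h2
  · exact (eq_bot_iff_forall _).2 fun x hx => l.cwc_E1 hx.2 (l.l1 hx.1)
  · rw [CC, centralizer_sup]; exact mem_inf.2 ⟨hU, hE⟩

theorem L3c.cwc_sq (l : L3c 𝒦 K1 K2 K U V E) (c : Core K E Z) (hV : V ≤ NN Z) {r v : G}
    (hr : r ∈ Z) (hv : v ∈ V) (h : r * v ∈ CC U) : r * v * (r * v) = 1 := by
  refine l.cwc_ysq h (mul_mem (mem_CC.2 fun e he => c.ab e (c.om.le he) r hr)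
    (cwc_le_CC l.EV hv)) ?_
  have e : r * v * (r * v) = r * r * ⁅r⁻¹, v⁆ * (v * v) := by
    rw [commutatorElement_def]; group
  rw [e, l.p2.el v hv, mul_one]
  exact mul_mem (c.sq r hr) ((l.symm.rt c hV).com _ (inv_mem hr) v hv)

/-- `V` and the core act in the same way on the line `U E`. -/
theorem L3c.exists_v (l : L3c 𝒦 K1 K2 K U V E) (c : Core K E Z) (hU : U ≤ NN Z) (hV : V ≤ NN Z)
    {r : G} (hr : r ∈ Z) : ∃ v ∈ V, r * v ∈ CC U ∧ (r ∉ E → v ≠ 1 ∧ r * v * (r * v) = 1) := by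
  obtain ⟨u, hu, hu1⟩ := cwc_ex l.p1.ne_bot
  obtain ⟨v, hv, e⟩ := l.surj hu hu1 (cwc_comm_symm ((l.rt c hU).com r hr u hu))
  have h := l.cwc_key c hU hr hv hu hu1 e.symm
  refine ⟨v, hv, h, fun hE => ⟨fun h1 => ?_, l.cwc_sq c hV hr hv h⟩⟩
  rw [h1, mul_one] at h
  exact ((l.rt c hU).ns r hr u hu (comm_of_CC h hu).symm).elim hE hu1

theorem L3c.exists_r (l : L3c 𝒦 K1 K2 K U V E) (c : Core K E Z) (hU : U ≤ NN Z) (hV : V ≤ NN Z)
    {v : G} (hv : v ∈ V) : ∃ r ∈ Z, r * v ∈ CC U := by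
  obtain ⟨u, hu, hu1⟩ := cwc_ex l.p1.ne_bot
  obtain ⟨r, hr, e⟩ := (l.rt c hU).surj' c.card_mul hu hu1 (l.symm.com v hv u hu)
  refine ⟨r, hr, l.cwc_key c hU hr hv hu hu1 ?_⟩
  rw [← commutatorElement_inv r u, e, commutatorElement_inv]

theorem L3c.v_unique (l : L3c 𝒦 K1 K2 K U V E) {r v v' : G} (hv : v ∈ V) (hv' : v' ∈ V)
    (h : r * v ∈ CC U) (h' : r * v' ∈ CC U) : v = v' := by
  obtain ⟨u, hu, hu1⟩ := cwc_ex l.p1.ne_bot
  have h1 : v⁻¹ * v' ∈ CC U := by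
    have := mul_mem (inv_mem h) h'
    simpa only [mul_inv_rev, mul_assoc, inv_mul_cancel_left] using this
  exact inv_mul_eq_one.1
    ((l.ns u hu _ (mul_mem (inv_mem hv) hv') (comm_of_CC h1 hu)).resolve_left hu1)

/-- Symmetry of the commutator pairing. -/
theorem L3c.sym (l : L3c 𝒦 K1 K2 K U V E) (c : Core K E Z) (hU : U ≤ NN Z) (hV : V ≤ NN Z)
    {r r' v v' : G} (hr : r ∈ Z) (hr' : r' ∈ Z) (hv : v ∈ V) (hv' : v' ∈ V) (h : r * v ∈ CC U)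
    (h' : r' * v' ∈ CC U) : ⁅r, v'⁆ = ⁅r', v⁆ := by
  have rt := l.symm.rt c hV
  have ha := rt.com r hr v' hv'
  have hb := rt.com r' hr' v hv
  have hvv := mul_mem hv hv'
  have h'' : r * r' * (v * v') ∈ CC U := by
    have he := rt.com _ (inv_mem hr') v hv
    have e : r * r' * (v * v') = r * v * (r' * v') * ((v * v')⁻¹ * ⁅r'⁻¹, v⁆ * (v * v'))⁻¹ := by
      rw [commutatorElement_def]; group
    have e2 : (v * v')⁻¹ * ⁅r'⁻¹, v⁆ * (v * v') = ⁅r'⁻¹, v⁆ := by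
      have := conj_eq_of_comm (comm_of_CC (l.EV he) (inv_mem hvv))
      rwa [inv_inv] at this
    rw [e, e2]
    exact mul_mem (mul_mem h h') (inv_mem (l.EU he))
  have h1 := (inverts_iff_mul_sq (l.p2.el v hv)).2 (l.cwc_sq c hV hr hv h)
  have h2 := (inverts_iff_mul_sq (l.p2.el v' hv')).2 (l.cwc_sq c hV hr' hv' h')
  have h5 := (inverts_iff_mul_sq (l.p2.el _ hvv)).2 (l.cwc_sq c hV (mul_mem hr hr') hvv h'')
  have h6 := conj_eq_of_comm (comm_of_CC (l.EV (inv_mem ha)) hv)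
  have h3 : v' * r * v'⁻¹ = ⁅r, v'⁆⁻¹ * r := by rw [commutatorElement_def]; group
  have h4 : v * r' * v⁻¹ = ⁅r', v⁆⁻¹ * r' := by rw [commutatorElement_def]; group
  have h7 : v * v' * (r * r') * (v * v')⁻¹ = ⁅r, v'⁆⁻¹ * (r⁻¹ * r'⁻¹ * ⁅r', v⁆) := by
    calc v * v' * (r * r') * (v * v')⁻¹ = v * ((v' * r * v'⁻¹) * (v' * r' * v'⁻¹)) * v⁻¹ := by group
      _ = (v * ⁅r, v'⁆⁻¹ * v⁻¹) * (v * r * v⁻¹) * (v * r' * v⁻¹)⁻¹ := by rw [h3, h2]; group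
      _ = _ := by rw [h6, h1, h4]; group
  have hc : Commute (r⁻¹ * r'⁻¹) ⁅r', v⁆ :=
    c.ab _ (mul_mem (inv_mem hr) (inv_mem hr')) _ (c.om.le hb)
  rw [h5, mul_inv_rev, (c.ab _ (inv_mem hr') _ (inv_mem hr)).eq, hc.eq, ← mul_assoc] at h7
  have h8 : ⁅r, v'⁆⁻¹ * ⁅r', v⁆ = 1 := by
    have := h7.symm
    rwa [mul_eq_right] at this
  exact inv_mul_eq_one.1 h8

/-- `x = r v u` centralizes `U`, `V` and the core. -/
theorem L3c.x_cen (l : L3c 𝒦 K1 K2 K U V E) (c : Core K E Z) (hU : U ≤ NN Z) (hV : V ≤ NN Z)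
    {r u v : G} (hr : r ∈ Z) (hu : u ∈ U) (hv : v ∈ V) (h : r * v ∈ CC U) (h' : r * u ∈ CC V) :
    r * v * u ∈ CC U ∧ r * v * u ∈ CC V ∧ r * v * u ∈ CC Z ∧ r * v * u * (r * v * u) = 1 := by
  refine ⟨mul_mem h (l.p1.el.ab.le_CC hu), ?_, mem_CC.2 fun r' hr' => ?_, ?_⟩
  · have e : r * v * u = r * u * (⁅u⁻¹, v⁆ * v) := by rw [commutatorElement_def]; group
    rw [e]
    exact mul_mem h' (mul_mem (l.EV (l.com _ (inv_mem hu) v hv)) (l.p2.el.ab.le_CC hv))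
  · obtain ⟨v', hv', h2, -⟩ := l.exists_v c hU hV hr'
    have hs := l.sym c hU hV hr hr' hv hv' h h2
    have hb := l.com u hu v' hv'
    have hb' := cwc_comm_symm hb
    have e1 : ⁅r', u⁆ = ⁅u, v'⁆ := by
      have := commutatorElement_eq_one_iff_commute.2 (comm_of_CC h2 hu).symm
      rw [cwc_mul_left, conj_eq_of_comm (c.ab _ hr' _ (c.om.le hb'))] at this
      rw [← commutatorElement_inv v' u]
      exact (inv_eq_of_mul_eq_one_right this).symm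
    have e2 : ⁅r, v'⁆ = ⁅u, v'⁆⁻¹ := by
      have := commutatorElement_eq_one_iff_commute.2 (comm_of_CC h' hv').symm
      rw [cwc_mul_left, conj_eq_of_comm (c.ab _ hr _ (c.om.le hb))] at this
      exact (inv_eq_of_mul_eq_one_right this).symm
    have e3 : Commute r' (v * u) := by
      rw [← commutatorElement_eq_one_iff_commute, cwc_mul_right, ← hs, e1, e2,
        conj_eq_of_comm (comm_of_CC (l.EV hb) hv), inv_mul_cancel]
    rw [mul_assoc]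
    exact (c.ab _ hr' _ hr).mul_right e3
  · have hc := comm_of_CC h hu
    calc r * v * u * (r * v * u) = r * v * (u * (r * v)) * u := by group
      _ = r * v * (r * v) * (u * u) := by rw [hc.eq]; group
      _ = 1 := by rw [l.cwc_sq c hV hr hv h, l.p1.el u hu, one_mul]

end Cfsg.Agent.CT8
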