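import Mathlib
import Cfsg.Agent.CT8.CWc
import Cfsg.Agent.CT8.ALG

/-! The splitting lemma and the tori in the world of cores (S1308, piece CWb). -/

set_option autoImplicit false
set_option linter.unusedSectionVars false
set_option linter.unusedVariables false

namespace Cfsg.Agent.CT8

open Subgroup Cfsg.Agent.GT Cfsg.Agent.Inv Cfsg.Agent.Cmp
open scoped commutatorElement

variable {G : Type*} [Group G] [Finite G] {𝒦 : Set (Subgroup G)}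

variable {K L P Q Z Y : Subgroup G}

namespace CWb

theorem cm_mul_left (a b c : G) : ⁅a * b, c⁆ = a * ⁅b, c⁆ * a⁻¹ * ⁅a, c⁆ := by
  simp only [commutatorElement_def]; group

theorem cm_mul_right (a b c : G) : ⁅a, b * c⁆ = ⁅a, b⁆ * (b * ⁅a, c⁆ * b⁻¹) := by
  simp only [commutatorElement_def]; group

theorem mul_left (r : Rt P Z Q) {z z' q : G} (hz : z ∈ Z) (hz' : z' ∈ Z) (hq : q ∈ Q) :
    ⁅z * z', q⁆ = ⁅z, q⁆ * ⁅z', q⁆ := by
  rw [cm_mul_left, conj_eq_of_comm (comm_of_CC (r.cen (r.com _ hz' _ hq)) hz),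
    (comm_of_CC (r.cen (r.com _ hz' _ hq)) (r.le (r.com _ hz _ hq))).eq]

theorem mul_right (r : Rt P Z Q) {z q q' : G} (hz : z ∈ Z) (hq : q ∈ Q) (hq' : q' ∈ Q) :
    ⁅z, q * q'⁆ = ⁅z, q⁆ * ⁅z, q'⁆ := by
  rw [cm_mul_right, conj_eq_of_comm (comm_of_CC (r.EF (r.com _ hz _ hq')) hq)]

theorem comm_of_eq {z z' q : G} (h : ⁅z, q⁆ = ⁅z', q⁆) : Commute (z'⁻¹ * z) q := by
  refine comm_of_conj_eq ?_
  calc z'⁻¹ * z * q * (z'⁻¹ * z)⁻¹ = z'⁻¹ * ⁅z, q⁆ * q * z' := by rw [commutatorElement_def]; group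
    _ = q := by rw [h, commutatorElement_def]; group

theorem eq_of_comm {z z' q : G} (h : Commute (z'⁻¹ * z) q) : ⁅z, q⁆ = ⁅z', q⁆ := by
  calc ⁅z, q⁆ = z' * (z'⁻¹ * z * q * (z'⁻¹ * z)⁻¹) * z'⁻¹ * q⁻¹ := by rw [commutatorElement_def]; group
    _ = ⁅z', q⁆ := by rw [conj_eq_of_comm h, commutatorElement_def]

theorem phi_eq (r : Rt P Z Q) {z z' q0 : G} (hz : z ∈ Z) (hz' : z' ∈ Z) (h0 : q0 ∈ Q) (h1 : q0 ≠ 1)
    (h : ⁅z, q0⁆ = ⁅z', q0⁆) {q : G} (hq : q ∈ Q) : ⁅z, q⁆ = ⁅z', q⁆ :=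
  eq_of_comm (comm_of_CC (r.EF
    ((r.ns _ (mul_mem (inv_mem hz') hz) _ h0 (comm_of_eq h)).resolve_right h1)) hq).symm

theorem phi_one (r : Rt P Z Q) {z q : G} (hz : z ∈ Z) (hP : z ∉ P) (hq : q ∈ Q) (h : ⁅z, q⁆ = 1) : q = 1 :=
  (r.ns _ hz _ hq (commutatorElement_eq_one_iff_commute.1 h)).resolve_left hP

theorem phi_inj (r : Rt P Z Q) {z q q' : G} (hz : z ∈ Z) (hP : z ∉ P) (hq : q ∈ Q) (hq' : q' ∈ Q)
    (h : ⁅z, q⁆ = ⁅z, q'⁆) : q = q' := by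
  have h1 : ⁅q, z⁆ = ⁅q', z⁆ := by rw [← commutatorElement_inv, h, commutatorElement_inv]
  exact (inv_mul_eq_one.1 ((r.ns _ hz _ (mul_mem (inv_mem hq') hq) (comm_of_eq h1).symm).resolve_left hP)).symm

theorem phi_triv (r : Rt P Z Q) {z q : G} (hP : z ∈ P) (hq : q ∈ Q) : ⁅z, q⁆ = 1 :=
  commutatorElement_eq_one_iff_commute.2 (comm_of_CC (r.EF hP) hq).symm

/-- A fixed point free automorphism of `P`. -/
structure Fp (P : Subgroup G) (f : G → G) : Prop where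
  mem : ∀ p ∈ P, f p ∈ P
  mul : ∀ p ∈ P, ∀ p' ∈ P, f (p * p') = f p * f p'
  inj : ∀ p ∈ P, f p = 1 → p = 1
  fpf : ∀ p ∈ P, f p = p → p = 1

theorem Fp.one {f : G → G} (h : Fp P f) : f 1 = 1 := by
  have := h.mul 1 (one_mem _) 1 (one_mem _)
  rw [mul_one] at this
  exact mul_eq_left.1 this.symm

theorem Fp.cases {f g : G → G} (hc : Nat.card P = 4) (e : El P) (h : Fp P f) (h' : Fp P g) {p : G}
    (hp : p ∈ P) (h1 : p ≠ 1) : g p = f p ∨ g p = p * f p := by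
  rcases mem_four_cases hc e hp (h.mem p hp) h1 (fun k => h1 (h.inj p hp k))
    (fun k => h1 (h.fpf p hp k.symm)) (h'.mem p hp) with k | k | k | k
  exacts [absurd (h'.inj p hp k) h1, absurd (h'.fpf p hp k) h1, .inl k, .inr k]

theorem Fp.sq {f : G → G} (hc : Nat.card P = 4) (e : El P) (h : Fp P f) {p : G} (hp : p ∈ P) :
    f (f p) = p * f p := by
  by_cases h1 : p = 1
  · rw [h1, h.one, h.one, mul_one]
  have h2 := h.mem p hp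
  have h3 : f p ≠ 1 := fun k => h1 (h.inj p hp k)
  have h4 : p ≠ f p := fun k => h1 (h.fpf p hp k.symm)
  rcases mem_four_cases hc e hp h2 h1 h3 h4 (h.mem _ h2) with k | k | k | k
  · exact absurd (h.inj _ h2 k) h3
  · have h5 := h.fpf _ (mul_mem hp h2) (by rw [h.mul _ hp _ h2, k, (e.ab _ h2 _ hp).eq])
    exact absurd (mul_left_cancel ((e p hp).trans h5.symm)) h4
  · exact absurd (h.fpf _ h2 k) h3
  · exact k

theorem Fp.cube {f : G → G} (hc : Nat.card P = 4) (e : El P) (h : Fp P f) {p : G} (hp : p ∈ P) :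
    f (f (f p)) = p := by
  have h2 := h.mem p hp
  rw [h.sq hc e h2, h.sq hc e hp, ← mul_assoc, (e.ab _ h2 _ hp).eq, mul_assoc, e _ h2, mul_one]

theorem Fp.comm {f g : G → G} (hc : Nat.card P = 4) (e : El P) (h : Fp P f) (h' : Fp P g) {p : G}
    (hp : p ∈ P) : g (f p) = f (g p) := by
  by_cases h1 : p = 1
  · rw [h1, h.one, h'.one, h.one]
  have h2 := h.mem p hp
  rcases h.cases hc e h' hp h1 with k | k
  · rw [k, h.sq hc e hp, ← k, h'.sq hc e hp]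
  · have h3 : f p = g (g p) := by rw [h'.sq hc e hp, k, ← mul_assoc, e p hp, one_mul]
    rw [h3, h'.cube hc e hp, k, ← h.sq hc e hp, h.cube hc e hp]

theorem fp_conj {k : G} (hk : k ∈ NN P) (hf : ∀ p ∈ P, Commute k p → p = 1) :
    Fp P fun p => k * p * k⁻¹ :=
  ⟨fun p hp => conj_mem_of_mem_normalizer hk hp, fun p _ p' _ => by group,
    fun p _ e => by simpa using e, fun p hp e => hf p hp (comm_of_conj_eq e)⟩

theorem exists_ne (hc : Nat.card P = 4) : ∃ p ∈ P, p ≠ 1 := by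
  by_contra h
  have : P = ⊥ := eq_bot_iff.2 fun p hp => by_contra fun k => h ⟨p, hp, k⟩
  rw [this, card_bot] at hc
  omega

theorem exists_two (hc : Nat.card P = 4) : ∃ a ∈ P, ∃ b ∈ P, a ≠ 1 ∧ b ≠ 1 ∧ a ≠ b := by
  obtain ⟨a, ha, h1⟩ := exists_ne hc
  by_contra h
  have h2 : (P : Set G) ⊆ {1, a} := fun b hb => by_contra fun k => by
    simp only [Set.mem_insert_iff, Set.mem_singleton_iff, not_or] at k
    exact h ⟨a, ha, b, hb, h1, k.1, Ne.symm k.2⟩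
  have h3 := Set.ncard_le_ncard h2 (Set.toFinite _)
  rw [Set.ncard_pair h1.symm, ← Nat.card_coe_set_eq] at h3
  have : Nat.card (P : Set G) = 4 := hc
  omega

theorem rts (h : CW 𝒦) (hK : K ∈ 𝒦) (hL : L ∈ 𝒦) (hne : K ≠ L) (hc : ¬ HC K L)
    (c : Core K P Z) (c' : Core L Q Y) (hQ : Q ≤ NN Z) (hP : P ≤ NN Y) : Rt P Z Q ∧ Rt Q Y P :=
  ⟨h.rt K hK L hL hne hc P Z Q c ⟨Y, c'⟩ hQ,
    h.rt L hL K hK hne.symm (fun e => hc e.symm) Q Y P c' ⟨Z, c⟩ hP⟩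

theorem swap (h : CW 𝒦) (hK : K ∈ 𝒦) (hL : L ∈ 𝒦) (hne : K ≠ L) (hc : ¬ HC K L)
    (c : Core K P Z) (c' : Core L Q Y) (hQ : Q ≤ NN Z) (hP : P ≤ NN Y) {z : G} (hz : z ∈ Z) (h1 : z ∉ P) :
    ∃ y ∈ Y, (∀ q ∈ Q, ⁅y, ⁅z, q⁆⁆ = q) ∧ (∀ p ∈ P, ⁅z, ⁅y, p⁆⁆ = p) ∧
      (∀ q ∈ Q, z * y * z * q * (z * y * z)⁻¹ = ⁅z, q⁆) ∧
      ∀ p ∈ P, z * y * z * p * (z * y * z)⁻¹ = ⁅y, p⁆ :=
  let ⟨r, r'⟩ := rts h hK hL hne hc c c' hQ hP
  r.exists_swap r' h.toTI hK hL hne c.le c'.le c.om.el c'.om.el (c.cE.trans c'.cE.symm) c'.card_mul hz h1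

theorem le_NN (h : TI 𝒦) (hL : L ∈ 𝒦) (q : Pt L Q) (hP : P ≤ CC Q) : P ≤ NN L := fun p hp =>
  let ⟨a, ha, h1⟩ := exists_ne q.card
  h.mem_NN hL (q.le ha) (Two.of_sq (q.el a ha)) h1 (comm_of_CC (hP hp) ha).symm

end CWb

open CWb

/-- The splitting lemma. -/
theorem CW.split (h : CW 𝒦) (hK : K ∈ 𝒦) (hL : L ∈ 𝒦) (hne : K ≠ L) (hc : ¬ HC K L)
    (c : Core K P Z) (c' : Core L Q Y) (hQ : Q ≤ NN Z) (hP : P ≤ NN Y) {m : G} (hm : m ∈ CC P)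
    (hY : m ∈ CC Y) (hZ : m ∈ NN Z) : ∃ q ∈ Q, m * q ∈ CC Z := by
  obtain ⟨r, r'⟩ := rts h hK hL hne hc c c' hQ hP
  obtain ⟨q0, hq0, h0⟩ := exists_ne c'.cE
  have k1 : ∀ z ∈ Z, ⁅m, z⁆ ∈ P := fun z hz => by
    have h1 : z⁻¹ * (m * z * m⁻¹) ∈ P := by
      refine (r.ns _ (mul_mem (inv_mem hz) (conj_mem_of_mem_normalizer hZ hz)) _ hq0
        (comm_of_eq ?_)).resolve_right h0
      conv_lhs => rw [← conj_eq_of_comm (comm_of_CC hY (r'.le hq0)).symm, ← conjugate_commutatorElement]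
      exact conj_eq_of_comm (comm_of_CC hm (r.com _ hz _ hq0)).symm
    rw [show ⁅m, z⁆ = z * (z⁻¹ * (m * z * m⁻¹)) * z⁻¹ by rw [commutatorElement_def]; group,
      conj_eq_of_comm (comm_of_CC (r.cen h1) hz)]
    exact h1
  obtain ⟨z, hz, hzP⟩ : ∃ z ∈ Z, z ∉ P := by
    by_contra k
    exact c.ne (le_antisymm (fun z hz => by_contra fun e => k ⟨z, hz, e⟩) r.le)
  obtain ⟨y, hy, -, -, s1, s2⟩ := swap h hK hL hne hc c c' hQ hP hz hzP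
  obtain ⟨q, hq, e⟩ := r.surj (c.cE.trans c'.cE.symm) hz hzP (k1 z hz)
  have k2 : Commute z (m * q) := by
    refine (comm_of_conj_eq ?_).symm
    calc m * q * z * (m * q)⁻¹ = (m * ⁅z, q⁆ * m⁻¹)⁻¹ * ⁅m, z⁆ * z := by
          simp only [commutatorElement_def]; group
      _ = z := by rw [conj_eq_of_comm (comm_of_CC hm (r.com _ hz _ hq)).symm, e, inv_mul_cancel, one_mul]
  have k3 : m * q ∈ CC Y := mul_mem hY (r'.cen hq)
  have k4 : Commute (z * y * z) (m * q) := (k2.mul_left (comm_of_CC k3 hy)).mul_left k2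
  have w1 : Q ^ᶜ (z * y * z) = P := eq_of_le_of_card_ge
    (map_conj_le_iff_forall.2 fun a ha => s1 a ha ▸ r.com _ hz _ ha) (by rw [card_map_conj, c.cE, c'.cE])
  have w2 : P ^ᶜ (z * y * z) = Q := eq_of_le_of_card_ge
    (map_conj_le_iff_forall.2 fun a ha => s2 a ha ▸ r'.com _ hy _ ha) (by rw [card_map_conj, c.cE, c'.cE])
  have c2 := c'.conj (z * y * z)
  have r2 := r'.conj (z * y * z)
  rw [w1] at c2
  rw [w1, w2] at r2
  obtain ⟨p0, hp0, h1⟩ := exists_ne c.cE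
  have w3 : L ^ᶜ (z * y * z) = K := h.toTI.eq_of_two (h.conj L hL _) hK (c2.le (c2.om.le hp0))
    (c.le (c.om.le hp0)) (Two.of_sq (c.om.el _ hp0)) h1
  rw [w3] at c2
  have k5 : ∀ a ∈ Y ^ᶜ (z * y * z), Commute a (m * q) := fun a ha => by
    obtain ⟨b, hb, rfl⟩ := mem_map_conj_iff_exists.1 ha
    exact (k4.mul_left (comm_of_CC k3 hb)).mul_left k4.inv_left
  obtain ⟨d, -, -, -, d1, d2⟩ := h.toTI.rt_conj hK hL hne (c'.om.le.trans c'.le) c.om.el c'.om.el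
    (Pt.ne_bot ⟨Y, c'⟩) (h.syl hK hL hne hc ⟨Z, c⟩ (le_NN h.toTI hL ⟨Y, c'⟩ r.EF)) r r2 c.le c2.le
    c.card_mul c2.card_mul (M := {m * q})
    (by rintro _ rfl; exact mul_mem hm (r'.EF hq))
    (by
      rintro _ rfl a ha
      rw [cm_mul_right, ← commutatorElement_inv]
      exact mul_mem (inv_mem (k1 a ha)) (conj_mem_of_mem_normalizer (CC_le_NN _ hm) (r.com _ ha _ hq)))
    (by
      rintro _ rfl a ha
      rw [commutatorElement_eq_one_iff_commute.2 (k5 a ha)]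
      exact one_mem _)
  refine ⟨q, hq, mem_CC.2 fun a ha => ?_⟩
  have h2 := k5 _ (d2 ▸ conj_mem_map_conj.2 ha)
  have h3 := d1 _ rfl
  have := (h3.inv_left.mul_left h2).mul_left h3
  rwa [show d⁻¹ * (d * a * d⁻¹) * d = a by group] at this

/-- The torus of a line. -/
theorem CW.exists_k (h : CW 𝒦) (hK : K ∈ 𝒦) (hL : L ∈ 𝒦) (hne : K ≠ L) (hc : ¬ HC K L)
    (c : Core K P Z) (c' : Core L Q Y) (hQ : Q ≤ NN Z) (hP : P ≤ NN Y) :
    ∃ k ∈ Z ⊔ Y, k ∈ NN P ∧ k ∈ NN Q ∧ (∀ p ∈ P, Commute k p → p = 1) ∧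
      (∀ q ∈ Q, Commute k q → q = 1) ∧
      ∀ z ∈ Z, ∀ q ∈ Q, k * ⁅z, k * q * k⁻¹⁆ * k⁻¹ = ⁅z, q⁆ := by
  obtain ⟨r, r'⟩ := rts h hK hL hne hc c c' hQ hP
  obtain ⟨q0, hq0, h0⟩ := exists_ne c'.cE
  obtain ⟨p1, hp1, p2, hp2, n1, n2, n12⟩ := exists_two c.cE
  obtain ⟨z1, hz1, e1⟩ := r.surj' c.card_mul hq0 h0 hp1
  obtain ⟨z2, hz2, e2⟩ := r.surj' c.card_mul hq0 h0 hp2
  have m1 : z1 ∉ P := fun e => n1 (e1 ▸ phi_triv r e hq0)
  have m2 : z2 ∉ P := fun e => n2 (e2 ▸ phi_triv r e hq0)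
  obtain ⟨y1, hy1, a1, b1, s1, t1⟩ := swap h hK hL hne hc c c' hQ hP hz1 m1
  obtain ⟨y2, hy2, a2, b2, s2, t2⟩ := swap h hK hL hne hc c c' hQ hP hz2 m2
  have hw : z1 * y1 * z1 * (z2 * y2 * z2) ∈ Z ⊔ Y :=
    mul_mem (mul_mem (mul_mem (mem_sup_left hz1) (mem_sup_right hy1)) (mem_sup_left hz1))
      (mul_mem (mul_mem (mem_sup_left hz2) (mem_sup_right hy2)) (mem_sup_left hz2))
  generalize z1 * y1 * z1 = w1 at s1 t1 hw
  generalize z2 * y2 * z2 = w2 at s2 t2 hw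
  have kP : ∀ p ∈ P, w1 * w2 * p * (w1 * w2)⁻¹ = ⁅z1, ⁅y2, p⁆⁆ := fun p hp => by
    rw [← s1 _ (r'.com _ hy2 _ hp), ← t2 p hp]; group
  have kQ : ∀ q ∈ Q, w1 * w2 * q * (w1 * w2)⁻¹ = ⁅y1, ⁅z2, q⁆⁆ := fun q hq => by
    rw [← t1 _ (r.com _ hz2 _ hq), ← s2 q hq]; group
  have ne : ∀ q ∈ Q, ⁅z1, q⁆ = ⁅z2, q⁆ → q = 1 := fun q hq e => by_contra fun k =>
    n12 (e1 ▸ e2 ▸ phi_eq r hz1 hz2 hq k e hq0)
  refine ⟨w1 * w2, hw, mem_normalizer_iff_of_finite.2 fun p hp => ?_,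
    mem_normalizer_iff_of_finite.2 fun q hq => ?_, fun p hp e => ?_, fun q hq e => ?_, fun z hz q hq => ?_⟩
  · exact kP p hp ▸ r.com _ hz1 _ (r'.com _ hy2 _ hp)
  · exact kQ q hq ▸ r'.com _ hy1 _ (r.com _ hz2 _ hq)
  · have h1 := ne _ (r'.com _ hy2 _ hp) (by rw [← kP p hp, conj_eq_of_comm e, b2 p hp])
    rw [← b2 p hp, h1, commutatorElement_one_right]
  · refine ne q hq ?_
    rw [← b1 _ (r.com _ hz2 _ hq), ← kQ q hq, conj_eq_of_comm e]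
  have hq' := r'.com _ hy1 _ (r.com _ hz2 _ hq)
  have g1 : w1 * w2 * ⁅z1, ⁅y1, ⁅z2, q⁆⁆⁆ * (w1 * w2)⁻¹ = ⁅z1, q⁆ := by
    rw [b1 _ (r.com _ hz2 _ hq), kP _ (r.com _ hz2 _ hq), a2 q hq]
  have g2 : w1 * w2 * ⁅z2, ⁅y1, ⁅z2, q⁆⁆⁆ * (w1 * w2)⁻¹ = ⁅z2, q⁆ := by
    rw [kP _ (r.com _ hz2 _ hq'), a2 _ hq', b1 _ (r.com _ hz2 _ hq)]
  rw [kQ q hq]
  rcases mem_four_cases c.cE c.om.el hp1 hp2 n1 n2 n12 (r.com _ hz _ hq0) with k | k | k | k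
  · have k' : ⁅z, q0⁆ = ⁅(1 : G), q0⁆ := by rw [k, commutatorElement_one_left]
    rw [phi_eq r hz (one_mem _) hq0 h0 k' hq, phi_eq r hz (one_mem _) hq0 h0 k' hq']
    simp
  · rw [phi_eq r hz hz1 hq0 h0 (k.trans e1.symm) hq, phi_eq r hz hz1 hq0 h0 (k.trans e1.symm) hq', g1]
  · rw [phi_eq r hz hz2 hq0 h0 (k.trans e2.symm) hq, phi_eq r hz hz2 hq0 h0 (k.trans e2.symm) hq', g2]
  · have k' : ⁅z, q0⁆ = ⁅z1 * z2, q0⁆ := by rw [mul_left r hz1 hz2 hq0, e1, e2, k]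
    rw [phi_eq r hz (mul_mem hz1 hz2) hq0 h0 k' hq, phi_eq r hz (mul_mem hz1 hz2) hq0 h0 k' hq',
      mul_left r hz1 hz2 hq, mul_left r hz1 hz2 hq', ← conj_mul, g1, g2]

/-- The maps `p ↦ ⁅z, ⁅y, p⁆⁆` commute with fixed point free automorphisms of `P`. -/
theorem CW.fa (h : CW 𝒦) (hK : K ∈ 𝒦) (hL : L ∈ 𝒦) (hne : K ≠ L) (hc : ¬ HC K L)
    (c : Core K P Z) (c' : Core L Q Y) (hQ : Q ≤ NN Z) (hP : P ≤ NN Y) {k : G} (hk : k ∈ NN P)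
    (hf : ∀ p ∈ P, Commute k p → p = 1) {z y p : G} (hz : z ∈ Z) (hy : y ∈ Y) (hp : p ∈ P) :
    ⁅z, ⁅y, k * p * k⁻¹⁆⁆ = k * ⁅z, ⁅y, p⁆⁆ * k⁻¹ := by
  obtain ⟨r, r'⟩ := rts h hK hL hne hc c c' hQ hP
  have hp' := conj_mem_of_mem_normalizer hk hp
  by_cases h1 : z ∈ P
  · rw [phi_triv r h1 (r'.com _ hy _ hp), phi_triv r h1 (r'.com _ hy _ hp')]; simp
  by_cases h2 : y ∈ Q
  · rw [phi_triv r' h2 hp, phi_triv r' h2 hp']; simp
  by_cases h3 : ∃ a ∈ P, a ≠ 1 ∧ ⁅z, ⁅y, a⁆⁆ = a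
  · obtain ⟨a, ha, a1, a2⟩ := h3
    obtain ⟨y', hy', -, b, -, -⟩ := swap h hK hL hne hc c c' hQ hP hz h1
    have e := phi_inj r hz h1 (r'.com _ hy _ ha) (r'.com _ hy' _ ha) (a2.trans (b a ha).symm)
    rw [phi_eq r' hy hy' ha a1 e hp, phi_eq r' hy hy' ha a1 e hp', b _ hp, b _ hp']
  have f : Fp P fun a => ⁅z, ⁅y, a⁆⁆ :=
    ⟨fun a ha => r.com _ hz _ (r'.com _ hy _ ha),
      fun a ha b hb => by
        rw [mul_right r' hy ha hb, mul_right r hz (r'.com _ hy _ ha) (r'.com _ hy _ hb)],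
      fun a ha e => phi_one r' hy h2 ha (phi_one r hz h1 (r'.com _ hy _ ha) e),
      fun a ha e => by_contra fun k => h3 ⟨a, ha, k, e⟩⟩
  exact (fp_conj hk hf).comm c.cE c.om.el f hp

/-- A fixed point free automorphism of a four-group has order 3. -/
theorem fpf_cube (hc : Nat.card P = 4) (e : El P) {k : G} (hk : k ∈ NN P)
    (hf : ∀ p ∈ P, Commute k p → p = 1) {p : G} (hp : p ∈ P) :
    k * (k * p * k⁻¹) * k⁻¹ = p * (k * p * k⁻¹) ∧ k * (k * (k * p * k⁻¹) * k⁻¹) * k⁻¹ = p :=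
  ⟨(fp_conj hk hf).sq hc e hp, (fp_conj hk hf).cube hc e hp⟩

/-- An element of odd order generated by elements acting trivially on `B` and on `m B`
centralizes `m`. -/
theorem comm_of_odd {X B : Subgroup G} (eB : El B) (hX : X ≤ CC B) {m d : G}
    (s : Set G) (hs : closure s = X) (hm : ∀ x ∈ s, ⁅x, m⁆ ∈ B) (hd : d ∈ X)
    (ho : Odd (orderOf d)) : Commute d m := by
  subst hs
  have k0 : ∀ x ∈ closure s, ⁅x, m⁆ ∈ B := fun x hx => by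
    induction hx using closure_induction with
    | mem x hx => exact hm x hx
    | one => rw [commutatorElement_one_left]; exact one_mem _
    | mul x y hx hy ix iy =>
      rw [cm_mul_left]
      exact mul_mem (conj_mem_of_mem_normalizer (CC_le_NN _ (hX hx)) iy) ix
    | inv x hx ix =>
      rw [show ⁅x⁻¹, m⁆ = x⁻¹ * ⁅x, m⁆⁻¹ * x by simp only [commutatorElement_def]; group]
      exact conj_mem_of_mem_normalizer' (CC_le_NN _ (hX hx)) (inv_mem ix)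
  have k := k0 d hd
  have h2 : Commute (d * d) m := by
    rw [← commutatorElement_eq_one_iff_commute, cm_mul_left, conj_eq_of_comm (comm_of_CC (hX hd) k).symm, eB _ k]
  obtain ⟨n, hn⟩ := ho
  have h3 : d = ((d * d) ^ n)⁻¹ := by
    rw [eq_inv_iff_mul_eq_one, ← pow_two, ← pow_mul, ← pow_succ', ← hn, pow_orderOf_eq_one]
  exact h3 ▸ (h2.pow_left n).inv_left

/-- A torus normalizing the core. -/
theorem L3c.exists_k {K1 K2 U V E : Subgroup G} (l : L3c 𝒦 K1 K2 K U V E) (c : Core K E Z)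
    (hU : U ≤ NN Z) (hV : V ≤ NN Z) :
    ∃ k : G, k ∈ NN U ∧ k ∈ NN E ∧ k ∈ NN Z ∧ (∀ u ∈ U, Commute k u → u = 1) ∧
      (∀ e ∈ E, Commute k e → e = 1) ∧
      ∀ r ∈ Z, ∀ u ∈ U, ∀ v ∈ V, r * v ∈ CC U → r * u ∈ CC V →
        (r * v * u)⁻¹ * (k * (r * v * u) * k⁻¹) ∈ E := by
  have h := l.cw
  have hJ : U ⊔ V ⊔ E ≤ NN Z := sup_le (sup_le hU hV) (c.om.le.trans le_normalizer)
  have hT := two_sup c.two l.two hJ
  obtain ⟨W, cW, hW⟩ := h.core_inv l.m1 l.p1 (X := (Z ⊔ (U ⊔ V ⊔ E)) ⊓ CC U) (hT.to_le inf_le_left)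
    (inf_le_right.trans (CC_le_NN U))
  have hE : E ≤ NN W := (le_inf (le_sup_of_le_right le_sup_right) l.EU).trans hW
  have hc : ¬ HC K K1 := fun e => l.h1 e.symm
  obtain ⟨k0, k1, kE, kU, fE, fU, -⟩ := h.exists_k l.m l.m1 l.n1.symm hc c cW hU hE
  have r := l.rt c hU
  obtain ⟨e0, he0, h0⟩ := exists_ne c.cE
  have kK : k0 ∈ NN K := h.toTI.mem_NN_of_conj l.m (l.l he0) (Two.of_sq (c.om.el _ he0)) h0
    (l.l (conj_mem_of_mem_normalizer kE he0))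
  have c2 := c.conj k0
  have r2 := r.conj k0
  rw [map_conj_eq_of_mem_norm kE, map_conj_eq_of_mem_norm kK] at c2
  rw [map_conj_eq_of_mem_norm kE, map_conj_eq_of_mem_norm kU] at r2
  obtain ⟨d, -, dE, dU, d1, d2⟩ := h.toTI.rt_conj l.m l.m1 l.n1.symm l.l1 c.om.el l.p1.el l.p1.ne_bot
    (h.syl l.m l.m1 l.n1.symm hc l.p (le_NN h.toTI l.m1 l.p1 l.EU)) r r2 c.le c2.le c.card_mul c2.card_mul
    (M := {m | m ∈ CC Z ∧ Commute k0 m}) (fun m hm => centralizer_anti c.om.le hm.1)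
    (fun m hm a ha => by
      rw [commutatorElement_eq_one_iff_commute.2 (comm_of_CC hm.1 ha)]
      exact one_mem _)
    (fun m hm a ha => by
      obtain ⟨b, hb, rfl⟩ := mem_map_conj_iff_exists.1 ha
      rw [commutatorElement_eq_one_iff_commute.2 ((hm.2.mul_left (comm_of_CC hm.1 hb)).mul_left hm.2.inv_left)]
      exact one_mem _)
  have fp : ∀ {A : Subgroup G}, d ∈ CC A → (∀ a ∈ A, Commute k0 a → a = 1) →
      ∀ a ∈ A, Commute (d⁻¹ * k0) a → a = 1 := fun hd hf a ha e => by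
    have := (comm_of_CC hd ha).symm.mul_left e
    rw [mul_inv_cancel_left] at this
    exact hf a ha this
  have kE' := mul_mem (inv_mem (CC_le_NN _ dE)) kE
  refine ⟨d⁻¹ * k0, mul_mem (inv_mem (CC_le_NN _ dU)) kU, kE', map_conj_eq_map_conj_iff.1 d2, fp dU fU, fp dE fE,
    fun a ha u hu v hv h1 h2 => ?_⟩
  obtain ⟨x1, -, x2, -⟩ := l.x_cen c hU hV ha hu hv h1 h2
  have x3 : a * v * u ∈ NN W := hW (mem_inf.2 ⟨mul_mem (mul_mem (mem_sup_left ha)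
    (mem_sup_right (mem_sup_left (mem_sup_right hv)))) (mem_sup_right (mem_sup_left (mem_sup_left hu))), x1⟩)
  generalize a * v * u = x at x1 x2 x3
  obtain ⟨e, he, h3⟩ := h.split l.m1 l.m l.n1 l.h1 cW c hE hU x1 x2 x3
  have h4 : x * e ∈ CC Z := mul_mem x2 (r.cen he)
  have h5 : Commute k0 (x * e) := comm_of_CC (K := Z ⊔ W) (by
    rw [CC, centralizer_sup]; exact mem_inf.2 ⟨h4, h3⟩) k1
  have h6 := conj_eq_of_comm ((d1 _ ⟨h4, h5⟩).inv_left.mul_left h5)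
  generalize d⁻¹ * k0 = k at kE' h6
  rw [show x⁻¹ * (k * x * k⁻¹) = x⁻¹ * (k * (x * e) * k⁻¹) * (k * e * k⁻¹)⁻¹ by group, h6, inv_mul_cancel_left]
  exact mul_mem he (inv_mem (conj_mem_of_mem_normalizer kE' he))

end Cfsg.Agent.CT8
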