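import Mathlib
import Cfsg.Agent.CT8.Bas

/-! Four mutually normalizing members; cliques (S1308, piece FR). -/

set_option autoImplicit false
set_option linter.unusedSectionVars false
set_option linter.unusedVariables false

namespace Cfsg.Agent.CT8

open Subgroup Cfsg.Agent.GT Cfsg.Agent.Inv Cfsg.Agent.Cmp
open scoped commutatorElement

variable {G : Type*} [Group G] [Finite G] {𝒦 : Set (Subgroup G)}

namespace FRx

theorem ne_one_of_hc {K : Subgroup G} {a : G} (H : HC K (K ^ᶜ a)) : a ≠ 1 := fun e =>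
  H.1 (by rw [e, map_conj_one])

theorem not_NN {K : Subgroup G} {a : G} (H : HC K (K ^ᶜ a)) : a ∉ NN K := fun e =>
  H.1 (map_conj_eq_of_mem_norm e).symm

theorem hc_ab {K : Subgroup G} {a b : G} (ha2 : a * a = 1) (Hab : HC K (K ^ᶜ (a * b))) :
    HC (K ^ᶜ a) (K ^ᶜ b) := by
  have := Hab.conj a
  rwa [map_conj_map_conj, ← mul_assoc, ha2, one_mul] at this

theorem key (h : Fm 𝒦) (fh : FH 𝒦) {K0 K1 : Subgroup G} (h0 : K0 ∈ 𝒦) (h1 : K1 ∈ 𝒦)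
    {a b : G} (ha : a ∈ K0) (hb0 : b ∈ K0) (ha2 : a * a = 1) (hb2 : b * b = 1)
    (hc : Commute a b) (Ha : HC K1 (K1 ^ᶜ a)) (Hb : HC K1 (K1 ^ᶜ b))
    (Hab : HC K1 (K1 ^ᶜ (a * b))) {S : Subgroup G} (hS : IsPGroup 2 S) (haS : a ∈ NN S)
    (hbS : b ∈ NN S) (hs1 : Syl (S ⊓ K1) K1) {s : G} (hs : s ∈ S ⊓ K1) :
    s * (a * s * a⁻¹) = b * s * b⁻¹ * (a * b * s * (a * b)⁻¹) := by
  have t := h.toTI
  have h2 := t.conj K1 h1 a
  have h3 := t.conj K1 h1 b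
  have h4 := t.conj K1 h1 (a * b)
  have cS : ∀ {g x}, g ∈ NN S → x ∈ S ⊓ K1 → g * x * g⁻¹ ∈ S := fun hg hx =>
    conj_mem_of_mem_normalizer hg hx.1
  have cK : ∀ (g) {x}, x ∈ S ⊓ K1 → g * x * g⁻¹ ∈ K1 ^ᶜ g := fun g x hx => conj_mem_map_conj.2 hx.2
  have hai : a⁻¹ = a := inv_eq_of_mul_eq_one_right ha2
  have c12 : ∀ {x y}, x ∈ S ⊓ K1 → y ∈ S ⊓ K1 → Commute x (a * y * a⁻¹) := fun hx hy =>
    t.comm_of_hc h1 h2 Ha hx.2 (cK a hy) hS hx.1 (cS haS hy)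
  have hca : Commute (s * (a * s * a⁻¹)) a := (comm_of_conj_eq (by
    calc a * (s * (a * s * a⁻¹)) * a⁻¹ = a * s * a⁻¹ * ((a * a) * s * (a * a)⁻¹) := by group
      _ = s * (a * s * a⁻¹) := by rw [ha2, one_mul, inv_one, mul_one, (c12 hs hs).eq])).symm
  have hcN := t.mem_NN h0 ha (Two.of_sq ha2) (ne_one_of_hc Ha) hca
  have hcS : s * (a * s * a⁻¹) ∈ S := mul_mem hs.1 (cS haS hs)
  have e1 : b * (s * (a * s * a⁻¹)) * b⁻¹ = b * s * b⁻¹ * (a * b * s * (a * b)⁻¹) := by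
    rw [hc.eq]; group
  by_contra hne
  have hw0 : (s * (a * s * a⁻¹))⁻¹ * (b * (s * (a * s * a⁻¹)) * b⁻¹) ∈ K0 := by
    have := mul_mem (conj_mem_of_mem_normalizer' hcN hb0) (inv_mem hb0)
    simpa only [mul_assoc] using this
  have hwS : (s * (a * s * a⁻¹))⁻¹ * (b * (s * (a * s * a⁻¹)) * b⁻¹) ∈ S :=
    mul_mem (inv_mem hcS) (conj_mem_of_mem_normalizer hbS hcS)
  have hw1 : (s * (a * s * a⁻¹))⁻¹ * (b * (s * (a * s * a⁻¹)) * b⁻¹) ≠ 1 := fun e =>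
    hne ((inv_mul_eq_one.1 e).trans e1)
  obtain ⟨y, hy, hy2⟩ := (hs1.four (h.four K1 h1)).exists_inv
  obtain ⟨z, hz, hz2, hzc⟩ := exists_inv_fixed hs1.two le_normalizer hy hy2
  have hzN : z ∈ NN K0 := t.mem_NN h0 hw0 (Two.of_mem hS hwS) hw1 (by
    rw [e1]
    refine ((hzc s hs).symm.mul_right (c12 hz hs)).inv_right.mul_right (Commute.mul_right ?_ ?_)
    · exact t.comm_of_hc h1 h3 Hb hz.2 (cK b hs) hS hz.1 (cS hbS hs)
    · exact t.comm_of_hc h1 h4 Hab hz.2 (cK _ hs) hS hz.1 (cS (mul_mem haS hbS) hs))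
  have hzz : z * z = 1 := by rw [← sq, ← hz2, pow_orderOf_eq_one]
  have hzi : z⁻¹ = z := inv_eq_of_mul_eq_one_right hzz
  have hu0 : z * (a * z * a⁻¹) ∈ K0 := by
    have := mul_mem (conj_mem_of_mem_normalizer hzN ha) (inv_mem ha)
    rw [hzi] at this
    simpa only [mul_assoc] using this
  have hu1 : z * (a * z * a⁻¹) ≠ 1 := fun e => by
    have e2 : z ∈ K1 ^ᶜ a := by
      have := inv_mem (cK a hz)
      rwa [← eq_inv_of_mul_eq_one_left e] at this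
    have := t.eq_one h1 h2 Ha.1 hz.2 e2 (Two.of_sq hzz)
    rw [this, orderOf_one] at hz2
    omega
  have hs3 : Syl (S ⊓ K1 ^ᶜ b) (K1 ^ᶜ b) := by
    have := hs1.conj b
    rwa [map_conj_inf, map_conj_eq_of_mem_norm hbS] at this
  have hle : S ⊓ K1 ^ᶜ b ≤ NN K0 := fun x hx =>
    t.mem_NN h0 hu0 (Two.of_mem hS (mul_mem hz.1 (cS haS hz))) hu1
      ((t.comm_of_hc h1 h3 Hb hz.2 hx.2 hS hz.1 hx.1).symm.mul_right
        (t.comm_of_hc h2 h3 (hc_ab ha2 Hab) (cK a hz) hx.2 hS (cS haS hz) hx.1).symm)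
  have haN : a ∈ NN (K1 ^ᶜ b) := by
    by_cases e : K0 = K1 ^ᶜ b
    · exact le_normalizer (e ▸ ha)
    · exact (fh K0 h0 _ h3 e _ hs3 hle).2.1 ha
  have e3 := map_conj_eq_of_mem_norm haN
  rw [map_conj_map_conj] at e3
  have := (Ha.conj b).1
  rw [map_conj_map_conj, ← hc.eq] at this
  exact this e3.symm

theorem mem_NN_of_gens {X : Subgroup G} {g : G} (s : Set (Subgroup G)) (hX : X = sSup s)
    (h : ∀ K ∈ s, K ^ᶜ g ∈ s) : g ∈ NN X := by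
  refine mem_normalizer_of_map_conj_le ?_
  rw [map_conj_le_iff, hX]
  exact sSup_le fun K hK => map_conj_le_iff.1 (le_sSup (h K hK))

theorem exists_S {K : Subgroup G} {V : Subgroup G} (hV : IsPGroup 2 V)
    (h : ∀ v ∈ V, K ^ᶜ v ≤ NN K) : ∃ S : Subgroup G, IsPGroup 2 S ∧ V ≤ NN S ∧ Syl (S ⊓ K) K := by
  obtain ⟨S, hS, hn⟩ := exists_inv_syl' (K := sSup {L | ∃ v ∈ V, L = K ^ᶜ v}) hV fun g hg =>
    mem_NN_of_gens _ rfl (by
      rintro _ ⟨v, hv, rfl⟩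
      exact ⟨g * v, mul_mem hg hv, map_conj_map_conj _ _ _⟩)
  refine ⟨S, hS.two, hn, hS.inf (le_sSup ⟨1, one_mem _, (map_conj_one _).symm⟩) (sSup_le ?_)⟩
  rintro _ ⟨v, hv, rfl⟩
  exact h v hv

theorem mem_zpowers_inv {a v : G} (ha2 : a * a = 1) (hv : v ∈ zpowers a) : v = 1 ∨ v = a := by
  obtain ⟨k, rfl⟩ := mem_zpowers_iff.1 hv
  have h2 : a ^ (2 : ℤ) = 1 := by rw [zpow_two, ha2]
  rcases Int.even_or_odd' k with ⟨m, rfl | rfl⟩
  · left; rw [zpow_mul, h2, one_zpow]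
  · right; rw [zpow_add, zpow_mul, h2, one_zpow, one_mul, zpow_one]

theorem exists_S1 {K : Subgroup G} {a : G} (ha2 : a * a = 1) (H : HC K (K ^ᶜ a)) :
    ∃ S : Subgroup G, IsPGroup 2 S ∧ a ∈ NN S ∧ Syl (S ⊓ K) K := by
  obtain ⟨S, h1, h2, h3⟩ := exists_S (K := K) (Two.of_sq ha2).isPGroup fun v hv => by
    rcases mem_zpowers_inv ha2 hv with rfl | rfl
    · rw [map_conj_one]; exact le_normalizer
    · exact H.2.2
  exact ⟨S, h1, h2 (mem_zpowers a), h3⟩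

theorem comm_mul_mem {K : Subgroup G} {g x k : G} (hg : g ∈ NN K) (h1 : ⁅g, k⁆ ∈ Od K)
    (h2 : ⁅x, k⁆ ∈ Od K) : ⁅g * x, k⁆ ∈ Od K := by
  have := mul_mem (conj_mem_of_mem_normalizer (NN_le_NN_Od K hg) h2) h1
  rwa [show g * ⁅x, k⁆ * g⁻¹ * ⁅g, k⁆ = ⁅g * x, k⁆ by
    simp only [commutatorElement_def]; group] at this

theorem comm_Od (h : TI 𝒦) {K L : Subgroup G} (hK : K ∈ 𝒦) (hL : L ∈ 𝒦) (hc : HC K L) {g k : G}
    (hg : g ∈ L) (hk : k ∈ K) : ⁅g, k⁆ ∈ Od K :=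
  h.inf_le_Od hK hL hc (by rw [inf_comm]; exact hc.symm.comm_mem hg hk)

theorem syl_sup {A B U V : Subgroup G} (hU : Syl U A) (hV : Syl V B) (hA : A ≤ NN B) (hB : B ≤ NN A)
    (h2 : IsPGroup 2 ↥(U ⊔ V)) : Syl (U ⊔ V) (A ⊔ B) := by
  have hW : U ⊔ V ≤ A ⊔ B := sup_le_sup hU.le hV.le
  refine ⟨hW, h2, ?_⟩
  have e : (U ⊔ V) ⊔ A ⊔ B = A ⊔ B :=
    le_antisymm (sup_le (sup_le hW le_sup_left) le_sup_right) (sup_le_sup le_sup_right le_rfl)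
  have n1 : U ⊔ V ≤ NN A := sup_le (hU.le.trans le_normalizer) (hV.le.trans hB)
  have n2 : (U ⊔ V) ⊔ A ≤ NN B :=
    sup_le (sup_le (hU.le.trans hA) (hV.le.trans le_normalizer)) hA
  rw [← e, ← relIndex_mul_relIndex (U ⊔ V) ((U ⊔ V) ⊔ A) _ le_sup_left le_sup_left,
    relIndex_sup_of_le_normalizer_left n1, relIndex_sup_of_le_normalizer_left n2,
    Nat.prime_two.dvd_mul]
  rintro (h | h)
  · exact hU.idx (h.trans (relIndex_dvd_of_le_left A le_sup_left))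
  · exact hV.idx (h.trans (relIndex_dvd_of_le_left B (le_sup_right.trans le_sup_left)))

end FRx

open FRx

/-- No four-group of a member permutes four mutually normalizing members regularly. -/
theorem four_reg (h : Fm 𝒦) (fh : FH 𝒦) {K0 K1 : Subgroup G} (h0 : K0 ∈ 𝒦) (h1 : K1 ∈ 𝒦)
    (hb : Bg K1) {a b : G} (ha : a ∈ K0) (hb0 : b ∈ K0) (ha2 : a * a = 1) (hb2 : b * b = 1)
    (hc : Commute a b) (Ha : HC K1 (K1 ^ᶜ a)) (Hb : HC K1 (K1 ^ᶜ b))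
    (Hab : HC K1 (K1 ^ᶜ (a * b))) : False := by
  have t := h.toTI
  have h2 := t.conj K1 h1 a
  have h3 := t.conj K1 h1 b
  have h4 := t.conj K1 h1 (a * b)
  have hn : zpowers b ≤ NN (zpowers a) := le_normalizer_of_le_centralizer (by
    rw [centralizer_zpowers, zpowers_le, mem_centralizer_singleton_iff]; exact hc.eq.symm)
  obtain ⟨S, hS, hV, hs1⟩ := exists_S (K := K1) (V := zpowers a ⊔ zpowers b)
    (two_sup (Two.of_sq ha2).isPGroup (Two.of_sq hb2).isPGroup hn) fun v hv => by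
      obtain ⟨x, hx, y, hy, e⟩ := exists_mul_of_mem_sup hn hv
      rcases mem_zpowers_inv ha2 hx with e1 | e1 <;> rcases mem_zpowers_inv hb2 hy with e2 | e2 <;>
        rw [← e, e1, e2]
      · rw [one_mul, map_conj_one]; exact le_normalizer
      · rw [one_mul]; exact Hb.2.2
      · rw [mul_one]; exact Ha.2.2
      · exact Hab.2.2
  have haS : a ∈ NN S := hV (mem_sup_left (mem_zpowers a))
  have hbS : b ∈ NN S := hV (mem_sup_right (mem_zpowers b))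
  have k1 := fun s (hs : s ∈ S ⊓ K1) => key h fh h0 h1 ha hb0 ha2 hb2 hc Ha Hb Hab hS haS hbS hs1 hs
  have k2 := fun s (hs : s ∈ S ⊓ K1) =>
    key h fh h0 h1 hb0 ha hb2 ha2 hc.symm Hb Ha (hc.eq ▸ Hab) hS hbS haS hs1 hs
  have cS : ∀ {g x}, g ∈ NN S → x ∈ S ⊓ K1 → g * x * g⁻¹ ∈ S := fun hg hx =>
    conj_mem_of_mem_normalizer hg hx.1
  have cK : ∀ (g) {x}, x ∈ S ⊓ K1 → g * x * g⁻¹ ∈ K1 ^ᶜ g := fun g x hx => conj_mem_map_conj.2 hx.2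
  have hel : El (S ⊓ K1) := fun s hs => by
    have e1 := k1 s hs
    have e2 := k2 s hs
    rw [← hc.eq] at e2
    have c2 := t.comm_of_hc h1 h3 Hb hs.2 (cK b hs) hS hs.1 (cS hbS hs)
    have c1 := t.comm_of_hc h1 h2 Ha hs.2 (cK a hs) hS hs.1 (cS haS hs)
    have m2 := cK a hs
    have m3 := cK b hs
    have s2 := cS haS hs
    have c3 := t.comm_of_hc h2 h3 (hc_ab ha2 Hab) m2 m3 hS s2 (cS hbS hs)
    have e4 : a * (s * s) * a⁻¹ = a * s * a⁻¹ * (a * s * a⁻¹) := by group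
    generalize a * s * a⁻¹ = y at e1 e2 c1 c3 m2 s2 e4
    generalize b * s * b⁻¹ = u at e1 e2 c2 c3 m3
    generalize a * b * s * (a * b)⁻¹ = v at e1 e2
    have e3 : y * y = u * u := by
      refine mul_left_cancel (a := s) ?_
      calc s * (y * y) = y * (s * y) := by rw [← mul_assoc, c1.eq, mul_assoc, c1.eq]
        _ = u * (y * v) := by rw [e1, ← mul_assoc, c3.eq, mul_assoc]
        _ = s * (u * u) := by rw [← e2, ← mul_assoc, ← c2.eq, mul_assoc]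
    have e6 := t.eq_one h2 h3 (hc_ab ha2 Hab).1 (mul_mem m2 m2) (e3 ▸ mul_mem m3 m3)
      (Two.of_mem hS (mul_mem s2 s2))
    rw [e6] at e4
    calc s * s = a⁻¹ * (a * (s * s) * a⁻¹) * a := by group
      _ = 1 := by rw [e4]; group
  obtain ⟨s, hs, k, hk, hn⟩ := hb _ hs1 hel
  refine hn ?_
  have e : s = b * s * b⁻¹ * (a * b * s * (a * b)⁻¹ * (a * s * a⁻¹)⁻¹) := by
    rw [← mul_assoc, ← k1 s hs]; group
  rw [e]
  exact comm_mul_mem (Hb.2.2 (cK b hs)) (comm_Od t h1 h3 Hb (cK b hs) hk)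
    (comm_mul_mem (Hab.2.2 (cK _ hs)) (comm_Od t h1 h4 Hab (cK _ hs) hk)
      (comm_Od t h1 h2 Ha (inv_mem (cK a hs)) hk))

theorem HF.fh (h : HF 𝒦) : FH 𝒦 := fun K hK L hL hne S hS hn => by
  obtain ⟨y, hy, hy2⟩ := (hS.four (h.four L hL)).exists_inv
  exact h.hc K hK L hL ⟨hne, y, hS.le hy, hy2, hn hy⟩

theorem HF.hc_of_two (h : HF 𝒦) {K L : Subgroup G} (hK : K ∈ 𝒦) (hL : L ∈ 𝒦) (hne : K ≠ L)
    {y : G} (h1 : y ∈ L) (hy : Two y) (h0 : y ≠ 1) (hn : y ∈ NN K) : HC K L :=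
  h.hc K hK L hL (rl_of_two hne h1 hy h0 hn)

theorem FRx.swap (h : HF 𝒦) {K0 K1 : Subgroup G} (h0 : K0 ∈ 𝒦) (h1 : K1 ∈ 𝒦) {a : G} (ha : a ∈ K0)
    (ha2 : a * a = 1) (H : HC K1 (K1 ^ᶜ a)) {S : Subgroup G} (hS : IsPGroup 2 S) (haS : a ∈ NN S)
    {z : G} (hz : z ∈ S ⊓ K1) (hz2 : z * z = 1) (hz1 : z ≠ 1) : HC K0 (K0 ^ᶜ z) := by
  have t := h.toTI
  have hne : K0 ≠ K1 := fun e => not_NN H (le_normalizer (e ▸ ha))
  have hzN : z ∉ NN K0 := fun e =>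
    not_NN H ((h.hc_of_two h0 h1 hne hz.2 (Two.of_sq hz2) hz1 e).2.1 ha)
  have c1 := t.comm_of_hc h1 (t.conj K1 h1 a) H hz.2 (conj_mem_map_conj.2 hz.2) hS hz.1
    (conj_mem_of_mem_normalizer haS hz.1)
  have hai : a⁻¹ = a := inv_eq_of_mul_eq_one_right ha2
  have hzi : z⁻¹ = z := inv_eq_of_mul_eq_one_right hz2
  have c2 : Commute (z * a * z⁻¹) a := by
    have e := c1.eq
    rw [hai] at e
    rw [hzi]
    calc z * a * z * a = z * (a * z * a) := by group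
      _ = a * (z * a * z) := by rw [e]; group
  refine h.hc_of_two h0 (t.conj K0 h0 z) (fun e => hzN (map_conj_eq_self_iff.1 e.symm))
    (conj_mem_map_conj.2 ha) ((Two.of_sq ha2).conj z) (fun e => ne_one_of_hc H ?_)
    (t.mem_NN h0 ha (Two.of_sq ha2) (ne_one_of_hc H) c2)
  calc a = z⁻¹ * (z * a * z⁻¹) * z := by group
    _ = 1 := by rw [e]; group

/-- F1: no involution of a member swaps related members. -/
theorem HF.f1 (h : HF 𝒦) {K0 K1 : Subgroup G} (h0 : K0 ∈ 𝒦) (h1 : K1 ∈ 𝒦) {a : G} (ha : a ∈ K0)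
    (ha2 : a * a = 1) : ¬ HC K1 (K1 ^ᶜ a) := fun H => by
  have sq2 : ∀ {x : G}, orderOf x = 2 → x * x = 1 := fun hx => by rw [← sq, ← hx, pow_orderOf_eq_one]
  have ne2 : ∀ {x : G}, orderOf x = 2 → x ≠ 1 := fun hx e => by rw [e, orderOf_one] at hx; omega
  obtain ⟨S, hS, haS, hs⟩ := exists_S1 ha2 H
  obtain ⟨z, hz, hz2⟩ := (hs.four (h.four K1 h1)).exists_inv
  have H' := FRx.swap h h0 h1 ha ha2 H hS haS hz (sq2 hz2) (ne2 hz2)
  obtain ⟨T, hT, hzT, ht⟩ := exists_S1 (sq2 hz2) H'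
  obtain ⟨x, hx, y, hy, hx2, hy2, hxy, hc⟩ := ht.four (h.four K0 h0)
  have k := fun g (hg : g ∈ T ⊓ K0) => FRx.swap h h1 h0 hz.2 (sq2 hz2) H' hT hzT hg
  refine four_reg h.toFm h.fh h0 h1 (h.bg K1 h1) hx.2 hy.2 (sq2 hx2) (sq2 hy2) hc
    (k x hx (sq2 hx2) (ne2 hx2)) (k y hy (sq2 hy2) (ne2 hy2)) (k _ (mul_mem hx hy) ?_ fun e => hxy ?_)
  · rw [hc.symm.mul_mul_mul_comm, sq2 hx2, sq2 hy2, one_mul]
  · rw [eq_inv_of_mul_eq_one_left e, inv_eq_of_mul_eq_one_right (sq2 hy2)]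

theorem FRx.f2_aux (h : HF 𝒦) {P : Subgroup G} (hP : IsPGroup 2 P) (n : ℕ) : ∀ K ∈ 𝒦, ∀ L ∈ 𝒦, K ≠ L →
    ∀ d ∈ K, ∀ e ∈ L, orderOf d = 2 → orderOf e = 2 → (d * e) ^ 2 ^ n = 1 → HC K L := by
  have sq2 : ∀ {x : G}, orderOf x = 2 → x * x = 1 := fun hx => by rw [← sq, ← hx, pow_orderOf_eq_one]
  induction n with
  | zero =>
    intro K hK L hL hne d hd e he hd2 he2 hn
    rw [pow_zero, pow_one] at hn
    exact (hne (h.ti K hK L hL d hd (by rw [eq_inv_of_mul_eq_one_left hn]; exact inv_mem he) hd2)).elim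
  | succ n ih =>
    intro K hK L hL hne d hd e he hd2 he2 hn
    by_cases hk : K = K ^ᶜ e
    · exact h.hc K hK L hL ⟨hne, e, he, he2, map_conj_eq_self_iff.1 hk.symm⟩
    · refine (h.f1 hL hK he (sq2 he2) (ih K hK _ (h.conj K hK e) hk d hd _ (conj_mem_map_conj.2 hd) hd2
        ((orderOf_conj d e).trans hd2) ?_)).elim
      rw [← hn, pow_succ', pow_mul, inv_eq_of_mul_eq_one_right (sq2 he2), sq]
      simp only [mul_assoc]

/-- F2: members meeting a common 2-group normalize each other. -/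
theorem HF.f2 (h : HF 𝒦) {P K L : Subgroup G} (hP : IsPGroup 2 P) (hK : K ∈ Dl 𝒦 P)
    (hL : L ∈ Dl 𝒦 P) (hne : K ≠ L) : HC K L := by
  obtain ⟨d, hd, hd2⟩ := exists_inv_of_ne_bot (hP.to_le inf_le_left) hK.2
  obtain ⟨e, he, he2⟩ := exists_inv_of_ne_bot (hP.to_le inf_le_left) hL.2
  obtain ⟨n, hn⟩ := Two.of_mem hP (mul_mem hd.1 he.1)
  exact FRx.f2_aux h hP n K hK.1 L hL.1 hne d hd.2 e he.2 hd2 he2 hn

theorem HF.comm (h : HF 𝒦) {P K L : Subgroup G} (hP : IsPGroup 2 P) (hK : K ∈ 𝒦) (hL : L ∈ 𝒦)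
    (hne : K ≠ L) {x y : G} (hx : x ∈ K) (hy : y ∈ L) (hxP : x ∈ P) (hyP : y ∈ P) :
    Commute x y := by
  by_cases h1 : x = 1
  · rw [h1]; exact Commute.one_left y
  by_cases h2 : y = 1
  · rw [h2]; exact Commute.one_right x
  exact h.toTI.comm_of_hc hK hL (h.f2 hP ⟨hK, fun e => h1 (mem_bot.1 (e ▸ mem_inf.2 ⟨hxP, hx⟩))⟩
    ⟨hL, fun e => h2 (mem_bot.1 (e ▸ mem_inf.2 ⟨hyP, hy⟩))⟩ hne) hx hy hP hxP hyP

theorem TI.conj_mem_Dl (h : TI 𝒦) {P K : Subgroup G} (g : G) :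
    K ^ᶜ g ∈ Dl 𝒦 (P ^ᶜ g) ↔ K ∈ Dl 𝒦 P := by
  refine and_congr ⟨fun e => ?_, fun e => h.conj K e g⟩ ?_
  · simpa only [map_conj_inv_map_conj] using h.conj _ e g⁻¹
  · rw [← map_conj_inf, Ne, map_conj_eq_bot_iff]

theorem TI.conj_mem_Dl_of_mem (h : TI 𝒦) {P K : Subgroup G} {g : G} (hg : g ∈ P)
    (hK : K ∈ Dl 𝒦 P) : K ^ᶜ g ∈ Dl 𝒦 P := by
  have := (h.conj_mem_Dl g).2 hK
  rwa [map_conj_eq_of_mem hg] at this

theorem TI.ncard_Dl (h : TI 𝒦) {P P' : Subgroup G} (hP : Syl P ⊤) (hP' : Syl P' ⊤) :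
    (Dl 𝒦 P).ncard = (Dl 𝒦 P').ncard := by
  obtain ⟨g, -, hg⟩ := hP.exists_conj hP'.two le_top
  have h1 : P' ^ᶜ g ≤ P := map_conj_le_iff_forall.2 hg
  have h2 := hP'.conj g
  rw [map_conj_top] at h2
  have e : P = P' ^ᶜ g := le_antisymm (h2.le_of_le hP.two h1 le_top) h1
  rw [← Set.ncard_image_of_injective (Dl 𝒦 P') (f := fun K => K ^ᶜ g) fun _ _ => map_conj_inj.1, e]
  congr 1
  ext K
  refine ⟨fun hK => ⟨K ^ᶜ g⁻¹, (h.conj_mem_Dl g).1 (by rwa [map_conj_map_conj_inv]),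
    map_conj_map_conj_inv _ _⟩, ?_⟩
  rintro ⟨L, hL, rfl⟩
  exact (h.conj_mem_Dl g).2 hL

theorem FRx.le_NN (h : HF 𝒦) {P K L : Subgroup G} (hP : IsPGroup 2 P) (hK : K ∈ Dl 𝒦 P)
    (hL : L ∈ Dl 𝒦 P) : K ≤ NN L := by
  by_cases e : K = L
  · rw [e]; exact le_normalizer
  · exact (h.f2 hP hK hL e).2.1

theorem HF.syl_inf (h : HF 𝒦) {P K : Subgroup G} (hP : Syl P ⊤) (hK : K ∈ Dl 𝒦 P) :
    Syl (P ⊓ K) K := by
  have h1 : P ≤ NN (sSup (Dl 𝒦 P)) := fun g hg =>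
    mem_NN_of_gens _ rfl fun L hL => h.toTI.conj_mem_Dl_of_mem hg hL
  have h2 := ((hP.of_le (L := P ⊔ sSup (Dl 𝒦 P)) le_sup_left le_top).inf le_sup_right
    (sup_le h1 le_normalizer)).inf (le_sSup hK) (sSup_le fun L hL => FRx.le_NN h hP.two hL hK)
  rwa [inf_assoc, inf_eq_right.2 (le_sSup hK)] at h2

/-- The product of the Sylow subgroups `P ⊓ K` is Sylow in the product of the clique. -/
theorem HF.syl_sSup (h : HF 𝒦) {P : Subgroup G} (hP : Syl P ⊤) :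
    Syl (⨆ K ∈ Dl 𝒦 P, P ⊓ K) (sSup (Dl 𝒦 P)) ∧
      P ⊓ sSup (Dl 𝒦 P) = ⨆ K ∈ Dl 𝒦 P, P ⊓ K := by
  have k : ∀ Δ : Set (Subgroup G), Δ.Finite → Δ ⊆ Dl 𝒦 P → Syl (⨆ K ∈ Δ, P ⊓ K) (sSup Δ) := by
    intro Δ hf
    induction Δ, hf using Set.Finite.induction_on with
    | empty => exact fun _ => by simpa using ⟨le_rfl, IsPGroup.of_bot, by simp⟩
    | @insert K Δ _ _ ih =>
      intro hs
      have hK := hs (Set.mem_insert _ _)
      have hΔ : Δ ⊆ Dl 𝒦 P := (Set.subset_insert _ _).trans hs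
      rw [iSup_insert, sSup_insert]
      refine syl_sup (h.syl_inf hP hK) (ih hΔ) ?_ (sSup_le fun L hL => FRx.le_NN h hP.two (hΔ hL) hK)
        (hP.two.to_le (sup_le inf_le_left (iSup₂_le fun _ _ => inf_le_left)))
      rw [sSup_eq_iSup']
      exact le_normalizer_iSup fun L => FRx.le_NN h hP.two hK (hΔ L.2)
  have h1 := k _ (Set.toFinite _) subset_rfl
  have h2 : (⨆ K ∈ Dl 𝒦 P, P ⊓ K) ≤ P ⊓ sSup (Dl 𝒦 P) :=
    le_inf (iSup₂_le fun _ _ => inf_le_left) h1.le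
  exact ⟨h1, le_antisymm (h1.le_of_le (hP.two.to_le inf_le_left) h2 inf_le_right) h2⟩

/-- In a simple group not all members normalize each other. -/
theorem false_of_clique [IsSimpleGroup G] (h : Fm 𝒦) {K : Subgroup G} (hK : K ∈ 𝒦) (ht : K ≠ ⊤)
    (hc : ∀ K ∈ 𝒦, ∀ L ∈ 𝒦, K ≠ L → HC K L) : False := by
  obtain ⟨y, hy, hy2⟩ := (h.four K hK).exists_inv
  have hb : K ≠ ⊥ := fun e => by
    rw [e, mem_bot] at hy
    rw [hy, orderOf_one] at hy2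
    omega
  have h1 : normalClosure (K : Set G) ≤ NN K := by
    rw [normalClosure_eq_iSup_map_conj]
    refine iSup_le fun g => ?_
    by_cases e : K = K ^ᶜ g
    · rw [← e]; exact le_normalizer
    · exact (hc K hK _ (h.conj K hK g) e).2.2
  rcases (inferInstance : (normalClosure (K : Set G)).Normal).eq_bot_or_eq_top with e | e
  · exact hb (eq_bot_iff.2 (e ▸ le_normalClosure))
  · rw [e, top_le_iff, normalizer_eq_top_iff] at h1
    exact h1.eq_bot_or_eq_top.elim hb ht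

end Cfsg.Agent.CT8
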