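import Mathlib
import Cfsg.Agent.CT8.CWb
import Cfsg.Agent.CT8.FR

/-! The piece L3P1 of S1308.  See `stubs/Cfsg/Agent/CT8/PLAN.md`. -/

set_option autoImplicit false
set_option linter.unusedSectionVars false
set_option linter.unusedVariables false

namespace Cfsg.Agent.CT8

open Subgroup Cfsg.Agent.GT Cfsg.Agent.Inv Cfsg.Agent.Cmp
open scoped commutatorElement

variable {G : Type*} [Group G] [Finite G] {𝒦 : Set (Subgroup G)}

variable {K1 K2 K U V E KB B : Subgroup G}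

theorem p1_CC_symm {X Y : Subgroup G} (h : X ≤ CC Y) : Y ≤ CC X := fun y hy =>
  mem_CC.2 fun x hx => (comm_of_CC (h hx) hy).symm

theorem p1_le_CC_sup {X Y W : Subgroup G} (h1 : W ≤ CC X) (h2 : W ≤ CC Y) : W ≤ CC (X ⊔ Y) :=
  p1_CC_symm (sup_le (p1_CC_symm h1) (p1_CC_symm h2))

theorem p1_el_sup {X Y : Subgroup G} (eX : El X) (eY : El Y) (h : Y ≤ CC X) : El (X ⊔ Y) := by
  intro w hw
  obtain ⟨x, hx, y, hy, rfl⟩ := exists_mul_of_mem_sup (h.trans (CC_le_NN _)) hw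
  have hc : Commute x y := comm_of_CC (h hy) hx
  calc x * y * (x * y) = x * (y * x) * y := by group
    _ = x * x * (y * y) := by rw [← hc.eq]; group
    _ = 1 := by rw [eX x hx, eY y hy, one_mul]

/-- The computation of the conjugate of `v` by `v ^ k`. -/
theorem p1_key {r v b k θ : G} (hy : Commute k (r * v * b)) (hθ : Commute k (⁅r, v⁆ * θ))
    (bv : Commute b v) (br : Commute b r) (b'v : Commute (k * b * k⁻¹) v)
    (se : Commute (k * r * k⁻¹) ⁅r, v⁆) (sr : Commute (k * r * k⁻¹) r)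
    (sb : Commute (k * r * k⁻¹) b) (fr : Commute (k * ⁅r, v⁆ * k⁻¹) r)
    (eθ' : Commute ⁅r, v⁆ (k * θ * k⁻¹)) (eθ : Commute ⁅r, v⁆ θ) :
    k * v * k⁻¹ * v * (k * v * k⁻¹)⁻¹ = k * θ * k⁻¹ * θ⁻¹ * v := by
  obtain ⟨e, he⟩ : ∃ e, e = ⁅r, v⁆ := ⟨_, rfl⟩
  rw [← he] at hθ se fr eθ' eθ
  obtain ⟨y, hy'⟩ : ∃ y, y = r * v * b := ⟨_, rfl⟩
  rw [← hy'] at hy
  obtain ⟨s, hs⟩ : ∃ s, s = k * r * k⁻¹ := ⟨_, rfl⟩
  obtain ⟨c, hc⟩ : ∃ c, c = k * b * k⁻¹ := ⟨_, rfl⟩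
  obtain ⟨f, hf⟩ : ∃ f, f = k * e * k⁻¹ := ⟨_, rfl⟩
  rw [← hs] at se sr sb
  rw [← hc] at b'v
  rw [← hf] at fr
  have hv : v = r⁻¹ * y * b⁻¹ := by rw [hy']; group
  have hky : k * y * k⁻¹ = y := conj_eq_of_comm hy
  have hg : k * v * k⁻¹ = s⁻¹ * y * c⁻¹ := by
    calc k * v * k⁻¹ = (k * r * k⁻¹)⁻¹ * (k * y * k⁻¹) * (k * b * k⁻¹)⁻¹ := by rw [hy']; group
      _ = s⁻¹ * y * c⁻¹ := by rw [hky, hs, hc]
  have h1 : c⁻¹ * v * c = v := by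
    rw [b'v.inv_left.eq]; group
  have h2 : y * v * y⁻¹ = e * v := by
    have : b * v * b⁻¹ = v := conj_eq_of_comm bv
    calc y * v * y⁻¹ = r * v * (b * v * b⁻¹) * v⁻¹ * r⁻¹ := by rw [hy']; group
      _ = e * v := by rw [this, he, commutatorElement_def]; group
  have h3 : r⁻¹ * y * r = e⁻¹ * y := by
    calc r⁻¹ * y * r = v * (b * r) := by rw [hy']; group
      _ = e⁻¹ * y := by rw [br.eq, he, hy', commutatorElement_def]; group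
  have h4 : s⁻¹ * y * s = f⁻¹ * y := by
    calc s⁻¹ * y * s = (k * r * k⁻¹)⁻¹ * (k * y * k⁻¹) * (k * r * k⁻¹) := by rw [hky, hs]
      _ = k * (r⁻¹ * y * r) * k⁻¹ := by group
      _ = (k * e * k⁻¹)⁻¹ * (k * y * k⁻¹) := by rw [h3]; group
      _ = f⁻¹ * y := by rw [hky, hf]
  have h5 : s⁻¹ * v * s = f⁻¹ * v := by
    have a1 : s⁻¹ * r⁻¹ = r⁻¹ * s⁻¹ := sr.inv_inv.eq
    have a2 : b⁻¹ * s = s * b⁻¹ := sb.inv_right.eq.symm
    have a3 : r⁻¹ * f⁻¹ = f⁻¹ * r⁻¹ := fr.inv_inv.eq.symm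
    calc s⁻¹ * v * s = s⁻¹ * r⁻¹ * y * (b⁻¹ * s) := by rw [hv]; group
      _ = r⁻¹ * (s⁻¹ * y * s) * b⁻¹ := by rw [a1, a2]; group
      _ = r⁻¹ * f⁻¹ * y * b⁻¹ := by rw [h4]; group
      _ = f⁻¹ * (r⁻¹ * y * b⁻¹) := by rw [a3]; group
      _ = f⁻¹ * v := by rw [← hv]
  have h6 : e * f⁻¹ = k * θ * k⁻¹ * θ⁻¹ := by
    have a1 : k * (e * θ) * k⁻¹ = e * θ := conj_eq_of_comm hθ
    have a2 : f = e * θ * (k * θ * k⁻¹)⁻¹ := by
      rw [← a1, hf]; group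
    have a3 : e * (k * θ * k⁻¹ * θ⁻¹) * e⁻¹ = k * θ * k⁻¹ * θ⁻¹ :=
      conj_eq_of_comm (eθ'.mul_right eθ.inv_right)
    rw [← a3, a2]; group
  have h7 : s⁻¹ * e = e * s⁻¹ := se.inv_left.eq
  calc k * v * k⁻¹ * v * (k * v * k⁻¹)⁻¹ = s⁻¹ * (y * (c⁻¹ * v * c) * y⁻¹) * s := by
        rw [hg]; group
    _ = s⁻¹ * e * v * s := by rw [h1, h2]; group
    _ = e * (s⁻¹ * v * s) := by rw [h7]; group
    _ = e * f⁻¹ * v := by rw [h5]; group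
    _ = k * θ * k⁻¹ * θ⁻¹ * v := by rw [h6]

theorem L3c.p1_cE (l : L3c 𝒦 K1 K2 K U V E) (cU : B ≤ CC U) (cV : B ≤ CC V) : B ≤ CC E := by
  intro b hb
  obtain ⟨⟨u, hu⟩, h1⟩ := ne_bot_iff_exists_ne_one.1 l.p1.ne_bot
  refine mem_CC.2 fun e he => ?_
  obtain ⟨v, hv, rfl⟩ := l.surj hu (fun e => h1 (Subtype.ext e)) he
  have a1 := comm_of_CC (cU hb) hu
  have a2 := comm_of_CC (cV hb) hv
  rw [commutatorElement_def]
  exact ((a1.mul_left a2).mul_left a1.inv_left).mul_left a2.inv_left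

/-- The torus element `k`. -/
theorem L3c.p1_k (l : L3c 𝒦 K1 K2 K U V E) (hB : KB ∈ 𝒦) (q : Pt KB B) (hE : HC KB K)
    (hV : HC KB K2) (hne : KB ≠ K1) (hU : ¬ HC KB K1) (cU : B ≤ CC U) (cV : B ≤ CC V) :
    ∃ (Z : Subgroup G) (k : G), Core K E Z ∧ U ≤ NN Z ∧ V ≤ NN Z ∧ B ≤ CC Z ∧ k ∈ NN B ∧
      k ∈ NN (E ⊔ B) ∧ (∀ b ∈ B, Commute k b → b = 1) ∧ Z ≤ CC (Z ^ᶜ k) ∧
      (∀ e ∈ E, e ≠ 1 → ∃ θ ∈ B, θ ≠ 1 ∧ Commute k (e * θ)) ∧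
      ∀ r ∈ Z, ∀ v ∈ V, r * v ∈ CC U → ∃ b ∈ B, Commute k (r * v * b) := by
  have h := l.cw
  have t := h.toFm.toTI
  have cE := l.p1_cE cU cV
  have cJ : B ≤ CC (U ⊔ V ⊔ E) := p1_le_CC_sup (p1_le_CC_sup cU cV) cE
  have tB := q.el.two
  have JE : U ⊔ V ⊔ E ≤ NN E :=
    sup_le (sup_le ((p1_CC_symm l.EU).trans (CC_le_NN _)) ((p1_CC_symm l.EV).trans (CC_le_NN _)))
      le_normalizer
  have UJ : U ≤ U ⊔ V ⊔ E := le_sup_left.trans le_sup_left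
  have VJ : V ≤ U ⊔ V ⊔ E := le_sup_right.trans le_sup_left
  obtain ⟨Z, c, hZ⟩ := h.core_inv l.m l.p (two_sup l.two tB (cJ.trans (CC_le_NN _)))
    (sup_le JE (cE.trans (CC_le_NN _)))
  have JZ : U ⊔ V ⊔ E ≤ NN Z := le_sup_left.trans hZ
  have BZ : B ≤ CC Z := fun b hb =>
    t.mem_CC_of_hc l.m hB hE.symm c.two c.le (q.le hb) (hZ (mem_sup_right hb))
  have tZJ := two_sup c.two l.two JZ
  have cZJ : B ≤ CC (Z ⊔ (U ⊔ V ⊔ E)) := p1_le_CC_sup BZ cJ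
  obtain ⟨ZB, cB, hZB⟩ := h.core_inv hB q tZJ ((p1_CC_symm cZJ).trans (CC_le_NN _))
  have ZZB : Z ≤ CC ZB := fun z hz =>
    t.mem_CC_of_hc hB l.m hE cB.two cB.le (c.le hz) (hZB (mem_sup_left hz))
  have VZB : V ≤ CC ZB := fun v hv =>
    t.mem_CC_of_hc hB l.m2 hV cB.two cB.le (l.l2 hv) (hZB (mem_sup_right (VJ hv)))
  have UZB : U ≤ NN ZB := fun u hu => hZB (mem_sup_right (UJ hu))
  have BZB : B ≤ CC ZB := cB.om.le.trans cB.ab.le_CC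
  have tX : IsPGroup 2 ↥((Z ⊔ (U ⊔ V ⊔ E) ⊔ B) ⊓ CC U) :=
    (two_sup tZJ tB (cZJ.trans (CC_le_NN _))).to_inf_left
  obtain ⟨ZU, c1, hZU⟩ := h.core_inv l.m1 l.p1 tX (inf_le_right.trans (CC_le_NN _))
  have BZU : B ≤ NN ZU := (le_inf le_sup_right cU).trans hZU
  have nh : ¬ HC K1 KB := fun hc => hU hc.symm
  have spl : ∀ m ∈ Z ⊔ (U ⊔ V ⊔ E), m ∈ CC U → m ∈ CC ZB →
      ∃ b ∈ B, m * b ∈ CC ZU ∧ m * b ∈ CC (ZU ⊔ ZB) := fun m h1 h2 h3 => by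
    obtain ⟨b, hb, h4⟩ := h.split l.m1 hB hne.symm nh c1 cB BZU UZB h2 h3
      (hZU (mem_inf.2 ⟨mem_sup_left h1, h2⟩))
    refine ⟨b, hb, h4, ?_⟩
    rw [CC, centralizer_sup]
    exact mem_inf.2 ⟨h4, mul_mem h3 (BZB hb)⟩
  obtain ⟨k0, hk0, -, kB, -, fB, -⟩ := h.exists_k l.m1 hB hne.symm nh c1 cB BZU UZB
  have hθ : ∀ e ∈ E, ∃ θ ∈ B, (e ≠ 1 → θ ≠ 1) ∧ Commute k0 (e * θ) := fun e he => by
    obtain ⟨θ, h1, h2, h3⟩ := spl e (mem_sup_left (c.om.le he)) (l.EU he) (ZZB (c.om.le he))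
    refine ⟨θ, h1, fun h0 e1 => l.h1 ?_, comm_of_CC h3 hk0⟩
    rw [e1, mul_one] at h2
    exact h.hc_of_cen l.m1 l.m l.n1 c1 (l.l he) (.of_sq (l.p.el e he)) h0 h2
  have hform : ∀ e θ : G, Commute k0 (e * θ) → k0 * e * k0⁻¹ = e * (θ * (k0 * θ⁻¹ * k0⁻¹)) :=
    fun e θ hc => by
      calc k0 * e * k0⁻¹ = k0 * (e * θ) * k0⁻¹ * (k0 * θ⁻¹ * k0⁻¹) := by group
        _ = e * (θ * (k0 * θ⁻¹ * k0⁻¹)) := by rw [conj_eq_of_comm hc]; group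
  have kW : k0 ∈ NN (E ⊔ B) := by
    refine mem_normalizer_of_map_conj_le ?_
    rw [map_conj_sup]
    refine sup_le (map_conj_le_iff_forall.2 fun e he => ?_)
      (map_conj_le_iff_forall.2 fun b hb => mem_sup_right (conj_mem_of_mem_normalizer kB hb))
    obtain ⟨θ, h1, -, h3⟩ := hθ e he
    rw [hform e θ h3]
    exact mul_mem (mem_sup_left he)
      (mem_sup_right (mul_mem h1 (conj_mem_of_mem_normalizer kB (inv_mem h1))))
  have WZ : E ⊔ B ≤ CC Z := sup_le (c.om.le.trans c.ab.le_CC) BZ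
  have eW : El (E ⊔ B) := p1_el_sup l.p.el q.el cE
  have mk := t.conj K l.m k0
  have hck : HC K (K ^ᶜ k0) := by
    obtain ⟨⟨e, he⟩, h0⟩ := ne_bot_iff_exists_ne_one.1 l.p.ne_bot
    have h0' : e ≠ 1 := fun e => h0 (Subtype.ext e)
    obtain ⟨θ, h1, h2, h3⟩ := hθ e he
    have hmem : k0 * e * k0⁻¹ ∈ K ^ᶜ k0 := conj_mem_map_conj.2 (l.l he)
    refine h.hc_of_cen l.m mk (fun e1 => ?_) c hmem ((Two.of_sq (l.p.el e he)).conj k0)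
      (fun e1 => h0' (by simpa using e1))
      (WZ (conj_mem_of_mem_normalizer kW (mem_sup_left he)))
    rw [← e1, hform e θ h3] at hmem
    have hb : θ * (k0 * θ⁻¹ * k0⁻¹) ∈ B :=
      mul_mem h1 (conj_mem_of_mem_normalizer kB (inv_mem h1))
    have h4 := t.eq_one hB l.m hE.1 (q.le hb) ((mul_mem_cancel_left (l.l he)).1 hmem)
      (.of_mem tB hb)
    refine h2 h0' (inv_eq_one.1 (fB _ (inv_mem h1) (comm_of_conj_eq ?_)))
    exact eq_inv_of_mul_eq_one_right h4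
  obtain ⟨d, hd, -, -, ho, hdZ⟩ := t.compat l.m mk hck c.two c.le (c.conj k0).two (c.conj k0).le
  rw [map_conj_map_conj] at hdZ
  have XW : Z ⊔ Z ^ᶜ k0 ≤ CC (E ⊔ B) := by
    refine sup_le (p1_CC_symm WZ) ?_
    have := le_CC_conj (p1_CC_symm WZ) k0
    rwa [map_conj_eq_of_mem_norm kW] at this
  have dW : ∀ w ∈ E ⊔ B, Commute d w := fun w hw => (comm_of_CC (XW hd) hw).symm
  refine ⟨Z, d * k0, c, UJ.trans JZ, VJ.trans JZ, BZ, mul_mem (CC_le_NN _ ?_) kB,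
    mul_mem (CC_le_NN _ (XW hd)) kW, fun b hb hc => fB b hb ?_, hdZ, fun e he h0 => ?_,
    fun r hr v hv hrv => ?_⟩
  · exact mem_CC.2 fun b hb => (dW b (mem_sup_right hb)).symm
  · have := (dW b (mem_sup_right hb)).inv_left.mul_left hc
    rwa [inv_mul_cancel_left] at this
  · obtain ⟨θ, h1, h2, h3⟩ := hθ e he
    exact ⟨θ, h1, h2 h0, (dW _ (mul_mem (mem_sup_left he) (mem_sup_right h1))).mul_left h3⟩
  · obtain ⟨b, hb, -, h3⟩ := spl (r * v) (mul_mem (mem_sup_left hr) (mem_sup_right (VJ hv))) hrv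
      (mul_mem (ZZB hr) (VZB hv))
    have hk := comm_of_CC h3 hk0
    refine ⟨b, hb, Commute.mul_left ?_ hk⟩
    have hz : ∀ z ∈ Z, ⁅z, r * v * b⁆ ∈ E ⊔ B := fun z hz => by
      have a1 : r⁻¹ * z * r = z := by rw [(c.ab r hr z hz).inv_left.eq]; group
      have a2 : b * z⁻¹ * b⁻¹ = z⁻¹ := conj_eq_of_comm (comm_of_CC (BZ hb) (inv_mem hz)).symm
      have a3 := (l.symm.rt c (VJ.trans JZ)).com z hz v hv
      have a4 : r * ⁅z, v⁆ * r⁻¹ = ⁅z, v⁆ := conj_eq_of_comm (c.ab r hr _ (c.om.le a3))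
      have a5 : ⁅z, r * v * b⁆ = ⁅z, v⁆ := by
        calc ⁅z, r * v * b⁆ = r * (r⁻¹ * z * r * v * (b * z⁻¹ * b⁻¹) * v⁻¹) * r⁻¹ := by
              rw [commutatorElement_def]; group
          _ = r * ⁅z, v⁆ * r⁻¹ := by rw [a1, a2, commutatorElement_def]
          _ = ⁅z, v⁆ := a4
      rw [a5]
      exact mem_sup_left a3
    refine comm_of_odd eW XW ((Z : Set G) ∪ ((Z ^ᶜ k0 : Subgroup G) : Set G))
      (sup_eq_closure _ _).symm (fun x hx => ?_) hd ho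
    rcases hx with hx | hx
    · exact hz x hx
    · obtain ⟨z, hz', rfl⟩ := mem_map_conj_iff_exists.1 hx
      have := conj_mem_of_mem_normalizer kW (hz z hz')
      rwa [conj_comm_elt, conj_eq_of_comm hk] at this

theorem L3c.p1_false (l : L3c 𝒦 K1 K2 K U V E) (hB : KB ∈ 𝒦) (q : Pt KB B) (hE : HC KB K)
    (hV : HC KB K2) (hne : KB ≠ K1) (hU : ¬ HC KB K1) (cU : B ≤ CC U) (cV : B ≤ CC V) :
    False := by
  have h := l.cw
  have t := h.toFm.toTI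
  have cE := l.p1_cE cU cV
  have tB := q.el.two
  obtain ⟨Z, k, c, UZ, VZ, BZ, kB, kW, fB, ZZ, hθ, hy⟩ := l.p1_k hB q hE hV hne hU cU cV
  obtain ⟨ZV, c2, hZV⟩ := h.core_inv l.m2 l.p2 tB (cV.trans (CC_le_NN _))
  have BZV : B ≤ CC ZV := fun b hb =>
    t.mem_CC_of_hc l.m2 hB hV.symm c2.two c2.le (q.le hb) (hZV hb)
  have WZ : E ⊔ B ≤ CC Z := sup_le (c.om.le.trans c.ab.le_CC) BZ
  have BZk : B ≤ CC (Z ^ᶜ k) := by
    have := le_CC_conj BZ k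
    rwa [map_conj_eq_of_mem_norm kB] at this
  have main : ∀ v ∈ V, v ≠ 1 → HC K2 (K2 ^ᶜ (k * v * k⁻¹)) := fun v hv h1 => by
    obtain ⟨r, hr, hrv⟩ := l.exists_r c UZ VZ hv
    have rt := l.symm.rt c VZ
    have he := rt.com r hr v hv
    have hrE : r ∉ E := fun hr' => by
      obtain ⟨⟨u, hu⟩, h0⟩ := ne_bot_iff_exists_ne_one.1 l.p1.ne_bot
      have hv' : v ∈ CC U := (mul_mem_cancel_left (l.EU hr')).1 hrv
      rcases l.ns u hu v hv (comm_of_CC hv' hu) with e | e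
      · exact h0 (Subtype.ext e)
      · exact h1 e
    have he1 : ⁅r, v⁆ ≠ 1 := fun e =>
      (rt.ns r hr v hv (commutatorElement_eq_one_iff_commute.1 e)).elim hrE h1
    obtain ⟨θ, hθ1, hθ2, hθ3⟩ := hθ _ he he1
    obtain ⟨b, hb, hb2⟩ := hy r hr v hv hrv
    have hs : k * r * k⁻¹ ∈ Z ^ᶜ k := conj_mem_map_conj.2 hr
    have hθk := conj_mem_of_mem_normalizer kB hθ1
    have key := p1_key hb2 hθ3 (comm_of_CC (cV hb) hv).symm (comm_of_CC (BZ hb) hr).symm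
      (comm_of_CC (cV (conj_mem_of_mem_normalizer kB hb)) hv).symm
      (comm_of_CC (ZZ (c.om.le he)) hs) (comm_of_CC (ZZ hr) hs) (comm_of_CC (BZk hb) hs)
      (comm_of_CC (WZ (conj_mem_of_mem_normalizer kW (mem_sup_left he))) hr).symm
      (comm_of_CC (cE hθk) he) (comm_of_CC (cE hθ1) he)
    have hb0 : k * θ * k⁻¹ * θ⁻¹ ∈ B := mul_mem hθk (inv_mem hθ1)
    have hmem : k * v * k⁻¹ * v * (k * v * k⁻¹)⁻¹ ∈ K2 ^ᶜ (k * v * k⁻¹) :=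
      conj_mem_map_conj.2 (l.l2 hv)
    refine h.hc_of_cen l.m2 (t.conj _ l.m2 _) (fun e1 => ?_) c2 hmem
      ((Two.of_sq (l.p2.el v hv)).conj _) (fun e1 => h1 (conj_eq_one_iff.1 e1)) ?_
    · rw [← e1, key] at hmem
      have h4 := t.eq_one hB l.m2 hV.1 (q.le hb0) ((mul_mem_cancel_right (l.l2 hv)).1 hmem)
        (.of_mem tB hb0)
      exact hθ2 (fB θ hθ1 (comm_of_conj_eq (mul_inv_eq_one.1 h4)))
    · rw [key]
      exact mul_mem (BZV hb0) (c2.ab.le_CC (c2.om.le hv))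
  obtain ⟨a, ha, b, hb, a2, b2, hab, hc⟩ := four_of_el l.p2.el l.p2.card.ge
  have a1 : a ≠ 1 := fun e => by simp [e] at a2
  have b1 : b ≠ 1 := fun e => by simp [e] at b2
  have ab1 : a * b ≠ 1 := fun e =>
    hab (mul_right_cancel (e.trans (l.p2.el b hb).symm))
  have hm : k * a * k⁻¹ * (k * b * k⁻¹) = k * (a * b) * k⁻¹ := by group
  refine four_reg h.toFm h.fh (t.conj _ l.m2 k) l.m2 (h.bg l.m2)
    (conj_mem_map_conj.2 (l.l2 ha)) (conj_mem_map_conj.2 (l.l2 hb))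
    ((conj_sq_iff k a).2 (l.p2.el a ha)) ((conj_sq_iff k b).2 (l.p2.el b hb)) (comm_conj k hc)
    (main a ha a1) (main b hb b1) ?_
  rw [hm]
  exact main _ (mul_mem ha hb) ab1

end Cfsg.Agent.CT8
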