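import Mathlib
import Cfsg.Agent.CT8.L3P1

/-! S1308, piece L3P2.  See `stubs/Cfsg/Agent/CT8/PLAN.md`. -/

set_option autoImplicit false
set_option linter.unusedSectionVars false
set_option linter.unusedVariables false

namespace Cfsg.Agent.CT8

open Subgroup Cfsg.Agent.GT Cfsg.Agent.Inv Cfsg.Agent.Cmp
open scoped commutatorElement

variable {G : Type*} [Group G] [Finite G] {𝒦 : Set (Subgroup G)}

variable {K1 K2 K U V E KB B : Subgroup G}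

theorem l3p2_cc_symm {X Y : Subgroup G} (h : X ≤ CC Y) : Y ≤ CC X := fun y hy =>
  mem_CC.2 fun x hx => (comm_of_CC (h hx) hy).symm

theorem l3p2_cc_sup {X Y : Subgroup G} {y : G} (h1 : y ∈ CC X) (h2 : y ∈ CC Y) : y ∈ CC (X ⊔ Y) := by
  rw [CC, centralizer_sup]; exact ⟨h1, h2⟩

theorem l3p2_inv {x : G} (h : x * x = 1) : x⁻¹ = x := inv_eq_of_mul_eq_one_right h

theorem l3p2_el_sup {X Y : Subgroup G} (hX : El X) (hY : El Y) (h : Y ≤ CC X) : El (X ⊔ Y) := by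
  intro g hg
  obtain ⟨a, ha, b, hb, rfl⟩ := exists_mul_of_mem_sup (h.trans (CC_le_NN X)) hg
  have := comm_of_CC (h hb) ha
  calc a * b * (a * b) = a * (b * a) * b := by group
    _ = a * a * (b * b) := by rw [← this.eq]; group
    _ = 1 := by rw [hX a ha, hY b hb, mul_one]

theorem l3p2_exists_ne {X : Subgroup G} (h : X ≠ ⊥) : ∃ x ∈ X, x ≠ 1 := by
  by_contra hc
  push Not at hc
  exact h ((eq_bot_iff_forall X).2 hc)

theorem l3p2_exists_notMem {Z : Subgroup G} (c : Core K E Z) : ∃ z ∈ Z, z ∉ E := by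
  by_contra hc
  push Not at hc
  exact c.ne (le_antisymm hc c.om.le)

theorem l3p2_comm_mul {ρ a b : G} (h : Commute a ⁅ρ, b⁆) : ⁅ρ, a * b⁆ = ⁅ρ, a⁆ * ⁅ρ, b⁆ := by
  calc ⁅ρ, a * b⁆ = ⁅ρ, a⁆ * (a * ⁅ρ, b⁆ * a⁻¹) := by simp only [commutatorElement_def]; group
    _ = _ := by rw [conj_eq_of_comm h]

theorem l3p2_id1 {r v w : G} (h : Commute w (r * v)) (h1 : Commute r ⁅r, w⁆) (h2 : Commute w ⁅r, w⁆) :
    w⁻¹ * v * w = ⁅r, w⁆⁻¹ * v := by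
  have e1 : (r * w)⁻¹ * ⁅r, w⁆⁻¹ * (r * w)⁻¹⁻¹ = ⁅r, w⁆⁻¹ :=
    conj_eq_of_comm (h1.mul_left h2).inv_inv
  have e2 : w⁻¹ * (r * v) * w⁻¹⁻¹ = r * v := conj_eq_of_comm h.inv_left
  calc w⁻¹ * v * w = ((r * w)⁻¹ * ⁅r, w⁆⁻¹ * (r * w)⁻¹⁻¹) * (r⁻¹ * (w⁻¹ * (r * v) * w⁻¹⁻¹)) := by
        simp only [commutatorElement_def]; group
    _ = _ := by rw [e1, e2]; group

theorem l3p2_id2 {r v u s : G} (hx : Commute s (r * v * u)) (hr : Commute s r) :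
    s⁻¹ * v * s = v * (u * s⁻¹ * u⁻¹ * s) := by
  have e : s⁻¹ * (r⁻¹ * (r * v * u)) * s⁻¹⁻¹ = r⁻¹ * (r * v * u) :=
    conj_eq_of_comm (hr.inv_right.mul_right hx).inv_left
  calc s⁻¹ * v * s = s⁻¹ * (r⁻¹ * (r * v * u)) * s⁻¹⁻¹ * (s⁻¹ * u⁻¹ * s) := by group
    _ = _ := by rw [e]; group

theorem l3p2_fpf {k b : G} (eB : El B) (hf : ∀ q ∈ B, Commute k q → q = 1) (hb : b ∈ B)
    (h : b * (k * b * k⁻¹) = 1) : b = 1 :=
  hf b hb (comm_of_conj_eq ((eq_inv_of_mul_eq_one_right h).trans (l3p2_inv (eB b hb))))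

theorem l3p2_conj {k e b : G} (h : Commute k (e * b)) (hb : b * b = 1) :
    k * e * k⁻¹ = e * (b * (k * b * k⁻¹)) := by
  calc k * e * k⁻¹ = k * (e * (b * b)) * k⁻¹ := by rw [hb, mul_one]
    _ = k * (e * b) * k⁻¹ * (k * b * k⁻¹) := by group
    _ = _ := by rw [conj_eq_of_comm h, mul_assoc]

/-- The end game. -/
theorem l3p2_end (l : L3c 𝒦 K1 K2 K U V E) {Z ZU : Subgroup G} (c : Core K E Z)
    (c1 : Core K1 U ZU) (k : G)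
    (H : ∀ g ∈ V ^ᶜ k, g ≠ 1 → ∀ v ∈ V, v ≠ 1 → ∃ a, g * v * g⁻¹ = v * a ∧ a * a = 1 ∧ a ∈ CC U ∧
      a ∈ CC V ∧ a ∈ CC E ∧ a ∈ CC Z ∧ a ∈ CC ZU ∧ a ∉ K) : False := by
  have ti := l.cw.toFm.toTI
  obtain ⟨v, hv, v1⟩ := l3p2_exists_ne l.p2.ne_bot
  obtain ⟨u, hu, u1⟩ := l3p2_exists_ne l.p1.ne_bot
  have hcase : ∀ g ∈ V ^ᶜ k, g ≠ 1 → HC K2 (K2 ^ᶜ g) := by
    intro g hg g1
    by_contra hc
    obtain ⟨a, ea, a2, aU, aV, aE, aZ, aZU, aK⟩ := H g hg g1 v hv v1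
    have a1 : a ≠ 1 := fun e => aK (e ▸ one_mem K)
    have hva : v * a ∈ V ^ᶜ g := ea ▸ conj_mem_map_conj.2 hv
    have hne : K2 ≠ K2 ^ᶜ g := by
      intro e
      have h1 : v * a ∈ K2 := e ▸ map_mono l.l2 hva
      have h2 : a ∈ K2 := (mul_mem_cancel_left (l.l2 hv)).1 h1
      exact u1 (l.not_NN hu (ti.mem_NN l.m2 h2 (Two.of_sq a2) a1 (comm_of_CC aU hu)))
    have hVV : V ^ᶜ g ≤ CC V := by
      refine map_conj_le_iff_forall.2 fun y hy => ?_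
      by_cases y1 : y = 1
      · simp [y1]
      · obtain ⟨a', ea', -, -, aV', -⟩ := H g hg g1 y hy y1
        rw [ea']
        exact mul_mem (l.p2.el.ab.le_CC hy) aV'
    have pg : Pt (K2 ^ᶜ g) (V ^ᶜ g) := l.p2.conj g
    have mg := ti.conj K2 l.m2 g
    obtain ⟨ZV, cV, nV⟩ := l.cw.core_inv l.m2 l.p2 pg.el.two (hVV.trans (CC_le_NN V))
    have rt : Rt V ZV (V ^ᶜ g) := l.cw.rt K2 l.m2 _ mg hne hc V ZV _ cV pg nV
    have va1 : v * a ≠ 1 := by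
      rw [← ea]
      intro e
      exact v1 (by simpa using e)
    obtain ⟨ρ, hρ, eρ⟩ := rt.surj' cV.card_mul hva va1 hv
    have eρ' : ρ * (v * a) * ρ⁻¹ = a := by
      calc ρ * (v * a) * ρ⁻¹ = ⁅ρ, v * a⁆ * (v * a) := by simp only [commutatorElement_def]; group
        _ = v * v * a := by rw [eρ, mul_assoc]
        _ = a := by rw [l.p2.el v hv, one_mul]
    have hρK : K2 ^ᶜ ρ = K2 := map_conj_eq_of_mem (cV.le hρ)
    have p' : Pt ((K2 ^ᶜ g) ^ᶜ ρ) ((V ^ᶜ g) ^ᶜ ρ) := pg.conj ρ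
    have m' := ti.conj _ mg ρ
    have ha : a ∈ (V ^ᶜ g) ^ᶜ ρ := eρ' ▸ conj_mem_map_conj.2 hva
    have haK := p'.le ha
    have n2 : (K2 ^ᶜ g) ^ᶜ ρ ≠ K2 := fun e => hne (map_conj_inj.1 (hρK.trans e.symm))
    have h2 : ¬ HC ((K2 ^ᶜ g) ^ᶜ ρ) K2 := fun h =>
      hc ((hc_conj_iff ρ).1 (by rw [hρK]; exact h.symm))
    have n0 : K ≠ (K2 ^ᶜ g) ^ᶜ ρ := fun e => aK (e ▸ haK)
    have n1 : K1 ≠ (K2 ^ᶜ g) ^ᶜ ρ := fun e =>
      v1 (l.symm.not_NN hv (ti.mem_NN l.m1 (e ▸ haK) (Two.of_sq a2) a1 (comm_of_CC aV hv)))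
    have h0 := l.cw.hc_of_cen l.m m' n0 c haK (Two.of_sq a2) a1 aZ
    have h1 := l.cw.hc_of_cen l.m1 m' n1 c1 haK (Two.of_sq a2) a1 aZU
    obtain ⟨Q, ZQ, cQ, -, nQ⟩ := l.cw.pt_inv m' p' ha a1 l.two
      fun x hx => comm_of_CC (l3p2_cc_sup (l3p2_cc_sup aU aV) aE) hx
    have qU := l.cw.cen m' l.m1 n1.symm cQ l.p1 ((le_sup_left.trans le_sup_left).trans nQ)
    have qV := l.cw.cen m' l.m2 n2 cQ l.p2 ((le_sup_right.trans le_sup_left).trans nQ)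
    exact l.symm.p1_false m' ⟨ZQ, cQ⟩ h0.symm h1.symm n2 h2 qV qU
  have pk : Pt (K2 ^ᶜ k) (V ^ᶜ k) := l.p2.conj k
  obtain ⟨a, ha, b, hb, a2, b2, ab, cab⟩ := four_of_el pk.el pk.card.ge
  have a1 : a ≠ 1 := fun e => by simp [e] at a2
  have b1 : b ≠ 1 := fun e => by simp [e] at b2
  have ab1 : a * b ≠ 1 := fun e =>
    ab ((eq_inv_of_mul_eq_one_left e).trans (l3p2_inv (pk.el b hb)))
  exact four_reg l.cw.toFm l.cw.fh (ti.conj K2 l.m2 k) l.m2 (l.cw.bg l.m2) (pk.le ha) (pk.le hb)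
    (pk.el a ha) (pk.el b hb) cab (hcase a ha a1) (hcase b hb b1) (hcase _ (mul_mem ha hb) ab1)

section

variable (l : L3c 𝒦 K1 K2 K U V E) (hB : KB ∈ 𝒦) (hE : HC KB K) (hne : KB ≠ K1)
    (hU : ¬ HC KB K1) {Z ZU ZB : Subgroup G} (c : Core K E Z)
    (c1 : Core K1 U ZU) (cB : Core KB B ZB) (UZ : U ≤ NN Z) (ZZ : Z ≤ CC ZB)
    (UB : U ≤ NN ZB) (EU : E ≤ NN ZU) (BU : B ≤ NN ZU)

include l hB hne hU c c1 cB ZZ UB EU BU in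
theorem l3p2_theta {e : G} (he : e ∈ E) : ∃ b ∈ B, e * b ∈ CC ZU ∧ e * b ∈ CC ZB ∧ e * b ∈ CC Z ∧
    (b = 1 → e = 1) := by
  obtain ⟨b, hb, h⟩ := l.cw.split l.m1 hB hne.symm (fun h => hU h.symm) c1 cB BU UB (l.EU he)
    (ZZ (c.om.le he)) (EU he)
  refine ⟨b, hb, h, mul_mem (ZZ (c.om.le he)) (cB.ab.le_CC (cB.om.le hb)),
    mul_mem (c.ab.le_CC (c.om.le he)) (l3p2_cc_symm ZZ (cB.om.le hb)), fun e1 => ?_⟩
  rw [e1, mul_one] at h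
  obtain ⟨z, hz, hz'⟩ := l3p2_exists_notMem c1
  exact ((l.cw.rt K1 l.m1 K l.m l.n1 l.h1 U ZU E c1 l.p EU).ns z hz e he
    (comm_of_CC h hz)).resolve_left hz'

include l hB hE hne hU c c1 cB UZ ZZ UB EU BU in
theorem l3p2_k : ∃ k : G, k ∈ NN U ∧ k ∈ NN B ∧ (∀ p ∈ U, Commute k p → p = 1) ∧
    (∀ q ∈ B, Commute k q → q = 1) ∧ (∀ z ∈ ZU, ∀ q ∈ B, k * ⁅z, k * q * k⁻¹⁆ * k⁻¹ = ⁅z, q⁆) ∧
    (∀ y, y ∈ CC Z → y ∈ CC ZU → y ∈ CC ZB → Commute k y) ∧ Z ≤ CC (Z ^ᶜ k) := by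
  have ti := l.cw.toFm.toTI
  have pB : Pt KB B := ⟨ZB, cB⟩
  obtain ⟨k, hk, nU, nB, fU, fB, hz⟩ :=
    l.cw.exists_k l.m1 hB hne.symm (fun h => hU h.symm) c1 cB BU UB
  have c0 : ∀ y, y ∈ CC ZU → y ∈ CC ZB → Commute k y := fun y h1 h2 =>
    comm_of_CC (l3p2_cc_sup h1 h2) hk
  have ek : ∀ e ∈ E, ∃ β ∈ B, (β = 1 → e = 1) ∧ k * e * k⁻¹ = e * β := fun e he => by
    obtain ⟨b, hb, h1, h2, -, h4⟩ := l3p2_theta l hB hne hU c c1 cB ZZ UB EU BU he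
    exact ⟨_, mul_mem hb (conj_mem_of_mem_normalizer nB hb), fun h => h4 (l3p2_fpf pB.el fB hb h),
      l3p2_conj (c0 _ h1 h2) (pB.el b hb)⟩
  have BZ : B ≤ CC Z := cB.om.le.trans (l3p2_cc_symm ZZ)
  have EZ : E ≤ CC Z := c.om.le.trans c.ab.le_CC
  have mk := ti.conj K l.m k
  have hc : HC K (K ^ᶜ k) := by
    obtain ⟨e, he, e1⟩ := l3p2_exists_ne l.p.ne_bot
    obtain ⟨β, hβ, h1, h2⟩ := ek e he
    have h3 : e * β ∈ K ^ᶜ k := h2 ▸ conj_mem_map_conj.2 (l.l he)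
    refine l.cw.hc_of_cen l.m mk (fun e' => e1 (h1 ?_)) c h3
      (h2 ▸ (Two.of_sq (l.p.el e he)).conj k) ?_ (mul_mem (EZ he) (BZ hβ))
    · exact ti.eq_one hB l.m hE.1 (pB.le hβ) ((mul_mem_cancel_left (l.l he)).1 (e' ▸ h3))
        (Two.of_sq (pB.el β hβ))
    · rw [← h2]
      intro e'
      exact e1 (by simpa using e')
  obtain ⟨d, hd, -, -, od, hZ⟩ := ti.compat l.m mk hc c.two c.le (c.conj k).two (c.conj k).le
  have BZ' : B ≤ CC (Z ^ᶜ k) := fun b hb => by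
    have := conj_mem_CC k (BZ (conj_mem_of_mem_normalizer' nB hb))
    rwa [show k * (k⁻¹ * b * k) * k⁻¹ = b by group] at this
  have EZ' : E ≤ CC (Z ^ᶜ k) := fun e he => by
    obtain ⟨β, hβ, -, h2⟩ := ek e he
    exact (mul_mem_cancel_right (BZ' hβ)).1 (h2 ▸ conj_mem_CC k (EZ he))
  have dB : ∀ b ∈ B, Commute d b := fun b hb => comm_of_CC (l3p2_cc_sup (BZ hb) (BZ' hb)) hd
  have rE := l.rt c UZ
  have dU : ∀ u ∈ U, Commute d u := fun u hu => by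
    refine comm_of_odd (X := Z ⊔ Z ^ᶜ k) (B := E ⊔ B)
      (l3p2_el_sup l.p.el pB.el (BZ.trans (centralizer_anti c.om.le)))
      (l3p2_cc_symm (sup_le (fun e he => l3p2_cc_sup (EZ he) (EZ' he))
        fun b hb => l3p2_cc_sup (BZ hb) (BZ' hb)))
      ((Z : Set G) ∪ ((Z ^ᶜ k : Subgroup G) : Set G)) (by rw [Subgroup.closure_union, closure_eq, closure_eq])
      ?_ hd od
    rintro x (hx | hx)
    · exact mem_sup_left (rE.com x hx u hu)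
    · obtain ⟨z, hz', rfl⟩ := mem_map_conj_iff_exists.1 hx
      obtain ⟨β, hβ, -, h2⟩ := ek _ (rE.com z hz' _ (conj_mem_of_mem_normalizer' nU hu))
      have : ⁅k * z * k⁻¹, u⁆ = k * ⁅z, k⁻¹ * u * k⁆ * k⁻¹ := by
        simp only [commutatorElement_def]; group
      rw [this, h2]
      exact mul_mem (mem_sup_left (rE.com z hz' _ (conj_mem_of_mem_normalizer' nU hu)))
        (mem_sup_right hβ)
  have key : ∀ {X : Subgroup G}, k ∈ NN X → (∀ x ∈ X, Commute d x) → ∀ x ∈ X,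
      d * k * x * (d * k)⁻¹ = k * x * k⁻¹ := fun {X} hn hd' x hx => by
    rw [← conj_eq_of_comm (hd' _ (conj_mem_of_mem_normalizer hn hx))]; group
  have rB : Rt U ZU B := l.cw.rt K1 l.m1 KB hB hne.symm (fun h => hU h.symm) U ZU B c1 pB BU
  refine ⟨d * k, mul_mem (CC_le_NN U (mem_CC.2 fun u hu => (dU u hu).symm)) nU,
    mul_mem (CC_le_NN B (mem_CC.2 fun u hu => (dB u hu).symm)) nB, fun p hp h => fU p hp ?_,
    fun p hp h => fB p hp ?_, fun z hz' q hq => ?_, fun y h1 h2 h3 => ?_, ?_⟩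
  · simpa using (dU p hp).inv_left.mul_left h
  · simpa using (dB p hp).inv_left.mul_left h
  · rw [key nB dB q hq, key nU dU _ (rB.com z hz' _ (conj_mem_of_mem_normalizer nB hq)), hz z hz' q hq]
  · have h4 := conj_mem_CC k h1
    rw [conj_eq_of_comm (c0 y h2 h3)] at h4
    exact (comm_of_CC (l3p2_cc_sup h1 h4) hd).mul_left (c0 y h2 h3)
  · rw [map_conj_mul]; exact hZ

end

theorem L3c.p2_false (l : L3c 𝒦 K1 K2 K U V E) (hB : KB ∈ 𝒦) (hE : HC KB K) (hne : KB ≠ K1)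
    (hU : ¬ HC KB K1) (cU : B ≤ CC U) (cV : B ≤ CC V) {Z ZU ZB : Subgroup G} (c : Core K E Z)
    (c1 : Core K1 U ZU) (cB : Core KB B ZB) (UZ : U ≤ NN Z) (VZ : V ≤ NN Z) (ZZ : Z ≤ CC ZB)
    (UB : U ≤ NN ZB) (EU : E ≤ NN ZU) (BU : B ≤ NN ZU)
    (hx : ∀ v ∈ V, ∃ r ∈ Z, ∃ u ∈ U, r * v ∈ CC U ∧ r * u ∈ CC V ∧ r * v * u ∈ CC ZU ∧
      r * v * u ∈ CC ZB) : False := by
  have ti := l.cw.toFm.toTI
  have pB : Pt KB B := ⟨ZB, cB⟩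
  obtain ⟨k, nU, nB, fU, fB, hz, ck, Zk⟩ := l3p2_k l hB hE hne hU c c1 cB UZ ZZ UB EU BU
  have BZ : B ≤ CC Z := cB.om.le.trans (l3p2_cc_symm ZZ)
  have EZ : E ≤ CC Z := c.om.le.trans c.ab.le_CC
  have BE : B ≤ CC E := BZ.trans (centralizer_anti c.om.le)
  have rU := l.rt c UZ
  have rV := l.symm.rt c VZ
  have rE : Rt U ZU E := l.cw.rt K1 l.m1 K l.m l.n1 l.h1 U ZU E c1 l.p EU
  have rB : Rt U ZU B := l.cw.rt K1 l.m1 KB hB hne.symm (fun h => hU h.symm) U ZU B c1 pB BU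
  obtain ⟨u0, hu0, u01⟩ := l3p2_exists_ne l.p1.ne_bot
  have rn : ∀ {v r : G}, v ∈ V → v ≠ 1 → r * v ∈ CC U → r ∉ E := fun {v r} hv v1 h hr =>
    (l.ns u0 hu0 v hv (comm_of_CC ((mul_mem_cancel_left (l.EU hr)).1 h) hu0)).elim u01 v1
  refine l3p2_end l c c1 k fun g hg g1 v hv v1 => ?_
  obtain ⟨v', hv', rfl⟩ := mem_map_conj_iff_exists.1 hg
  have v1' : v' ≠ 1 := fun e => g1 (by simp [e])
  obtain ⟨r, hr, u, hu, x1, x2, x3, x4⟩ := hx v hv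
  obtain ⟨r', hr', u', hu', y1, y2, y3, y4⟩ := hx v' hv'
  obtain ⟨-, -, x5, -⟩ := l.x_cen c UZ VZ hr hu hv x1 x2
  obtain ⟨-, y6, y5, -⟩ := l.x_cen c UZ VZ hr' hu' hv' y1 y2
  have u1 : u ≠ 1 := fun e => by
    rw [e, mul_one] at x2
    exact (rV.ns r hr v hv (comm_of_CC x2 hv).symm).elim (rn hv v1 x1) v1
  have hw : k * u' * k⁻¹ ∈ U := conj_mem_of_mem_normalizer nU hu'
  have hp : k⁻¹ * u * k ∈ U := conj_mem_of_mem_normalizer' nU hu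
  have he1 : ⁅r, k * u' * k⁻¹⁆ ∈ E := rU.com r hr _ hw
  have he2 : ⁅r', k⁻¹ * u * k⁆ ∈ E := rU.com r' hr' _ hp
  have fa := fun {z y p : G} (hz : z ∈ ZU) (hy : y ∈ Z) (hp : p ∈ U) =>
    l.cw.fa l.m1 l.m l.n1 l.h1 c1 c EU UZ nU fU hz hy hp
  have sy : ⁅r, u'⁆ = ⁅r', u⁆ := l.symm.sym c VZ UZ hr hr' hu hu' x2 y2
  have e21 : ⁅r', k⁻¹ * u * k⁆ ≠ 1 := fun e =>
    (rU.ns r' hr' _ hp (commutatorElement_eq_one_iff_commute.1 e)).elim (rn hv' v1' y1)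
      fun e' => u1 (by simpa using (conj_eq_one_iff (a := k⁻¹) (b := u)).1 (by rwa [inv_inv]))
  -- the conjugation formula
  have hs : k * r' * k⁻¹ ∈ Z ^ᶜ k := conj_mem_map_conj.2 hr'
  have f1 := l3p2_id1 (comm_of_CC x1 hw) (comm_of_CC (EZ he1) hr) (comm_of_CC (l.EU he1) hw)
  have f2 : (k * r' * k⁻¹)⁻¹ * v * (k * r' * k⁻¹) = v * (k * ⁅r', k⁻¹ * u * k⁆ * k⁻¹) := by
    have h1 : Commute (k * r' * k⁻¹) (r * v * u) := by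
      have := comm_conj k (comm_of_CC x5 hr')
      rwa [conj_eq_of_comm (ck _ x5 x3 x4)] at this
    rw [l3p2_id2 h1 (comm_of_CC (Zk hr) hs),
      ← conj_eq_of_comm (comm_of_CC (EZ he2) (inv_mem hr'))]
    simp only [commutatorElement_def]; group
  have f4 : ∀ ρ ∈ ZU, ⁅ρ, ⁅r, k * u' * k⁻¹⁆⁆ = k * (k * ⁅ρ, ⁅r', k⁻¹ * u * k⁆⁆ * k⁻¹) * k⁻¹ :=
    fun ρ hρ => by
    rw [fa hρ hr hu', sy, ← fa hρ hr' hp, show k * (k⁻¹ * u * k) * k⁻¹ = u by group]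
  generalize ⁅r', k⁻¹ * u * k⁆ = e2 at he2 e21 f2 f4
  generalize ⁅r, k * u' * k⁻¹⁆ = e1 at he1 f1 f4
  obtain ⟨b, hb, t1, t2, t3, t4⟩ := l3p2_theta l hB hne hU c c1 cB ZZ UB EU BU he2
  have f3 := l3p2_conj (ck _ t3 t1 t2) (pB.el b hb)
  have hb' : k * b * k⁻¹ ∈ B := conj_mem_of_mem_normalizer nB hb
  have hm : e1 * (e2 * (b * (k * b * k⁻¹))) ∈ E ⊔ B :=
    mul_mem (mem_sup_left he1) (mul_mem (mem_sup_left he2) (mem_sup_right (mul_mem hb hb')))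
  refine ⟨e1 * (e2 * (b * (k * b * k⁻¹))), ?_, l3p2_el_sup l.p.el pB.el BE _ hm, sup_le l.EU cU hm,
    sup_le l.EV cV hm, sup_le l.p.el.ab.le_CC BE hm, sup_le EZ BZ hm, ?_, fun h => ?_⟩
  · have g1 : k * v' * k⁻¹ = (k * r' * k⁻¹)⁻¹ * (r' * v' * u') * (k * u' * k⁻¹)⁻¹ := by
      rw [← conj_eq_of_comm (ck _ y5 y3 y4)]; group
    have g2 : r' * v' * u' * (e1⁻¹ * v) * (r' * v' * u')⁻¹ = e1⁻¹ * v :=
      conj_eq_of_comm ((comm_of_CC y5 (c.om.le he1)).symm.inv_right.mul_right (comm_of_CC y6 hv).symm)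
    have g3 : (k * r' * k⁻¹)⁻¹ * e1⁻¹ * (k * r' * k⁻¹)⁻¹⁻¹ = e1⁻¹ :=
      conj_eq_of_comm (comm_of_CC (Zk (c.om.le he1)) hs).inv_inv
    rw [g1, ← f3]
    generalize k * r' * k⁻¹ = s at f2 g3 ⊢
    generalize k * u' * k⁻¹ = w at f1 ⊢
    generalize r' * v' * u' = x at g2 ⊢
    calc _ = s⁻¹ * (x * (w⁻¹ * v * w) * x⁻¹) * s := by group
      _ = s⁻¹ * e1⁻¹ * s⁻¹⁻¹ * (s⁻¹ * v * s) := by rw [f1, g2]; group
      _ = e1 * v * (k * e2 * k⁻¹) := by rw [g3, f2, l3p2_inv (l.p.el e1 he1), ← mul_assoc]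
      _ = _ := by rw [← (comm_of_CC (l.EV he1) hv).eq, mul_assoc]
  · have g1 : e1 * (e2 * (b * (k * b * k⁻¹))) = e1 * (k * b * k⁻¹) * (e2 * b) := by
      rw [mul_assoc e1, (comm_of_CC t2 (cB.om.le hb')).eq, mul_assoc e2]
    rw [g1]
    refine mul_mem (mem_CC.2 fun ρ hρ => commutatorElement_eq_one_iff_commute.1 ?_) t1
    have m1 := rB.com ρ hρ _ hb'
    have m2 := rB.com ρ hρ _ hb
    have g2 : ⁅ρ, e2⁆ = ⁅ρ, b⁆ := by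
      have := l3p2_comm_mul (ρ := ρ) (comm_of_CC (l.EU he2) m2).symm
      rw [commutatorElement_eq_one_iff_commute.2 (comm_of_CC t1 hρ)] at this
      exact (eq_inv_of_mul_eq_one_left this.symm).trans (l3p2_inv (l.p1.el _ m2))
    rw [l3p2_comm_mul (comm_of_CC (l.EU he1) m1).symm, f4 ρ hρ, g2, ← hz ρ hρ b hb,
      (fpf_cube l.p1.card l.p1.el nU fU m1).2]
    exact l.p1.el _ m1
  · have h1 : b * (k * b * k⁻¹) ∈ K :=
      (mul_mem_cancel_left (l.l he2)).1 ((mul_mem_cancel_left (l.l he1)).1 h)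
    exact e21 (t4 (l3p2_fpf pB.el fB hb (ti.eq_one hB l.m hE.1 (pB.le (mul_mem hb hb')) h1
      (Two.of_sq (pB.el _ (mul_mem hb hb'))))))

end Cfsg.Agent.CT8
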