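import Mathlib
import Cfsg.Agent.CT8.L3P2

/-! S1308, piece L3P: no point is perpendicular to an `L₃`-configuration. -/

set_option autoImplicit false
set_option linter.unusedSectionVars false
set_option linter.unusedVariables false

namespace Cfsg.Agent.CT8

open Subgroup Cfsg.Agent.GT Cfsg.Agent.Inv Cfsg.Agent.Cmp
open scoped commutatorElement

variable {G : Type*} [Group G] [Finite G] {𝒦 : Set (Subgroup G)}

variable {K1 K2 K U V E KB B : Subgroup G}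

theorem L3P_symm {X Y : Subgroup G} (h : X ≤ CC Y) : Y ≤ CC X := le_centralizer_iff.1 h

theorem L3P_ne (l : L3c 𝒦 K1 K2 K U V E) (q : Pt KB B) (cU : B ≤ CC U) : KB ≠ K2 := by
  rintro rfl
  obtain ⟨⟨b, hb⟩, b1⟩ := ne_bot_iff_exists_ne_one.1 q.ne_bot
  refine l.p1.ne_bot (eq_bot_iff.2 fun u hu => mem_bot.2 (l.not_NN hu ?_))
  exact l.cw.toTI.mem_NN l.m2 (q.le hb) (.of_sq (q.el b hb)) (fun e => b1 (Subtype.ext e))
    (comm_of_CC (cU hb) hu)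

theorem L3P_fin (l : L3c 𝒦 K1 K2 K U V E) (hB : KB ∈ 𝒦) (q : Pt KB B) (hE : HC KB K)
    (hne : KB ≠ K1) (hU : ¬ HC KB K1) (cU : B ≤ CC U) (cV : B ≤ CC V) {B0 Z0 : Subgroup G}
    (c0 : Core KB B0 Z0) {v : G} (hv : v ∈ V) (v1 : v ≠ 1) (hc : v ∈ CC Z0) : False :=
  l.p1_false hB q hE (l.cw.hc_of_cen hB l.m2 (L3P_ne l q cU) c0 (l.l2 hv) (.of_sq (l.p2.el v hv)) v1 hc)
    hne hU cU cV

theorem L3P_NN (h : CW 𝒦) (hK : K ∈ 𝒦) (p : Pt K E) {k : G} (hk : k ∈ NN E) : K ^ᶜ k = K := by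
  obtain ⟨⟨b, hb⟩, b1⟩ := ne_bot_iff_exists_ne_one.1 p.ne_bot
  exact map_conj_eq_of_mem_norm (h.toTI.mem_NN_of_conj hK (p.le hb) (.of_sq (p.el b hb))
    (fun e => b1 (Subtype.ext e)) (p.le (conj_mem_of_mem_normalizer hk hb)))

/-- The case `u' ∉ {1, u}`. -/
theorem L3P_beta (l : L3c 𝒦 K1 K2 K U V E) (hB : KB ∈ 𝒦) (hE : HC KB K) (hne : KB ≠ K1)
    (hU : ¬ HC KB K1) (cU : B ≤ CC U) (cV : B ≤ CC V) {Z ZU ZB : Subgroup G} (c : Core K E Z)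
    (c1 : Core K1 U ZU) (cB : Core KB B ZB) (UZ : U ≤ NN Z) (VZ : V ≤ NN Z) (ZZ : Z ≤ CC ZB)
    (EU : E ≤ NN ZU) (BU : B ≤ NN ZU) {r v u u' : G} (hr : r ∈ Z) (hv : v ∈ V) (hu : u ∈ U) (hu' : u' ∈ U)
    (v1 : v ≠ 1) (u1 : u ≠ 1) (u1' : u' ≠ 1) (huu : u' ≠ u) (xZ : r * v * u ∈ CC Z) (xU : r * v * u ∈ CC ZU)
    (xB : r * v * u * u' ∈ CC ZB) : False := by
  have h := l.cw
  have eU := l.p1.el
  have EZ : E ≤ Z := c.om.le
  have BZ : B ≤ CC Z := cB.om.le.trans (L3P_symm ZZ)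
  obtain ⟨k1, k1m, k1E, k1U, -, fU, -⟩ := h.exists_k l.m l.m1 l.n1.symm (fun e => l.h1 e.symm) c c1 UZ EU
  obtain ⟨k, km, kE, kU, hk⟩ : ∃ k ∈ Z ⊔ ZU, k ∈ NN E ∧ k ∈ NN U ∧ k * u' * k⁻¹ = u := by
    rcases mem_four_cases l.p1.card eU hu' hu u1' u1 huu (conj_mem_of_mem_normalizer k1U hu') with e | e | e | e
    · exact absurd (by simpa [mul_inv_eq_iff_eq_mul] using e) u1'
    · exact absurd (fU u' hu' (comm_of_conj_eq e)) u1'
    · exact ⟨k1, k1m, k1E, k1U, e⟩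
    · refine ⟨k1 * k1, mul_mem k1m k1m, mul_mem k1E k1E, mul_mem k1U k1U, ?_⟩
      have := (fpf_cube l.p1.card eU k1U fU hu').1
      rw [show k1 * k1 * u' * (k1 * k1)⁻¹ = k1 * (k1 * u' * k1⁻¹) * k1⁻¹ by group, this, e, ← mul_assoc,
        eU u' hu', one_mul]
  have cen : ∀ {m : G}, m ∈ CC Z → m ∈ CC ZU → k * m * k⁻¹ = m := fun m1 m2 =>
    conj_eq_of_comm (comm_of_CC (K := Z ⊔ ZU) (by rw [CC, centralizer_sup]; exact ⟨m1, m2⟩) km)
  have eK := L3P_NN h l.m l.p kE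
  have eK1 := L3P_NN h l.m1 l.p1 kU
  have yB : r * v ∈ CC (ZB ^ᶜ k) := by
    have := conj_mem_CC k xB
    rwa [← conj_mul, cen xZ xU, hk, mul_assoc, eU u hu, mul_one] at this
  have Bk : B ^ᶜ k ≤ B ⊔ E := map_conj_le_iff_forall.2 fun b hb => by
    obtain ⟨e, he, h1⟩ := h.split l.m1 l.m l.n1 l.h1 c1 c EU UZ (cU hb) (BZ hb) (BU hb)
    have h2 := cen (mul_mem (BZ hb) (c.ab.le_CC (EZ he))) h1
    rw [← conj_mul, ← eq_mul_inv_iff_mul_eq] at h2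
    rw [h2]
    exact mul_mem (mul_mem (mem_sup_left hb) (mem_sup_right he))
      (mem_sup_right (inv_mem (conj_mem_of_mem_normalizer kE he)))
  have hB' := h.conj KB hB k
  have cB' := cB.conj k
  have hE' : HC (KB ^ᶜ k) K := by have := hE.conj k; rwa [eK] at this
  obtain ⟨d, dm, -, dB, dodd, hd⟩ := h.toTI.compat l.m hB' hE'.symm c.two c.le cB'.two cB'.le
  have EB : E ≤ CC (ZB ^ᶜ k) := by
    rw [← map_conj_eq_of_mem_norm kE, CC_conj]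
    exact map_mono (EZ.trans ZZ)
  have dy : Commute d (r * v) := by
    refine comm_of_odd (X := Z ⊔ ZB ^ᶜ k) l.p.el (sup_le (L3P_symm (EZ.trans c.ab.le_CC)) (L3P_symm EB))
      ((Z : Set G) ∪ (ZB ^ᶜ k : Subgroup G)) (by rw [Subgroup.closure_union, Subgroup.closure_eq, Subgroup.closure_eq]) ?_ dm dodd
    rintro z (hz | hz)
    · have h1 := (l.symm.rt c VZ).com z hz v hv
      have h2 : ⁅z, r * v⁆ = ⁅z, r⁆ * (r * ⁅z, v⁆ * r⁻¹) := by simp only [commutatorElement_def]; group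
      rw [h2, commutatorElement_eq_one_iff_commute.2 (c.ab z hz r hr), one_mul,
        conj_eq_of_comm (c.ab r hr _ (EZ h1))]
      exact h1
    · rw [commutatorElement_eq_one_iff_commute.2 (comm_of_CC yB hz)]; exact one_mem _
  have yd := conj_mem_CC d yB
  rw [conj_eq_of_comm dy] at yd
  have c0 := cB'.conj d
  rw [map_conj_eq_of_mem dB] at c0
  refine L3P_fin l hB' ⟨_, cB'⟩ hE' (fun e => hne (map_conj_inj.1 (e.trans eK1.symm)))
    (fun e => hU ((hc_conj_iff k).1 (eK1.symm ▸ e))) (Bk.trans (sup_le cU l.EU)) (Bk.trans (sup_le cV l.EV))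
    c0 hv v1 ?_
  have := mul_mem (inv_mem (hd hr)) yd
  rwa [inv_mul_cancel_left] at this

theorem L3c.perp_false (l : L3c 𝒦 K1 K2 K U V E) (hB : KB ∈ 𝒦) (q : Pt KB B) (hE : HC KB K)
    (hne : KB ≠ K1) (hU : ¬ HC KB K1) (cU : B ≤ CC U) (cV : B ≤ CC V) : False := by
  have h := l.cw
  have eU := l.p1.el
  have cE : B ≤ CC E := fun b hb => mem_CC.2 fun e he => by
    obtain ⟨⟨u, hu⟩, u1⟩ := ne_bot_iff_exists_ne_one.1 l.p1.ne_bot
    obtain ⟨v, hv, rfl⟩ := l.surj hu (fun e => u1 (Subtype.ext e)) he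
    have h1 := comm_of_CC (cU hb) hu
    have h2 := comm_of_CC (cV hb) hv
    exact ((h1.mul_left h2).mul_left h1.inv_left).mul_left h2.inv_left
  have JB : U ⊔ V ⊔ E ≤ CC B := sup_le (sup_le (L3P_symm cU) (L3P_symm cV)) (L3P_symm cE)
  have JE : U ⊔ V ⊔ E ≤ NN E := sup_le (sup_le ((L3P_symm l.EU).trans (CC_le_NN _))
    ((L3P_symm l.EV).trans (CC_le_NN _))) le_normalizer
  obtain ⟨Z, c, hZ⟩ := h.core_inv l.m l.p (two_sup l.two q.el.two ((L3P_symm JB).trans (CC_le_NN _)))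
    (sup_le JE (cE.trans (CC_le_NN _)))
  have JZ : U ⊔ V ⊔ E ≤ NN Z := le_sup_left.trans hZ
  have UZ : U ≤ NN Z := (le_sup_left.trans le_sup_left).trans JZ
  have VZ : V ≤ NN Z := (le_sup_right.trans le_sup_left).trans JZ
  have EZ : E ≤ Z := c.om.le
  have BZ : B ≤ CC Z := fun b hb =>
    h.toTI.mem_CC_of_hc l.m hB hE.symm c.two c.le (q.le hb) (hZ (mem_sup_right hb))
  have t1 := two_sup c.two l.two JZ
  have YB : Z ⊔ (U ⊔ V ⊔ E) ≤ CC B := sup_le (L3P_symm BZ) JB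
  obtain ⟨ZB, cB, hZB⟩ := h.core_inv hB q t1 (YB.trans (CC_le_NN _))
  have ZZ : Z ≤ CC ZB := fun z hz =>
    h.toTI.mem_CC_of_hc hB l.m hE cB.two cB.le (c.le hz) (hZB (mem_sup_left hz))
  have t2 := two_sup t1 q.el.two ((L3P_symm YB).trans (CC_le_NN _))
  obtain ⟨ZU, c1, hZU⟩ := h.core_inv l.m1 l.p1 (X := (Z ⊔ (U ⊔ V ⊔ E) ⊔ B) ⊓ CC U) (t2.to_le inf_le_left)
    (inf_le_right.trans (CC_le_NN _))
  have EU : E ≤ NN ZU := (le_inf (EZ.trans (le_sup_left.trans le_sup_left)) l.EU).trans hZU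
  have BU : B ≤ NN ZU := (le_inf le_sup_right cU).trans hZU
  have UB : U ≤ NN ZB := (le_sup_left.trans (le_sup_left.trans le_sup_right)).trans hZB
  have mem : ∀ {r v u : G}, r ∈ Z → v ∈ V → u ∈ U → r * v * u ∈ Z ⊔ (U ⊔ V ⊔ E) := fun hr hv hu =>
    mul_mem (mul_mem (mem_sup_left hr) (mem_sup_right (mem_sup_left (mem_sup_right hv))))
      (mem_sup_right (mem_sup_left (mem_sup_left hu)))
  refine l.p2_false hB hE hne hU cU cV c c1 cB UZ VZ ZZ UB EU BU fun v hv => ?_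
  by_cases v1 : v = 1
  · exact ⟨1, one_mem _, 1, one_mem _, by simp [v1], by simp, by simp [v1], by simp [v1]⟩
  obtain ⟨r0, hr0, rv0⟩ := l.exists_r c UZ VZ hv
  obtain ⟨u, hu, ru0, hu1⟩ := l.symm.exists_v c VZ UZ hr0
  have u1 : u ≠ 1 := (hu1 fun hE0 => by
    obtain ⟨⟨u0, hu0⟩, u01⟩ := ne_bot_iff_exists_ne_one.1 l.p1.ne_bot
    have := mul_mem (inv_mem (l.EU hE0)) rv0
    rw [inv_mul_cancel_left] at this
    exact (l.ns u0 hu0 v hv (comm_of_CC this hu0)).elim (fun e => u01 (Subtype.ext e)) v1).1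
  obtain ⟨xU0, -, xZ0, -⟩ := l.x_cen c UZ VZ hr0 hu hv rv0 ru0
  obtain ⟨e, he, xU⟩ := h.split l.m1 l.m l.n1 l.h1 c1 c EU UZ xU0 xZ0 (hZU ⟨mem_sup_left (mem hr0 hv hu), xU0⟩)
  have ev := (comm_of_CC (l.EV he) hv).eq
  have eu := (comm_of_CC (l.EU he) hu).eq
  have hr : r0 * e ∈ Z := mul_mem hr0 (EZ he)
  have rv : r0 * e * v ∈ CC U := by rw [mul_assoc, ← ev, ← mul_assoc]; exact mul_mem rv0 (l.EU he)
  have ru : r0 * e * u ∈ CC V := by rw [mul_assoc, ← eu, ← mul_assoc]; exact mul_mem ru0 (l.EV he)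
  rw [mul_assoc, eu, ← mul_assoc, mul_assoc r0, ev, ← mul_assoc] at xU
  obtain ⟨-, -, xZ, -⟩ := l.x_cen c UZ VZ hr hu hv rv ru
  obtain ⟨u', hu', xB⟩ := h.split hB l.m1 hne hU cB c1 UB BU (YB (mem hr hv hu)) xU (hZB (mem hr hv hu))
  by_cases u1' : u' = 1
  · exact ⟨_, hr, u, hu, rv, ru, xU, by rwa [u1', mul_one] at xB⟩
  exfalso
  by_cases huu : u' = u
  · rw [huu, mul_assoc, eU u hu, mul_one] at xB
    refine L3P_fin l hB q hE hne hU cU cV cB hv v1 ?_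
    have := mul_mem (inv_mem (ZZ hr)) xB
    rwa [inv_mul_cancel_left] at this
  · exact L3P_beta l hB hE hne hU cU cV c c1 cB UZ VZ ZZ EU BU hr hv hu hu' v1 u1 u1' huu xZ xU xB

end Cfsg.Agent.CT8
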