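import Mathlib
import Cfsg.Agent.CT8.Bas

/-! Root involutions on a line are conjugate (S1308, piece Root). -/

set_option autoImplicit false
set_option linter.unusedSectionVars false
set_option linter.unusedVariables false

namespace Cfsg.Agent.CT8

open Subgroup Cfsg.Agent.GT Cfsg.Agent.Inv Cfsg.Agent.Cmp
open scoped commutatorElement

theorem root_conj_pow {A : Type*} [Group A] {a x : A} (h : a * x * a⁻¹ = x⁻¹) (i : ℕ) :
    x ^ i * a * (x ^ i)⁻¹ = x ^ (2 * i) * a := by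
  have h1 : a * x ^ i * a⁻¹ = (x ^ i)⁻¹ := by rw [← conj_pow, h, inv_pow]
  have h2 : a * (x ^ i)⁻¹ = x ^ i * a := by
    calc a * (x ^ i)⁻¹ = (a * x ^ i * a⁻¹)⁻¹ * a := by group
      _ = x ^ i * a := by rw [h1, inv_inv]
  rw [mul_assoc, h2, two_mul, pow_add, mul_assoc]

/-- two involutions are conjugate, or their product has a central involution among its powers -/
theorem root_dih {A : Type*} [Group A] [Finite A] {a b : A} (ha : a * a = 1) (hb : b * b = 1) :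
    (∃ m : ℕ, (a * b) ^ m * a * a * ((a * b) ^ m * a)⁻¹ = b ∧ (a * b) ^ m * a * b * ((a * b) ^ m * a)⁻¹ = a) ∨
    ∃ k : ℕ, (a * b) ^ k ≠ 1 ∧ (a * b) ^ k * (a * b) ^ k = 1 ∧ Commute ((a * b) ^ k) a ∧
      Commute ((a * b) ^ k) b ∧
      (∃ i : ℕ, (a * b) ^ k * a = (a * b) ^ i * a * ((a * b) ^ i)⁻¹ ∨
        (a * b) ^ k * a = (a * b) ^ i * b * ((a * b) ^ i)⁻¹) ∧
      (∃ i : ℕ, (a * b) ^ k * b = (a * b) ^ i * a * ((a * b) ^ i)⁻¹ ∨
        (a * b) ^ k * b = (a * b) ^ i * b * ((a * b) ^ i)⁻¹) := by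
  have ia : a⁻¹ = a := inv_eq_of_mul_eq_one_right ha
  have ib : b⁻¹ = b := inv_eq_of_mul_eq_one_right hb
  have h1 : a * (a * b) * a⁻¹ = (a * b)⁻¹ := by rw [← mul_assoc, ha, one_mul, mul_inv_rev, ia, ib]
  have h2 : b * (a * b) * b⁻¹ = (a * b)⁻¹ := by
    rw [mul_assoc, mul_inv_cancel_right, mul_inv_rev, ia, ib]
  have hab : a * b * b = a := by rw [mul_assoc, hb, mul_one]
  set x := a * b with hx
  have hpos : 0 < orderOf x := orderOf_pos x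
  rcases Nat.even_or_odd' (orderOf x) with ⟨k, hk | hk⟩
  · have hk1 : x ^ k * x ^ k = 1 := by rw [← pow_add, ← two_mul, ← hk, pow_orderOf_eq_one]
    have ik : (x ^ k)⁻¹ = x ^ k := inv_eq_of_mul_eq_one_right hk1
    have cm : ∀ c : A, c * x * c⁻¹ = x⁻¹ → Commute (x ^ k) c := fun c hc => by
      have : c * x ^ k * c⁻¹ = x ^ k := by rw [← conj_pow, hc, inv_pow, ik]
      exact (comm_of_conj_eq this).symm
    refine .inr ⟨k, pow_ne_one_of_lt_orderOf (by omega) (by omega), hk1, cm a h1, cm b h2, ?_, ?_⟩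
    · rcases Nat.even_or_odd' k with ⟨i, hi | hi⟩
      · exact ⟨i, .inl (by rw [root_conj_pow h1, hi])⟩
      · refine ⟨i + 1, .inr ?_⟩
        rw [root_conj_pow h2, hi, show 2 * (i + 1) = 2 * i + 1 + 1 by ring, pow_succ x (2 * i + 1), mul_assoc, hab]
    · rcases Nat.even_or_odd' k with ⟨i, hi | hi⟩
      · exact ⟨i, .inr (by rw [root_conj_pow h2, hi])⟩
      · exact ⟨i, .inl (by rw [root_conj_pow h1, hi, pow_succ, mul_assoc, hab])⟩
  · have hk1 : x ^ (2 * k) * x = 1 := by rw [← pow_succ, ← hk, pow_orderOf_eq_one]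
    have e1 : x ^ k * a * a * (x ^ k * a)⁻¹ = b := by
      calc x ^ k * a * a * (x ^ k * a)⁻¹ = x ^ k * a * (x ^ k)⁻¹ := by group
        _ = x ^ (2 * k) * (x * b) := by rw [root_conj_pow h1, hab]
        _ = b := by rw [← mul_assoc, hk1, one_mul]
    have e2 : x ^ k * a * (x ^ k * a) = 1 := by
      have : a * x ^ k * a⁻¹ = (x ^ k)⁻¹ := by rw [← conj_pow, h1, inv_pow]
      rw [ia] at this
      calc x ^ k * a * (x ^ k * a) = x ^ k * (a * x ^ k * a) := by group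
        _ = 1 := by rw [this, mul_inv_cancel]
    refine .inl ⟨k, e1, ?_⟩
    rw [← e1]
    calc x ^ k * a * (x ^ k * a * a * (x ^ k * a)⁻¹) * (x ^ k * a)⁻¹
        = (x ^ k * a * (x ^ k * a)) * a * (x ^ k * a * (x ^ k * a))⁻¹ := by group
      _ = a := by rw [e2]; group

variable {G : Type*} [Group G] [Finite G] {𝒦 : Set (Subgroup G)}

theorem root_comm_iff {W : Subgroup G} {u v w : G} (h : u * v⁻¹ ∈ CC W) (hw : w ∈ W) :
    Commute w u ↔ Commute w v := by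
  have hc := comm_of_CC h hw
  refine ⟨fun h1 => ?_, fun h1 => ?_⟩
  · simpa using hc.inv_right.mul_right h1
  · simpa using hc.mul_right h1

theorem root_fix {W P : Subgroup G} {j y g : G} (cj : ∀ w ∈ W, Commute w j ↔ w ∈ P) (hg : g ∈ NN W)
    (h : y * (g * j * g⁻¹)⁻¹ ∈ CC W) {w : G} (hw : w ∈ W) : Commute w y ↔ w ∈ P ^ᶜ g := by
  rw [root_comm_iff h hw, mem_map_conj, ← cj _ (conj_mem_of_mem_normalizer' hg hw)]
  refine ⟨fun h1 => ?_, fun h1 => ?_⟩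
  · simpa [mul_assoc] using comm_conj g⁻¹ h1
  · simpa [mul_assoc] using comm_conj g h1

theorem root_half (h : TI 𝒦) {K L P Q W : Subgroup G} (hK : K ∈ 𝒦) (hL : L ∈ 𝒦) (hne : K ≠ L)
    (hP : P ≤ K) (hQ : Q ≤ L) (eP : El P) (eQ : El Q) (hPQ : Q ≤ CC P) (nP : P ≠ ⊥) (hW : W = P ⊔ Q)
    {j y : G} (hy : y ∈ NN W) (cj : ∀ w ∈ W, Commute w j ↔ w ∈ P) (hyj : y * j * y⁻¹ * j⁻¹ ∈ CC W)
    (hy2 : y * y ∈ CC W) {M F : Subgroup G} (hM : M ∈ 𝒦) (hF : F ≤ M) (hFW : F ≤ W)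
    (hc : Nat.card F = Nat.card P) (hFy : ∀ w ∈ W, Commute w y ↔ w ∈ F) : y * j⁻¹ ∈ CC P := by
  have hPW : P ≤ W := hW ▸ le_sup_left
  have h1 : ∀ p ∈ P, y * p * y⁻¹ ∈ P := fun p hp => by
    have hw := conj_mem_of_mem_normalizer hy (hPW hp)
    exact (cj _ hw).1 ((root_comm_iff hyj hw).1 (comm_conj y ((cj p (hPW hp)).2 hp)))
  obtain ⟨p, hp, hp1, hpy⟩ : ∃ p ∈ P, p ≠ 1 ∧ Commute p y := by
    obtain ⟨p, hp, hp1⟩ := (bot_or_exists_ne_one P).resolve_left nP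
    by_cases hc : Commute p y
    · exact ⟨p, hp, hp1, hc⟩
    refine ⟨p * (y * p * y⁻¹), mul_mem hp (h1 p hp), fun e => hc ?_, ?_⟩
    · have : y * p * y⁻¹ = p := by
        rw [← inv_eq_of_mul_eq_one_right e]; exact inv_eq_of_mul_eq_one_right (eP p hp)
      exact (comm_of_conj_eq this).symm
    · refine (comm_of_conj_eq ?_).symm
      have h3 : y * y * p * (y * y)⁻¹ = p := conj_eq_of_comm (comm_of_CC hy2 (hPW hp)).symm
      calc y * (p * (y * p * y⁻¹)) * y⁻¹ = y * p * y⁻¹ * (y * y * p * (y * y)⁻¹) := by group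
        _ = p * (y * p * y⁻¹) := by rw [h3]; exact (eP.ab _ hp _ (h1 p hp)).eq.symm
  have hKM : K = M := h.eq_of_two hK hM (hP hp) (hF ((hFy p (hPW hp)).1 hpy)) (.of_sq (eP p hp)) hp1
  have hFP : F ≤ P := fun w hw => by
    obtain ⟨a, ha, b, hb, rfl⟩ := exists_mul_of_mem_sup (hPQ.trans (CC_le_NN P)) (hW ▸ hFW hw)
    have hb' : b ∈ K := by simpa using mul_mem (inv_mem (hP ha)) (hKM ▸ hF hw : a * b ∈ K)
    rw [h.eq_one hK hL hne hb' (hQ hb) (.of_sq (eQ b hb)), mul_one]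
    exact ha
  have hE : F = P := eq_of_le_of_card_ge hFP hc.ge
  exact mem_CC.2 fun w hw => ((hFy w (hPW hw)).2 (hE ▸ hw)).mul_right ((cj w (hPW hw)).2 hw).inv_right

/-- Root involutions on a line are conjugate. -/
theorem TI.root (h : TI 𝒦) {K L P Q : Subgroup G} (hK : K ∈ 𝒦) (hL : L ∈ 𝒦) (hne : K ≠ L)
    (hP : P ≤ K) (hQ : Q ≤ L) (eP : El P) (eQ : El Q) (hPQ : P ≤ CC Q) (nP : P ≠ ⊥)
    (hc : Nat.card P = Nat.card Q) {j ρ : G} (hj : j ∈ NN (P ⊔ Q)) (hρ : ρ ∈ NN (P ⊔ Q)) (hj2 : j * j ∈ CC (P ⊔ Q))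
    (hρ2 : ρ * ρ ∈ CC (P ⊔ Q)) (cj : ∀ w ∈ P ⊔ Q, Commute w j ↔ w ∈ P)
    (cρ : ∀ w ∈ P ⊔ Q, Commute w ρ ↔ w ∈ Q) :
    ∃ g ∈ closure ({j, ρ} : Set G), P ^ᶜ g = Q ∧ Q ^ᶜ g = P ∧ K ^ᶜ g = L ∧ L ^ᶜ g = K ∧
      g * j * g⁻¹ * ρ⁻¹ ∈ CC (P ⊔ Q) ∧ g * ρ * g⁻¹ * j⁻¹ ∈ CC (P ⊔ Q) := by
  have nQ : Q ≠ ⊥ := fun e => nP (by rw [e, card_bot] at hc; exact card_eq_one.1 hc)
  have hQP : Q ≤ CC P := le_centralizer_iff.1 hPQ
  set W := P ⊔ Q with hW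
  have hPW : P ≤ W := le_sup_left
  have hQW : Q ≤ W := le_sup_right
  let φ := W.normalizerMonoidHom
  have hφ1 : ∀ u : NN W, φ u = 1 ↔ (u : G) ∈ CC W := fun u => by
    rw [← MonoidHom.mem_ker, normalizerMonoidHom_ker, mem_subgroupOf]
  have hφ : ∀ u v : NN W, φ u = φ v → (u : G) * (v : G)⁻¹ ∈ CC W := fun u v e => by
    have := (hφ1 (u * v⁻¹)).1 (by rw [map_mul, map_inv, e, mul_inv_cancel])
    simpa using this
  set J : NN W := ⟨j, hj⟩ with hJ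
  set Y : NN W := ⟨ρ, hρ⟩ with hY
  have ha : φ J * φ J = 1 := by rw [← map_mul, hφ1]; exact hj2
  have hb : φ Y * φ Y = 1 := by rw [← map_mul, hφ1]; exact hρ2
  rcases root_dih ha hb with ⟨m, e1, e2⟩ | ⟨k, k1, k2, k3, k4, ⟨i, k5⟩, ⟨i', k6⟩⟩
  · have hg : (j * ρ) ^ m * j ∈ NN W := mul_mem (pow_mem (mul_mem hj hρ) m) hj
    have f1 : (j * ρ) ^ m * j * j * ((j * ρ) ^ m * j)⁻¹ * ρ⁻¹ ∈ CC W :=
      hφ ((J * Y) ^ m * J * J * ((J * Y) ^ m * J)⁻¹) Y (by simpa only [map_mul, map_inv, map_pow] using e1)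
    have f2 : (j * ρ) ^ m * j * ρ * ((j * ρ) ^ m * j)⁻¹ * j⁻¹ ∈ CC W :=
      hφ ((J * Y) ^ m * J * Y * ((J * Y) ^ m * J)⁻¹) J (by simpa only [map_mul, map_inv, map_pow] using e2)
    have hjm : j ∈ closure ({j, ρ} : Set G) := subset_closure (by simp)
    have hρm : ρ ∈ closure ({j, ρ} : Set G) := subset_closure (by simp)
    have hgm : (j * ρ) ^ m * j ∈ closure ({j, ρ} : Set G) := mul_mem (pow_mem (mul_mem hjm hρm) m) hjm
    generalize (j * ρ) ^ m * j = g at hg f1 f2 hgm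
    have key : ∀ {A B : Subgroup G} {a b : G}, A ≤ W → B ≤ W → (∀ w ∈ W, Commute w a ↔ w ∈ A) →
        (∀ w ∈ W, Commute w b ↔ w ∈ B) → g * a * g⁻¹ * b⁻¹ ∈ CC W → A ^ᶜ g = B := fun hA hB ca cb f => by
      have f' := inv_mem f
      rw [mul_inv_rev, inv_inv] at f'
      refine le_antisymm (fun w hw => ?_) fun w hw => ?_
      · have hw' := map_conj_le_of_mem_normalizer hA hg hw
        exact (cb w hw').1 ((root_fix ca hg f' hw').2 hw)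
      · exact (root_fix ca hg f' (hB hw)).1 ((cb w (hB hw)).2 hw)
    have g1 := key hPW hQW cj cρ f1
    have g2 := key hQW hPW cρ cj f2
    refine ⟨g, hgm, g1, g2, ?_, ?_, f1, f2⟩
    · obtain ⟨q, hq, hq1⟩ := (bot_or_exists_ne_one Q).resolve_left nQ
      exact h.eq_of_two (h.conj K hK g) hL (map_mono hP (g1.symm ▸ hq : q ∈ P ^ᶜ g)) (hQ hq) (.of_sq (eQ q hq)) hq1
    · obtain ⟨p, hp, hp1⟩ := (bot_or_exists_ne_one P).resolve_left nP
      exact h.eq_of_two (h.conj L hL g) hK (map_mono hQ (g2.symm ▸ hp : p ∈ Q ^ᶜ g)) (hP hp) (.of_sq (eP p hp)) hp1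
  exfalso
  have hx : ∀ n : ℕ, (j * ρ) ^ n ∈ NN W := fun n => pow_mem (mul_mem hj hρ) n
  have key : ∀ (C : NN W) (n : ℕ), (φ J * φ Y) ^ k * φ C = (φ J * φ Y) ^ n * φ J * ((φ J * φ Y) ^ n)⁻¹ ∨
      (φ J * φ Y) ^ k * φ C = (φ J * φ Y) ^ n * φ Y * ((φ J * φ Y) ^ n)⁻¹ →
      ∃ M ∈ 𝒦, ∃ F : Subgroup G, F ≤ M ∧ F ≤ W ∧ Nat.card F = Nat.card P ∧
        ∀ w ∈ W, Commute w ((j * ρ) ^ k * C) ↔ w ∈ F := fun C n e => by
    rcases e with e | e
    · exact ⟨_, h.conj K hK ((j * ρ) ^ n), P ^ᶜ ((j * ρ) ^ n), map_mono hP,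
        map_conj_le_of_mem_normalizer hPW (hx n), card_map_conj _ _, fun w hw => root_fix cj (hx n)
          (hφ ((J * Y) ^ k * C) ((J * Y) ^ n * J * ((J * Y) ^ n)⁻¹)
            (by simpa only [map_mul, map_inv, map_pow] using e)) hw⟩
    · exact ⟨_, h.conj L hL ((j * ρ) ^ n), Q ^ᶜ ((j * ρ) ^ n), map_mono hQ,
        map_conj_le_of_mem_normalizer hQW (hx n), (card_map_conj _ _).trans hc.symm, fun w hw =>
          root_fix cρ (hx n) (hφ ((J * Y) ^ k * C) ((J * Y) ^ n * Y * ((J * Y) ^ n)⁻¹)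
            (by simpa only [map_mul, map_inv, map_pow] using e)) hw⟩
  have key2 : ∀ C : NN W, φ C * φ C = 1 → Commute ((φ J * φ Y) ^ k) (φ C) →
      (j * ρ) ^ k * C * C * ((j * ρ) ^ k * C)⁻¹ * (C : G)⁻¹ ∈ CC W ∧
        (j * ρ) ^ k * C * ((j * ρ) ^ k * C) ∈ CC W := fun C c1 c2 => by
    refine ⟨hφ ((J * Y) ^ k * C * C * ((J * Y) ^ k * C)⁻¹) C ?_, (hφ1 ((J * Y) ^ k * C * ((J * Y) ^ k * C))).1 ?_⟩
    · simp only [map_mul, map_inv, map_pow]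
      exact conj_eq_of_comm (c2.mul_left (Commute.refl _))
    · simp only [map_mul, map_pow]
      rw [mul_assoc, ← mul_assoc (φ C), ← c2.eq, mul_assoc, c1, mul_one, k2]
  obtain ⟨M, hM, F, m1, m2, m3, m4⟩ := key J i k5
  obtain ⟨M', hM', F', n1, n2, n3, n4⟩ := key Y i' k6
  have z1 := root_half h hK hL hne hP hQ eP eQ hQP nP hW (mul_mem (hx k) hj) cj (key2 J ha k3).1
    (key2 J ha k3).2 hM m1 m2 m3 m4
  have z2 := root_half h hL hK hne.symm hQ hP eQ eP hPQ nQ (hW.trans (sup_comm _ _)) (mul_mem (hx k) hρ) cρ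
    (key2 Y hb k4).1 (key2 Y hb k4).2 hM' n1 n2 (n3.trans hc) n4
  rw [mul_inv_cancel_right] at z1 z2
  refine k1 ?_
  rw [← map_mul, ← map_pow, hφ1]
  have : W ≤ CC (zpowers ((j * ρ) ^ k)) :=
    sup_le (le_centralizer_iff.1 (zpowers_le.2 z1)) (le_centralizer_iff.1 (zpowers_le.2 z2))
  exact le_centralizer_iff.1 this (mem_zpowers _)

end Cfsg.Agent.CT8
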