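import Mathlib
import Cfsg.Agent.CT8.L3P
import Cfsg.Agent.CT8.Root

/-! S1308, piece Uniq: uniqueness of the element of a point acting as a given element of `V`. -/

set_option autoImplicit false
set_option linter.unusedSectionVars false
set_option linter.unusedVariables false

namespace Cfsg.Agent.CT8

open Subgroup Cfsg.Agent.GT Cfsg.Agent.Inv Cfsg.Agent.Cmp
open scoped commutatorElement

variable {G : Type*} [Group G] [Finite G] {𝒦 : Set (Subgroup G)}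

variable {K1 K2 K U V E KB B : Subgroup G}

theorem Uniq.two {x : G} (h : x * x = 1) : Two x := ⟨1, by rw [pow_one, sq, h]⟩

theorem Uniq.el_zp {x : G} (h : x * x = 1) : El (zpowers x) := by
  rintro _ ⟨n, rfl⟩
  change x ^ n * x ^ n = 1
  rw [← (Commute.refl x).mul_zpow, h, one_zpow]

theorem Uniq.symm {A B : Subgroup G} (h : A ≤ CC B) : B ≤ CC A := fun b hb =>
  mem_CC.2 fun a ha => (comm_of_CC (h ha) hb).symm

theorem Uniq.comm_sup {A B : Subgroup G} {d : G} (hA : d ∈ CC A) (hB : d ∈ CC B) : d ∈ CC (A ⊔ B) := by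
  rw [CC, centralizer_sup]
  exact ⟨hA, hB⟩

/-- the case that the member containing `f v` normalizes `K₂` -/
theorem Uniq.hc (l : L3c 𝒦 K1 K2 K U V E) {Z : Subgroup G} (c : Core K E Z)
    (hV : V ≤ NN Z) {f v : G} (fU : f ∈ CC U) (fV : f ∈ CC V) (fZ : f ∈ CC Z) (hv : v ∈ V)
    (hB : KB ∈ 𝒦) (q : Pt KB B) (hd : f * v ∈ B) (d1 : f * v ≠ 1) (n : KB ≠ K) (nh : ¬ HC KB K)
    (h : HC KB K2) : False := by
  have t := l.cw.toFm.toTI
  have eV := l.p2.el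
  have eE := l.p.el
  have d2 := q.el _ hd
  have dV : f * v ∈ CC V := mul_mem fV (eV.ab.le_CC hv)
  have dE : f * v ∈ CC E := mul_mem (centralizer_anti c.om.le fZ) (Uniq.symm l.EV hv)
  obtain ⟨ZV, cV, hX⟩ := l.cw.core_inv l.m2 l.p2 (X := E ⊔ zpowers (f * v))
    (two_sup eE.two (Uniq.el_zp d2).two (zpowers_le.2 (CC_le_NN _ dE)))
    (sup_le (l.EV.trans (CC_le_NN _)) (zpowers_le.2 (CC_le_NN _ dV)))
  have dZV : f * v ∈ CC ZV := t.mem_CC_of_hc l.m2 hB h.symm cV.two cV.le (q.le hd)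
    (hX (mem_sup_right (mem_zpowers _)))
  have fZV : f ∈ CC ZV := by
    simpa using mul_mem dZV (inv_mem (cV.ab.le_CC (cV.om.le hv)))
  have r : Rt E Z V := l.symm.rt c hV
  have r' : Rt V ZV E := l.cw.rt K2 l.m2 K l.m l.n2 l.h2 V ZV E cV l.p (le_sup_left.trans hX)
  obtain ⟨j, hj, hjE⟩ := SetLike.exists_of_lt (lt_of_le_of_ne c.om.le c.ne.symm)
  obtain ⟨ρ, hρ, hρV⟩ := SetLike.exists_of_lt (lt_of_le_of_ne cV.om.le cV.ne.symm)
  obtain ⟨g, hg, e1, e2, e3, e4, -⟩ := t.root l.m l.m2 l.n2.symm l.l l.l2 eE eV l.EV l.p.ne_bot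
    (l.p.card.trans l.p2.card.symm) (r.mem_NN hj) (sup_comm V E ▸ r'.mem_NN hρ)
    (Uniq.comm_sup (eE.ab.le_CC (c.sq j hj)) (l.EV (c.sq j hj)))
    (Uniq.comm_sup (Uniq.symm l.EV (cV.sq ρ hρ)) (eV.ab.le_CC (cV.sq ρ hρ)))
    (fun w hw => r.cen_iff hj hjE hw) (fun w hw => r'.cen_iff hρ hρV (sup_comm E V ▸ hw))
  have gf : Commute g f := by
    have : closure ({j, ρ} : Set G) ≤ centralizer {f} := by
      rw [closure_le]
      rintro x (rfl | rfl)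
      · exact mem_centralizer_singleton_iff.2 (comm_of_CC fZ hj)
      · exact mem_centralizer_singleton_iff.2 (comm_of_CC fZV hρ)
    exact mem_centralizer_singleton_iff.1 (this hg)
  have l' := (l.conj g).symm
  rw [e1, e2, e3, e4] at l'
  have fUg : f ∈ CC (U ^ᶜ g) := by
    rw [CC_conj, ← conj_eq_of_comm gf]
    exact conj_mem_map_conj.2 fU
  have dU : f * v ∈ CC (U ^ᶜ g) := mul_mem fUg (l'.EV hv)
  obtain ⟨B', Z', c', -, hX'⟩ := l.cw.pt_inv hB q hd d1 l'.two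
    fun x hx => comm_of_CC (Uniq.comm_sup (Uniq.comm_sup dE dU) dV) hx
  refine l'.perp_false hB ⟨Z', c'⟩ h n nh
    (l.cw.cen hB l.m n c' l.p ((le_sup_left.trans le_sup_left).trans hX'))
    (l.cw.cen hB l'.m2 ?_ c' l'.p2 ((le_sup_right.trans le_sup_left).trans hX'))
  rintro rfl
  exact l'.h2 h

theorem L3c.uniq (l : L3c 𝒦 K1 K2 K U V E) {Z : Subgroup G} (c : Core K E Z) (hU : U ≤ NN Z)
    (hV : V ≤ NN Z) {f v : G} (fU : f ∈ CC U) (fV : f ∈ CC V) (fZ : f ∈ CC Z) (hv : v ∈ V)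
    (h1 : v ≠ 1) (hB : KB ∈ 𝒦) (q : Pt KB B) (hd : f * v ∈ B) : f ∈ E := by
  have t := l.cw.toFm.toTI
  have eV := l.p2.el
  have eE := l.p.el
  have d2 := q.el _ hd
  have v2 := eV v hv
  have vf : Commute v f := comm_of_CC fV hv
  have f2 : f * f = 1 := by
    rw [vf.mul_mul_mul_comm, v2, mul_one] at d2
    exact d2
  by_cases f1 : f = 1
  · exact f1 ▸ one_mem E
  obtain ⟨u, hu, u1⟩ := (bot_or_exists_ne_one U).resolve_left l.p1.ne_bot
  have d1 : f * v ≠ 1 := fun e => by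
    rw [eq_inv_of_mul_eq_one_left e] at fU
    exact (l.ns u hu v hv (comm_of_CC (by simpa using fU) hu)).elim u1 h1
  have r : Rt E Z V := l.symm.rt c hV
  have dZ : f * v ∉ CC Z := fun h => by
    obtain ⟨j, hj, hjE⟩ := SetLike.exists_of_lt (lt_of_le_of_ne c.om.le c.ne.symm)
    have : v ∈ CC Z := by simpa using mul_mem (inv_mem fZ) h
    exact (r.ns j hj v hv (comm_of_CC this hj)).elim hjE h1
  have nh : ¬ HC KB K := fun h =>
    dZ (t.mem_CC_of_hc l.m hB h.symm c.two c.le (q.le hd) (mul_mem (CC_le_NN _ fZ) (hV hv)))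
  have dV : f * v ∈ CC V := mul_mem fV (eV.ab.le_CC hv)
  have dE : f * v ∈ CC E := mul_mem (centralizer_anti c.om.le fZ) (Uniq.symm l.EV hv)
  have nV : CC V ≤ NN K2 := fun x hx => t.mem_NN l.m2 (l.l2 hv) (Uniq.two v2) h1 (comm_of_CC hx hv).symm
  have n2 : KB ≠ K2 := by
    rintro rfl
    have : f ∈ KB := by simpa using mul_mem (q.le hd) (inv_mem (l.l2 hv))
    exact u1 (l.not_NN hu (t.mem_NN hB this (Uniq.two f2) f1 (comm_of_CC fU hu)))
  have n : KB ≠ K := by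
    rintro rfl
    have h4 := l.cw.small KB hB K2 l.m2 n2 (fun h => l.h2 h.symm) (E ⊔ zpowers (f * v))
      (sup_le l.l (zpowers_le.2 (q.le hd))) (sup_le (l.EV.trans nV) (zpowers_le.2 (nV dV)))
      (two_sup eE.two (Uniq.el_zp d2).two (zpowers_le.2 (CC_le_NN _ dE)))
    have e : E = E ⊔ zpowers (f * v) := eq_of_le_of_card_ge le_sup_left (by rw [l.p.card]; exact h4)
    exact dZ (c.ab.le_CC (c.om.le (e.ge (mem_sup_right (mem_zpowers _)))))
  by_cases h : HC KB K2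
  · exact (Uniq.hc l c hV fU fV fZ hv hB q hd d1 n nh h).elim
  obtain ⟨B', Z', c', hd', hX⟩ := l.cw.pt_inv hB q hd d1 (X := V ⊔ E)
    (two_sup eV.two eE.two (l.EV.trans (CC_le_NN _))) fun x hx => comm_of_CC (Uniq.comm_sup dV dE) hx
  have q' : Pt KB B' := ⟨Z', c'⟩
  have BV : B' ≤ CC V := l.cw.cen hB l.m2 n2 c' l.p2 (le_sup_left.trans hX)
  obtain ⟨ZV, cV, hX'⟩ := l.cw.core_inv l.m2 l.p2 q'.el.two (BV.trans (CC_le_NN _))
  have r' : Rt V ZV B' := l.cw.rt K2 l.m2 KB hB n2.symm (fun h' => h h'.symm) V ZV B' cV q' hX'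
  obtain ⟨ρ, hρ, e⟩ := r'.surj' cV.card_mul hd' d1 hv
  have e' : ρ * (f * v) * ρ⁻¹ = f := by
    rw [commutatorElement_def, mul_inv_eq_iff_eq_mul] at e
    rw [e, ← mul_assoc, vf.eq, mul_assoc, v2, mul_one]
  have e2 : K2 ^ᶜ ρ = K2 := map_conj_eq_of_mem (cV.le hρ)
  have fB : f ∈ B' ^ᶜ ρ := e' ▸ conj_mem_map_conj.2 hd'
  have q'' := q'.conj ρ
  have m'' := t.conj KB hB ρ
  have n'' : KB ^ᶜ ρ ≠ K2 := fun h' => n2 (map_conj_inj.1 (h'.trans e2.symm))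
  have h'' : ¬ HC (KB ^ᶜ ρ) K2 := fun h' => h ((hc_conj_iff ρ).1 (e2.symm ▸ h'))
  by_cases k : K = KB ^ᶜ ρ
  · exact (c.om f).2 ⟨l.cw.sc K l.m E Z c f (k ▸ q''.le fB) (Uniq.two f2) fZ, f2⟩
  exfalso
  have hK : HC K (KB ^ᶜ ρ) := l.cw.hc_of_cen l.m m'' k c (q''.le fB) (Uniq.two f2) f1 fZ
  have n1 : KB ^ᶜ ρ ≠ K1 := fun h' => l.h1 (h' ▸ hK.symm)
  obtain ⟨B2, Z2, c2, -, hX2⟩ := l.cw.pt_inv m'' q'' fB f1 l.two
    fun x hx => comm_of_CC (Uniq.comm_sup (Uniq.comm_sup fU fV) (centralizer_anti c.om.le fZ)) hx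
  exact l.symm.perp_false m'' ⟨Z2, c2⟩ hK.symm n'' h''
    (l.cw.cen m'' l.m2 n'' c2 l.p2 ((le_sup_right.trans le_sup_left).trans hX2))
    (l.cw.cen m'' l.m1 n1 c2 l.p1 ((le_sup_left.trans le_sup_left).trans hX2))

end Cfsg.Agent.CT8
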