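import Mathlib
import Cfsg.Agent.CT8.Uniq

/-! # The core lies in `U V E` (S1308) -/

set_option autoImplicit false
set_option linter.unusedSectionVars false
set_option linter.unusedVariables false

namespace Cfsg.Agent.CT8

open Subgroup Cfsg.Agent.GT Cfsg.Agent.Inv Cfsg.Agent.Cmp
open scoped commutatorElement

variable {G : Type*} [Group G] [Finite G] {𝒦 : Set (Subgroup G)}

variable {K1 K2 K U V E KB B : Subgroup G}

/-- Two involutions inverting `r` have a product centralizing `r`. -/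
theorem COne.comm_of_inv {r a b : G} (ha : r * a * (r * a) = 1) (hb : r * b * (r * b) = 1) (a2 : a * a = 1)
    (b2 : b * b = 1) : Commute r (a * b) := by
  have ai : a⁻¹ = a := inv_eq_of_mul_eq_one_right a2
  have bi : b⁻¹ = b := inv_eq_of_mul_eq_one_right b2
  have h1 : r * a = a * r⁻¹ := by
    calc r * a = (r * a)⁻¹ := (inv_eq_of_mul_eq_one_right ha).symm
      _ = a * r⁻¹ := by rw [mul_inv_rev, ai]
  have h2 : r * b = b * r⁻¹ := by
    calc r * b = (r * b)⁻¹ := (inv_eq_of_mul_eq_one_right hb).symm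
      _ = b * r⁻¹ := by rw [mul_inv_rev, bi]
  have h3 : r⁻¹ * b = b * r := by
    calc r⁻¹ * b = r⁻¹ * (b * r⁻¹) * r := by group
      _ = b * r := by rw [← h2]; group
  calc r * (a * b) = a * (r⁻¹ * b) := by rw [← mul_assoc, h1, mul_assoc]
    _ = a * b * r := by rw [h3, mul_assoc]

/-- The partners of an element of the core outside the point. -/
theorem COne.partner (l : L3c 𝒦 K1 K2 K U V E) {Z : Subgroup G} (c : Core K E Z) (hU : U ≤ NN Z)
    (hV : V ≤ NN Z) {r u : G} (hr : r ∈ Z) (hE : r ∉ E) (hu : u ∈ U) (h : r * u * (r * u) = 1) :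
    r * u ∈ CC V := by
  obtain ⟨u', hu', h1, h2⟩ := l.symm.exists_v c hV hU hr
  have e := l.p1.el
  have h3 := COne.comm_of_inv h (h2 hE).2 (e u hu) (e u' hu')
  rcases (l.rt c hU).ns r hr _ (mul_mem hu hu') h3 with h4 | h4
  · exact absurd h4 hE
  · rwa [show u = u' from mul_right_cancel (h4.trans (e u' hu').symm)]

/-- The core lies in `U V E`. -/
theorem L3c.c_one (l : L3c 𝒦 K1 K2 K U V E) {Z : Subgroup G} (c : Core K E Z) (hU : U ≤ NN Z)
    (hV : V ≤ NN Z) {u : G} (hu : u ∈ U) : ∃ v ∈ V, u * v ∈ Z := by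
  by_cases u1 : u = 1
  · exact ⟨1, one_mem _, by rw [u1, mul_one]; exact one_mem _⟩
  obtain ⟨k, kU, kE, kZ, fU, -, hk⟩ := l.exists_k c hU hV
  have hEZ : E ≤ Z := c.om.le
  -- `a = u^k`, `a' = a^k`, `a a' = u`
  set a := k * u * k⁻¹ with ha
  have aU : a ∈ U := conj_mem_of_mem_normalizer kU hu
  have a1 : a ≠ 1 := fun h => u1 (by simpa [ha] using h)
  have a'U : k * a * k⁻¹ ∈ U := conj_mem_of_mem_normalizer kU aU
  have haa : a * (k * a * k⁻¹) = u :=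
    (fpf_cube l.p1.card l.p1.el kU fU aU).1.symm.trans (fpf_cube l.p1.card l.p1.el kU fU hu).2
  obtain ⟨r, rZ, hra⟩ := l.symm.exists_r c hV hU aU
  have rE : r ∉ E := fun h => by
    have : a ∈ CC V := by simpa using mul_mem (inv_mem (l.EV h)) hra
    refine l.p2.ne_bot (eq_bot_iff.2 fun v hv => mem_bot.2 ?_)
    exact (l.ns a aU v hv (comm_of_CC this hv).symm).resolve_left a1
  have ra2 : r * a * (r * a) = 1 := by
    obtain ⟨u', hu', h1, h2⟩ := l.symm.exists_v c hV hU rZ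
    rw [l.symm.v_unique aU hu' hra h1]
    exact (h2 rE).2
  obtain ⟨v, vV, hrv, -⟩ := l.exists_v c hU hV rZ
  have r'Z : k * r * k⁻¹ ∈ Z := conj_mem_of_mem_normalizer kZ rZ
  have r'E : k * r * k⁻¹ ∉ E := fun h => rE ((mem_normalizer_iff.1 kE r).2 h)
  have hra' : k * r * k⁻¹ * (k * a * k⁻¹) ∈ CC V :=
    COne.partner l c hU hV r'Z r'E a'U (by
      rw [show k * r * k⁻¹ * (k * a * k⁻¹) * (k * r * k⁻¹ * (k * a * k⁻¹)) = k * (r * a * (r * a)) * k⁻¹ by group,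
        ra2]; group)
  obtain ⟨v', v'V, hrv', h'⟩ := l.exists_v c hU hV r'Z
  obtain ⟨x1, x2, x3, -⟩ := l.x_cen c hU hV rZ aU vV hrv hra
  obtain ⟨y1, y2, y3, -⟩ := l.x_cen c hU hV r'Z a'U v'V hrv' hra'
  have he := hk r rZ a aU v vV hrv hra
  set x := r * v * a with hx
  set x' := k * r * k⁻¹ * v' * (k * a * k⁻¹) with hx'
  set e := x⁻¹ * (k * x * k⁻¹) with hee
  have eZ : e ∈ CC Z := c.ab.le_CC (hEZ he)
  have fZ : x * e * x'⁻¹ ∈ CC Z := mul_mem (mul_mem x3 eZ) (inv_mem y3)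
  have hf : x * e * x'⁻¹ * v' = k * v * k⁻¹ := by
    have h1 := (comm_of_CC fZ r'Z).eq
    calc x * e * x'⁻¹ * v' = (k * r * k⁻¹)⁻¹ * (k * r * k⁻¹ * (x * e * x'⁻¹)) * v' := by group
      _ = k * v * k⁻¹ := by rw [h1, hee, hx', hx]; group
  have fE : x * e * x'⁻¹ ∈ E :=
    l.uniq c hU hV (mul_mem (mul_mem x1 (l.EU he)) (inv_mem y1)) (mul_mem (mul_mem x2 (l.EV he)) (inv_mem y2)) fZ
      v'V (h' r'E).1 (l.cw.conj _ l.m2 k) (l.p2.conj k) (by rw [hf]; exact conj_mem_map_conj.2 vV)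
  have h1 : x * x'⁻¹ ∈ Z := by
    have h2 := (comm_of_CC x3 (hEZ he)).eq
    rw [show x * x'⁻¹ = e⁻¹ * (e * x) * x'⁻¹ by group, h2, mul_assoc]
    exact mul_mem (inv_mem (hEZ he)) (hEZ fE)
  have h2 : v * u * v'⁻¹ ∈ Z := by
    have h3 : (k * a * k⁻¹)⁻¹ = k * a * k⁻¹ := inv_eq_of_mul_eq_one_right (l.p1.el _ a'U)
    rw [← haa, ← h3, show v * (a * (k * a * k⁻¹)⁻¹) * v'⁻¹ = r⁻¹ * (x * x'⁻¹) * (k * r * k⁻¹) by
      rw [hx', hx]; group]
    exact mul_mem (mul_mem (inv_mem rZ) h1) r'Z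
  refine ⟨v * v'⁻¹, mul_mem vV (inv_mem v'V), ?_⟩
  rw [show u * (v * v'⁻¹) = ⁅u, v⁆ * (v * u * v'⁻¹) by rw [commutatorElement_def]; group]
  exact mul_mem (hEZ (l.com u hu v vV)) h2

end Cfsg.Agent.CT8
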