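import Mathlib
import Cfsg.Agent.CT8.Bas

/-! Full pairs with non-abelian Sylow subgroups (S1308, piece FullA). -/

set_option autoImplicit false
set_option linter.unusedSectionVars false
set_option linter.unusedVariables false

namespace Cfsg.Agent.CT8

open Subgroup Cfsg.Agent.GT Cfsg.Agent.Inv Cfsg.Agent.Cmp
open scoped commutatorElement

variable {G : Type*} [Group G] [Finite G] {𝒦 : Set (Subgroup G)}

/-- A Sylow subgroup of `K` normalized by a large `T` is centralized by `T`. -/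
theorem fullA_cen (h : TI 𝒦) {K L R T : Subgroup G} (hK : K ∈ 𝒦) (hL : L ∈ 𝒦) (hne : K ≠ L)
    (hT : Syl T L) (h0 : T ≠ ⊥) (hTK : T ≤ NN K) (hR : Syl R K) (hTR : T ≤ NN R) : R ≤ CC T := by
  have p := h.pair hK hL hne (hT.of_le (le_inf hT.le hTK) inf_le_left) h0 hR hTR
  have e : R ⊓ CC T = R :=
    eq_of_le_of_card_ge inf_le_left (by rw [p.card, h.syl_card hK hL hR hT])
  exact e.ge.trans inf_le_right

theorem fullA_ab {R T : Subgroup G} (e : R ≃* T) (h : Ab T) : Ab R := fun x hx y hy => by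
  have h1 : e ⟨x, hx⟩ * e ⟨y, hy⟩ = e ⟨y, hy⟩ * e ⟨x, hx⟩ := Subtype.ext (h _ (e _).2 _ (e _).2)
  rw [← map_mul, ← map_mul] at h1
  exact congrArg Subtype.val (e.injective h1)

/-- A full pair with non-abelian Sylow subgroups. -/
theorem le_NN_of_full_nonab (h : Fm 𝒦) {K L R T : Subgroup G} (hK : K ∈ 𝒦) (hL : L ∈ 𝒦)
    (p : PD K L R T R) (hR : ¬ Ab R) : K ≤ NN L := by
  have hTL : T ≤ L := p.sT.le.trans inf_le_left
  have hTK : T ≤ NN K := p.sT.le.trans inf_le_right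
  obtain ⟨T1, hT1⟩ := exists_syl L
  have hT : Syl T L :=
    syl_of_card hT1 p.sT.two hTL (by rw [← p.card, h.toTI.syl_card hK hL p.sR hT1])
  have hRT : R ≤ CC T := p.le_CC
  have hTR : T ≤ CC R := le_centralizer_iff.1 hRT
  obtain ⟨y, hy, hy2⟩ := exists_inv_of_ne_bot p.sT.two p.neT
  obtain ⟨x, hx, hx2, hxT⟩ := exists_inv_fixed p.sT.two le_normalizer hy hy2
  have x2 : x * x = 1 := by rw [← sq, ← hx2, pow_orderOf_eq_one]
  have x1 : x ≠ 1 := fun e => by simp [e] at hx2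
  have hS : Syl (R ⊔ T) (K ⊔ T) := p.sR.sup_right p.sT.two hTK p.TR
  have hM : K ⊔ T ≤ NN K := sup_le le_normalizer hTK
  have hSx : R ⊔ T ≤ centralizer {x} :=
    sup_le (fun r hr => mem_centralizer_singleton_iff.2 (comm_of_CC (hRT hr) hx).symm)
      fun t ht => mem_centralizer_singleton_iff.2 (hxT t ht)
  have hS' : Syl (R ⊔ T) ((K ⊔ T) ⊓ centralizer {x}) := hS.of_le (le_inf hS.le hSx) inf_le_left
  have hxM : x ∈ K ⊔ T := mem_sup_right hx
  have iso : ∀ k ∈ K, Commute x (k * x * k⁻¹) → k * x * k⁻¹ = x := by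
    intro k hk hc
    by_contra hne
    have hkM : k ∈ K ⊔ T := mem_sup_left hk
    obtain ⟨c, ⟨hcM, hcx⟩, hc1⟩ := hS'.exists_conj_elt ((Two.of_sq x2).conj k)
      (mem_inf.2 ⟨mul_mem (mul_mem hkM hxM) (inv_mem hkM), mem_centralizer_singleton_iff.2 hc.symm⟩)
    have hcx' : c * x * c⁻¹ = x := conj_eq_of_comm (mem_centralizer_singleton_iff.1 hcx)
    obtain ⟨k1, hk1, t, ht, e1⟩ := exists_mul_of_mem_sup hTK (mul_mem hcM hkM)
    have e2 : c * (k * x * k⁻¹) * c⁻¹ = k1 * x * k1⁻¹ := by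
      calc _ = c * k * x * (c * k)⁻¹ := by group
        _ = k1 * (t * x * t⁻¹) * k1⁻¹ := by rw [← e1]; group
        _ = _ := by rw [conj_eq_of_comm (hxT t ht)]
    rw [e2] at hc1
    have hrK : x⁻¹ * (k1 * x * k1⁻¹) ∈ K := inv_mul_conj_mem (hTK hx) hk1
    have hrR : x⁻¹ * (k1 * x * k1⁻¹) ∈ R :=
      p.sR.mem_of_mem hS.two le_sup_left hrK (mul_mem (inv_mem (mem_sup_right hx)) hc1)
    have hr1 : x⁻¹ * (k1 * x * k1⁻¹) ≠ 1 := fun e => hne (by
      have e3 := inv_mul_eq_one.1 e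
      rw [← e2] at e3
      exact (MulAut.conj c).injective (e3.symm.trans hcx'.symm))
    have hTx : T ≤ ((K ⊔ T) ⊓ centralizer {x}) ^ᶜ k1 := by
      rw [map_conj_inf, map_conj_eq_of_mem (mem_sup_left hk1), ← centralizer_singleton_conj]
      refine le_inf le_sup_right fun s hs => mem_centralizer_singleton_iff.2 ?_
      rw [← mul_inv_cancel_left x (k1 * x * k1⁻¹)]
      exact ((hxT s hs).mul_right (comm_of_CC (hRT hrR) hs)).eq
    obtain ⟨d, hd, hd1⟩ := (hS'.conj k1).exists_conj p.sT.two hTx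
    rw [map_conj_inf, map_conj_eq_of_mem (mem_sup_left hk1), ← centralizer_singleton_conj] at hd
    have hg : d⁻¹ * k1 ∈ NN K := hM (mul_mem (inv_mem hd.1) (mem_sup_left hk1))
    have hTg : T ≤ (R ⊔ T) ^ᶜ (d⁻¹ * k1) := fun s hs => by
      rw [map_conj_mul, mem_map_conj_inv]; exact hd1 s hs
    have hxg : k1 * x * k1⁻¹ ∈ L ^ᶜ (d⁻¹ * k1) := by
      rw [map_conj_mul, mem_map_conj_inv, conj_eq_of_comm (mem_centralizer_singleton_iff.1 hd.2)]
      exact conj_mem_map_conj.2 (hTL hx)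
    have hne' : L ^ᶜ (d⁻¹ * k1) ≠ L := fun e => hr1 (h.toTI.eq_one hK hL p.ne hrK
      (mul_mem (inv_mem (hTL hx)) (e ▸ hxg)) (Two.of_mem p.sR.two hrR))
    have h1 : R ^ᶜ (d⁻¹ * k1) ≤ CC T :=
      fullA_cen h.toTI hK hL p.ne hT p.neT hTK (map_conj_eq_of_mem_norm hg ▸ p.sR.conj _)
        (hTg.trans (le_NN_conj (sup_le le_normalizer p.TR) _))
    have h2 : T ^ᶜ (d⁻¹ * k1) ≤ CC T :=
      fullA_cen h.toTI (h.conj L hL _) hL hne' hT p.neT
        (hTg.trans (le_NN_conj (sup_le (p.sT0.le.trans inf_le_right) (hTL.trans le_normalizer)) _))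
        (hT.conj _) (hTg.trans (le_NN_conj (sup_le (hRT.trans (CC_le_NN T)) le_normalizer) _))
    rw [map_conj_sup] at hTg
    obtain ⟨e⟩ := p.iso
    exact hR (fullA_ab e fun a ha b hb => comm_of_CC (sup_le h1 h2 (hTg hb)) ha)
  intro k hk
  obtain ⟨o, ho, c, hc, hcx, rfl⟩ := exists_Od_mul x2 (hTK hx) hk (zstar_Od x2 (hTK hx) iso k hk)
  exact mul_mem (h.toTI.odd_le_NN hL (odd_Od K) hTL (p.four_iff.1 (p.sR.four (h.four K hK)))
    (hTK.trans (NN_le_NN_Od K)) ho) (h.toTI.mem_NN hL (hTL hx) (Two.of_sq x2) x1 hcx)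

end Cfsg.Agent.CT8
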