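import Mathlib
import Cfsg.Agent.CT8.COne

/-! S1308, piece Iso1: the `L₃`-configuration acting on the standard subgroup. -/

set_option autoImplicit false
set_option linter.unusedSectionVars false
set_option linter.unusedVariables false

namespace Cfsg.Agent.CT8

open Subgroup Cfsg.Agent.GT Cfsg.Agent.Inv Cfsg.Agent.Cmp
open scoped commutatorElement

variable {G : Type*} [Group G] [Finite G] {𝒦 : Set (Subgroup G)}

variable {K1 K2 K U V E A Z : Subgroup G}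

theorem L3c.iso1_NN (l : L3c 𝒦 K1 K2 K U V E) : U ≤ NN K := fun u hu => by
  obtain ⟨e, he, he1⟩ := cwc_ex l.p.ne_bot
  exact l.cwc_ti.mem_NN l.m (l.l he) (.of_sq (l.p.el e he)) he1 (comm_of_CC (l.EU he) hu)

theorem L3c.le_NN_A (l : L3c 𝒦 K1 K2 K U V E) (hA : Std A K) : U ≤ NN A := hA.nn ▸ l.iso1_NN

/-- A core for `E` normalized by `U` and `V`. -/
theorem L3c.iso1_core (l : L3c 𝒦 K1 K2 K U V E) : ∃ Z, Core K E Z ∧ U ≤ NN Z ∧ V ≤ NN Z := by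
  obtain ⟨Z, c, hn⟩ := l.cw.core_inv l.m l.p l.two
    ((sup_le (sup_le (cwc_le_CC l.EU) (cwc_le_CC l.EV)) l.p.el.ab.le_CC).trans (CC_le_NN E))
  exact ⟨Z, c, (le_sup_left.trans le_sup_left).trans hn, (le_sup_right.trans le_sup_left).trans hn⟩

theorem iso1_ex_r (c : Core K E Z) : ∃ r ∈ Z, r ∉ E := by
  by_contra hn
  exact c.ne (le_antisymm (fun x hx => by_contra fun h => hn ⟨x, hx, h⟩) c.om.le)

theorem L3c.iso1_eq_one (l : L3c 𝒦 K1 K2 K U V E) (hA : Std A K) {u : G} (hu : u ∈ U)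
    (ha : u ∈ A) : u = 1 := by
  obtain ⟨Z, c, hU, -⟩ := l.iso1_core
  obtain ⟨r, hr, hE⟩ := iso1_ex_r c
  exact ((l.rt c hU).ns r hr u hu (comm_of_CC (hA.le (c.le hr)) ha).symm).resolve_left hE

theorem L3c.odd_inf (l : L3c 𝒦 K1 K2 K U V E) (hA : Std A K) : Odd (Nat.card ↥(A ⊓ K1)) := by
  refine odd_card_iff_no_involution.2 fun x hx h2 => ?_
  have hs := l.cw.syl l.m1 l.m l.n1 l.h1 l.p1 l.iso1_NN
  have hn : x ∈ NN K := hA.nn ▸ le_normalizer hx.1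
  obtain ⟨k, hk, hu⟩ := hs.exists_conj_elt (.of_two h2) (mem_inf.2 ⟨hx.2, hn⟩)
  have hk' : k ∈ NN A := hA.nn ▸ hk.2
  have := l.iso1_eq_one hA hu (conj_mem_of_mem_normalizer hk' hx.1)
  rw [← orderOf_conj x k, this, orderOf_one] at h2
  exact absurd h2 (by norm_num)

theorem L3c.not_mem_CC (l : L3c 𝒦 K1 K2 K U V E) (hA : Std A K) {u : G} (hu : u ∈ U)
    (hc : u ∈ CC A) : u = 1 :=
  l.cwc_ti.eq_one l.m1 l.m l.n1 (l.l1 hu) (hA.two u hc (.of_sq (l.p1.el u hu)))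
    (.of_sq (l.p1.el u hu))

/-- Sylow adjustment inside `U (A ∩ K₁)`. -/
theorem L3c.exists_conj (l : L3c 𝒦 K1 K2 K U V E) (hA : Std A K) {C X : Subgroup G} (hC : U ≤ C)
    (hX : IsPGroup 2 X) (h1 : X ≤ K1) (h2 : X ≤ A ⊔ U) (h3 : X ≤ C) :
    ∃ o ∈ A, o ∈ K1 ∧ o ∈ C ∧ X ≤ U ^ᶜ o := by
  have hD : Odd (Nat.card ↥(A ⊓ K1 ⊓ C)) :=
    (l.odd_inf hA).of_dvd_nat (card_dvd_of_le inf_le_left)
  have hn : U ≤ NN (A ⊓ K1 ⊓ C) := fun u hu => mem_normalizer_iff_of_finite.2 fun x hx =>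
    mem_inf.2 ⟨mem_inf.2 ⟨conj_mem_of_mem_normalizer (l.le_NN_A hA hu) hx.1.1,
      mul_mem (mul_mem (l.l1 hu) hx.1.2) (inv_mem (l.l1 hu))⟩,
      mul_mem (mul_mem (hC hu) hx.2) (inv_mem (hC hu))⟩
  have hs := syl_sup_odd hD l.p1.el.two hn
  have hle : X ≤ A ⊓ K1 ⊓ C ⊔ U := fun x hx => by
    obtain ⟨a, ha, u, hu, e⟩ := exists_mul_of_mem_sup (l.le_NN_A hA) (h2 hx)
    have ea : a = x * u⁻¹ := by rw [← e]; group
    rw [← e]
    refine mul_mem (mem_sup_left (mem_inf.2 ⟨mem_inf.2 ⟨ha, ?_⟩, ?_⟩)) (mem_sup_right hu)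
    · rw [ea]; exact mul_mem (h1 hx) (inv_mem (l.l1 hu))
    · rw [ea]; exact mul_mem (h3 hx) (inv_mem (hC hu))
  obtain ⟨k, hk, hkX⟩ := hs.exists_conj hX hle
  obtain ⟨d, hd, u, hu, e⟩ := exists_mul_of_mem_sup hn (inv_mem hk)
  refine ⟨d, hd.1.1, hd.1.2, hd.2, fun x hx => mem_map_conj.2 ?_⟩
  have ed : d = k⁻¹ * u⁻¹ := by rw [← e]; group
  have : d⁻¹ * x * d = u * (k * x * k⁻¹) * u⁻¹ := by rw [ed]; group
  rw [this]
  exact mul_mem (mul_mem hu (hkX x hx)) (inv_mem hu)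

/-- An element of `A` normalizing `U` centralizes `U`, `V` and the core. -/
theorem L3c.iso1_cen (l : L3c 𝒦 K1 K2 K U V E) (hA : Std A K) (c : Core K E Z) (hU : U ≤ NN Z)
    (hV : V ≤ NN Z) {f : G} (hf : f ∈ A) (hn : f ∈ NN U) : f ∈ CC U ∧ f ∈ CC V ∧ f ∈ CC Z := by
  have fU : f ∈ CC U := mem_CC.2 fun u hu => by
    have h1 : ⁅f, u⁆ ∈ A := cwc_comm_symm (cwc_comm_mem (l.le_NN_A hA hu) hf)
    exact (commutatorElement_eq_one_iff_commute.1 (l.iso1_eq_one hA (cwc_comm_mem hn hu) h1)).symm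
  have fZ : f ∈ CC Z := mem_CC.2 fun z hz => (comm_of_CC (hA.le (c.le hz)) hf).symm
  refine ⟨fU, mem_CC.2 fun v hv => ?_, fZ⟩
  obtain ⟨u, hu, h⟩ := l.symm.c_one c hV hU hv
  have := (comm_of_CC fZ h).mul_left (comm_of_CC fU (inv_mem hu))
  rwa [mul_inv_cancel_right] at this

theorem L3c.iso1 (l : L3c 𝒦 K1 K2 K U V E) (hA : Std A K) {t a : G} (ht : t ∈ U) (h1 : t ≠ 1)
    (ha : a ∈ A) (hc : Commute t (a * t * a⁻¹)) : t * (a * t * a⁻¹) ∈ CC A := by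
  have ht2 := l.p1.el t ht
  have hd2 : a * t * a⁻¹ * (a * t * a⁻¹) = 1 := (conj_sq_iff a t).2 ht2
  set f := t * (a * t * a⁻¹) with hf
  have hfA : f ∈ A := by
    have : f = t * a * t⁻¹ * a⁻¹ := by rw [hf, inv_of_mul_self ht2]; group
    rw [this]
    exact mul_mem (conj_mem_of_mem_normalizer (l.le_NN_A hA ht) ha) (inv_mem ha)
  have hf2 : f * f = 1 := (commute_iff_mul_sq ht2 hd2).1 hc
  have hft : Commute f t := (Commute.refl t).mul_left hc.symm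
  have hfK : f ∈ NN K1 := l.cwc_ti.mem_NN l.m1 (l.l1 ht) (.of_sq ht2) h1 hft
  set C := centralizer ({t} : Set G) with hC
  have hUC : U ≤ C := fun u hu => mem_centralizer_singleton_iff.2 (l.p1.el.ab u hu t ht).eq
  have hfC : f ∈ C := mem_centralizer_singleton_iff.2 hft.eq
  have hn : zpowers f ≤ NN (K1 ⊓ (A ⊔ U) ⊓ C) := zpowers_le.2 <|
    mem_normalizer_iff_of_finite.2 fun x hx =>
      mem_inf.2 ⟨mem_inf.2 ⟨conj_mem_of_mem_normalizer hfK hx.1.1,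
        mul_mem (mul_mem (mem_sup_left hfA) hx.1.2) (inv_mem (mem_sup_left hfA))⟩,
        mul_mem (mul_mem hfC hx.2) (inv_mem hfC)⟩
  obtain ⟨S, hS, hSn⟩ := exists_inv_syl' (Two.of_sq hf2).isPGroup hn
  obtain ⟨o, ho, -, hoC, hle⟩ := l.exists_conj hA hUC hS.two
    (hS.le.trans (inf_le_left.trans inf_le_left)) (hS.le.trans (inf_le_left.trans inf_le_right))
    (hS.le.trans inf_le_right)
  have hSU : S = U ^ᶜ o := eq_of_le_of_card_ge hle (by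
    rw [card_map_conj]
    exact hS.card_le l.p1.el.two (le_inf (le_inf l.l1 le_sup_right) hUC))
  have hfn : o⁻¹ * f * o ∈ NN U := by
    have := hSn (mem_zpowers f)
    rw [hSU, NN_conj] at this
    exact mem_map_conj.1 this
  have hfA' : o⁻¹ * f * o ∈ A := mul_mem (mul_mem (inv_mem ho) hfA) ho
  obtain ⟨Z, c, hU, hV⟩ := l.iso1_core
  obtain ⟨fU, fV, fZ⟩ := l.iso1_cen hA c hU hV hfA' hfn
  have hot : Commute o t := mem_centralizer_singleton_iff.1 hoC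
  have hd : o⁻¹ * f * o * t ∈ U ^ᶜ (o⁻¹ * a) := by
    have e : o⁻¹ * f * o * t = o⁻¹ * a * t * (o⁻¹ * a)⁻¹ := by
      calc o⁻¹ * f * o * t = o⁻¹ * (f * t) * o := by rw [mul_assoc _ o t, hot.eq]; group
        _ = o⁻¹ * (a * t * a⁻¹) * o := by
          rw [hft.eq, hf, ← mul_assoc t t, ht2, one_mul]
        _ = _ := by group
    rw [e]
    exact conj_mem_map_conj.2 ht
  have hE := l.symm.uniq c hV hU fV fU fZ ht h1 (l.cwc_ti.conj K1 l.m1 _) (l.p1.conj _) hd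
  have hcc := hA.le (l.l hE)
  have e : f = o * (o⁻¹ * f * o) * o⁻¹ := by group
  rw [e, conj_eq_of_comm (comm_of_CC hcc ho)]
  exact hcc

end Cfsg.Agent.CT8
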