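import Mathlib
import Cfsg.Agent.CT8.Iso1

/-! S1308, piece Iso2: the case `(t d)² ∈ E`.  See `stubs/Cfsg/Agent/CT8/PLAN.md`. -/

set_option autoImplicit false
set_option linter.unusedSectionVars false
set_option linter.unusedVariables false

namespace Cfsg.Agent.CT8

open Subgroup Cfsg.Agent.GT Cfsg.Agent.Inv Cfsg.Agent.Cmp
open scoped commutatorElement

variable {G : Type*} [Group G] [Finite G] {𝒦 : Set (Subgroup G)}

variable {K1 K2 K U V E A Z : Subgroup G}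

namespace Iso2

/-- An element centralizing `U` and the core centralizes `V`. -/
theorem cenV (l : L3c 𝒦 K1 K2 K U V E) (c : Core K E Z) (hU : U ≤ NN Z) (hV : V ≤ NN Z) {f : G}
    (fU : f ∈ CC U) (fZ : f ∈ CC Z) : f ∈ CC V := mem_CC.2 fun v hv => by
  obtain ⟨u, hu, h⟩ := l.symm.c_one c hV hU hv
  have h1 := (comm_of_CC fZ h).mul_left (comm_of_CC fU (inv_mem hu))
  rwa [mul_inv_cancel_right] at h1

/-- The case that `U` and `U^d` commute. -/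
theorem main (l : L3c 𝒦 K1 K2 K U V E) (hA : Std A K) {t a ε : G} (ht : t ∈ U) (h1 : t ≠ 1)
    (ha : a ∈ A) (he : t * (a * t * a⁻¹) * (t * (a * t * a⁻¹)) = ε) (hc : ε ∈ E) (hn : ε ≠ 1)
    (hcm : ∀ u ∈ U, ∀ u' ∈ U, Commute u (a * t * a⁻¹ * u' * (a * t * a⁻¹)⁻¹)) :
    t * (a * t * a⁻¹) ∈ CC A := by
  have hE : U ⊔ V ⊔ E ≤ NN E := sup_le (sup_le ((le_centralizer_iff.1 l.EU).trans (CC_le_NN E))
    ((le_centralizer_iff.1 l.EV).trans (CC_le_NN E))) le_normalizer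
  obtain ⟨Z, c, hZ⟩ := l.cw.core_inv l.m l.p l.two hE
  have hU : U ≤ NN Z := (le_sup_left.trans le_sup_left).trans hZ
  have hV : V ≤ NN Z := (le_sup_right.trans le_sup_left).trans hZ
  have ti := l.cw.toTI
  have eU := l.p1.el
  have eE := l.p.el
  have hEZ : E ≤ Z := c.om.le
  have AZ : A ≤ CC Z := fun x hx => mem_CC.2 fun z hz => (comm_of_CC (hA.le (c.le hz)) hx).symm
  have UA := l.le_NN_A hA
  have tt := eU t ht
  have tinv : t⁻¹ = t := inv_eq_of_mul_eq_one_right tt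
  have dd : a * t * a⁻¹ * (a * t * a⁻¹) = 1 := by rw [conj_mul, tt, mul_one, mul_inv_cancel]
  have pd : Pt (K1 ^ᶜ a) (U ^ᶜ a) := l.p1.conj a
  have dU : a * t * a⁻¹ ∈ U ^ᶜ a := conj_mem_map_conj.2 ht
  have hd' : ∃ a' ∈ A, a * t * a⁻¹ = a' * t :=
    ⟨a * (t * a⁻¹ * t⁻¹), mul_mem ha (conj_mem_of_mem_normalizer (UA ht) (inv_mem ha)), by group⟩
  generalize a * t * a⁻¹ = d at he hcm dd dU hd' ⊢
  obtain ⟨a', ha', hd⟩ := hd'
  have dinv : d⁻¹ = d := inv_eq_of_mul_eq_one_right dd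
  have dZ : ∀ z ∈ Z, d * z * d⁻¹ = t * z * t⁻¹ := fun z hz => by
    have h2 := (comm_of_CC (AZ ha') (conj_mem_of_mem_normalizer (hU ht) hz)).eq
    calc d * z * d⁻¹ = a' * (t * z * t⁻¹) * a'⁻¹ := by rw [hd]; group
      _ = _ := by rw [← h2, mul_inv_cancel_right]
  have dE : d ∈ CC E := by
    rw [hd]
    exact mul_mem (centralizer_le hEZ (AZ ha')) (le_centralizer_iff.1 l.EU ht)
  have rt := l.rt c hU
  obtain ⟨r, rZ, hr⟩ := rt.surj' c.card_mul ht h1 hc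
  have rE : r ∉ E := fun h => hn (by
    rw [← hr, commutatorElement_eq_one_iff_commute]
    exact (comm_of_CC (l.EU h) ht).symm)
  have e1 : d * t * d⁻¹ = t * ε := by rw [← he, dinv, ← mul_assoc, ← mul_assoc, ← mul_assoc, tt, one_mul]
  have e2 : r * t * r⁻¹ = t * ε := by
    rw [(comm_of_CC (l.EU hc) ht).eq, ← hr, commutatorElement_def, inv_mul_cancel_right]
  have hK' : K1 ^ᶜ d = K1 ^ᶜ r := by
    refine ti.eq_of_two (ti.conj _ l.m1 d) (ti.conj _ l.m1 r) (conj_mem_map_conj.2 (l.l1 ht)) ?_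
      ((Two.of_sq tt).conj d) (fun h => h1 (conj_eq_one_iff.1 h))
    rw [e1, ← e2]
    exact conj_mem_map_conj.2 (l.l1 ht)
  have hK'K : K1 ^ᶜ r ≠ K := fun h => l.n1 (by
    rw [map_conj_eq_iff.1 h, map_conj_eq_of_mem (inv_mem (c.le rZ))])
  have hud : ∀ u ∈ U, d * u * d⁻¹ = r * u * r⁻¹ := fun u hu => by
    by_cases u1 : u = 1
    · rw [u1, mul_one, mul_one, mul_inv_cancel, mul_inv_cancel]
    have uu := eU u hu
    have uinv : u⁻¹ = u := inv_eq_of_mul_eq_one_right uu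
    have χA : u * (d * u * d⁻¹) ∈ A := by
      have h2 := mul_mem (conj_mem_of_mem_normalizer (UA hu) ha') (inv_mem ha')
      have h3 := (eU.ab t ht u hu).eq
      rwa [uinv, show u * a' * u * a'⁻¹ = u * (a' * (u * t) * (a' * t)⁻¹) by group, ← h3, ← mul_assoc a',
        ← hd] at h2
    have χU : u * (d * u * d⁻¹) ∈ CC U :=
      mul_mem (eU.ab.le_CC hu) (mem_CC.2 fun u' hu' => hcm u' hu' u hu)
    have χE : u * (d * u * d⁻¹) ∈ E := by
      refine l.symm.uniq c hV hU (cenV l c hU hV χU (AZ χA)) χU (AZ χA) hu u1 (ti.conj _ l.m1 d)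
        (l.p1.conj d) ?_
      rw [(hcm u hu u hu).eq, mul_assoc, uu, mul_one]
      exact conj_mem_map_conj.2 hu
    have h4 : r * u * r⁻¹ * (d * u * d⁻¹) ∈ E := by
      have h5 := mul_mem (rt.com r rZ u hu) χE
      rwa [commutatorElement_def, ← mul_assoc, inv_mul_cancel_right] at h5
    have h6 : r * u * r⁻¹ * (d * u * d⁻¹) ∈ K1 ^ᶜ r :=
      mul_mem (conj_mem_map_conj.2 (l.l1 hu)) (hK' ▸ conj_mem_map_conj.2 (l.l1 hu))
    have h7 := ti.eq_one (ti.conj _ l.m1 r) l.m hK'K h6 (l.l h4) (Two.of_sq (eE _ h4))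
    rw [eq_inv_of_mul_eq_one_right h7, mul_inv_rev, mul_inv_rev, inv_inv, uinv, mul_assoc]
  have yU : r⁻¹ * d ∈ CC U := mem_CC.2 fun u hu => by
    calc u * (r⁻¹ * d) = r⁻¹ * (r * u * r⁻¹) * d := by group
      _ = r⁻¹ * d * u := by rw [← hud u hu]; group
  have yE : r⁻¹ * d ∈ CC E := mul_mem (inv_mem (centralizer_le hEZ (c.ab.le_CC rZ))) dE
  have ysq : r⁻¹ * d * (r⁻¹ * d) = (r * r)⁻¹ * ε := by
    calc r⁻¹ * d * (r⁻¹ * d) = r⁻¹ * (d * r⁻¹ * d⁻¹) * (d * d) := by group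
      _ = _ := by rw [dd, mul_one, dZ _ (inv_mem rZ), ← hr, commutatorElement_def]; group
  have y2E : r⁻¹ * d * (r⁻¹ * d) ∈ E := ysq ▸ mul_mem (inv_mem (c.sq r rZ)) hc
  have y2 : Two (r⁻¹ * d) := ⟨2, by
    rw [show 2 ^ 2 = 2 * 2 from rfl, pow_mul, sq, sq, eE _ y2E]⟩
  have yy : r⁻¹ * d * (r⁻¹ * d) = 1 := by
    obtain ⟨ZU, cU, hX⟩ := l.cw.core_inv l.m1 l.p1 (X := E ⊔ zpowers (r⁻¹ * d))
      (two_sup eE.two y2.isPGroup (zpowers_le.2 (CC_le_NN E yE)))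
      (sup_le (l.EU.trans (CC_le_NN U)) (zpowers_le.2 (CC_le_NN U yU)))
    have rU := l.cw.rt K1 l.m1 K l.m l.n1 l.h1 U ZU E cU l.p (le_sup_left.trans hX)
    refine rU.ysq eU l.p.ne_bot cU.ne (eq_bot_iff.2 fun x hx => mem_bot.2 ?_) (Uniq.comm_sup yU yE)
      (hX (mem_sup_right (mem_zpowers _))) y2E
    exact ti.eq_one l.m1 l.m l.n1 (l.l1 (mem_inf.1 hx).1) (l.l (mem_inf.1 hx).2)
      (Two.of_sq (eE x (mem_inf.1 hx).2))
  have tr : t * r⁻¹ * t⁻¹ = r := by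
    have h2 : r * r = ε := inv_mul_eq_one.1 (ysq.symm.trans yy)
    rw [← hr, commutatorElement_def, mul_assoc, mul_assoc] at h2
    rw [mul_assoc]
    exact (mul_left_cancel h2).symm
  obtain ⟨v, vV, hw⟩ := l.c_one c hU hV ht
  have vv := l.p2.el v vV
  have v1 : v ≠ 1 := fun h => h1 (ti.eq_one l.m1 l.m l.n1 (l.l1 ht)
    (c.le (by rwa [h, mul_one] at hw)) (Two.of_sq tt))
  have rv : r * v * (r * v) = 1 := by
    have h2 := (c.ab _ hw _ rZ).eq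
    calc r * v * (r * v) = r * t⁻¹ * (t * v * r) * v := by group
      _ = r * (t⁻¹ * r * t) * (v * v) := by rw [h2]; group
      _ = 1 := by
        rw [vv, mul_one]
        nth_rewrite 2 [← tr]
        group
  have rvU : r * v ∈ CC U := COne.partner l.symm c hV hU rZ rE vV rv
  have fU : d * v ∈ CC U := by
    have h2 := mul_mem (mul_mem (inv_mem yU) (inv_mem (l.EU (c.sq r rZ)))) rvU
    rwa [show (r⁻¹ * d)⁻¹ * (r * r)⁻¹ * (r * v) = d⁻¹ * v by group, dinv] at h2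
  have fZ : d * v ∈ CC Z := by
    rw [hd, mul_assoc]
    exact mul_mem (AZ ha') (c.ab.le_CC hw)
  have fE : d * v ∈ E := by
    refine l.uniq c hU hV fU (cenV l c hU hV fU fZ) fZ vV v1 (ti.conj _ l.m1 a) pd ?_
    rwa [mul_assoc, vv, mul_one]
  have h2 := mul_mem (hEZ fE) hw
  rw [← mul_assoc, ← (comm_of_CC fU ht).eq, mul_assoc, mul_assoc, vv, mul_one] at h2
  exact hA.le (c.le h2)

end Iso2

theorem L3c.iso2 (l : L3c 𝒦 K1 K2 K U V E) (hA : Std A K) (hE : E ≤ A) {t a : G} (ht : t ∈ U)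
    (h1 : t ≠ 1) (ha : a ∈ A) (hc : t * (a * t * a⁻¹) * (t * (a * t * a⁻¹)) ∈ E)
    (hn : t * (a * t * a⁻¹) * (t * (a * t * a⁻¹)) ≠ 1) : t * (a * t * a⁻¹) ∈ CC A := by
  have ti := l.cw.toTI
  have eU := l.p1.el
  have UA := l.le_NN_A hA
  have tt := eU t ht
  have dd : a * t * a⁻¹ * (a * t * a⁻¹) = 1 := by rw [conj_mul, tt, mul_one, mul_inv_cancel]
  have dAU : a * t * a⁻¹ ∈ A ⊔ U :=
    mul_mem (mul_mem (mem_sup_left ha) (mem_sup_right ht)) (mem_sup_left (inv_mem ha))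
  obtain ⟨ε, he⟩ : ∃ ε, t * (a * t * a⁻¹) * (t * (a * t * a⁻¹)) = ε := ⟨_, rfl⟩
  rw [he] at hc hn
  have εA : ∀ x ∈ A, Commute x ε := fun x hx => comm_of_CC (hA.le (l.l hc)) hx
  have εU : ∀ x ∈ U, Commute x ε := fun x hx => comm_of_CC (l.EU hc) hx
  have dε : Commute (a * t * a⁻¹) ε :=
    ((εA a ha).mul_left (εU t ht)).mul_left (εA a ha).inv_left
  obtain ⟨d, hd⟩ : ∃ d, a * t * a⁻¹ = d := ⟨_, rfl⟩
  rw [hd] at dd dAU dε
  have dinv : d⁻¹ = d := inv_eq_of_mul_eq_one_right dd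
  have e1 : d * t * d⁻¹ = t * ε := by
    rw [← he, hd, dinv, ← mul_assoc, ← mul_assoc, ← mul_assoc, tt, one_mul]
  let C : Subgroup G := (A ⊔ U) ⊓ (centralizer {t} ⊓ centralizer {ε})
  have mC : ∀ {x}, x ∈ C ↔ x ∈ A ⊔ U ∧ Commute x t ∧ Commute x ε := fun {x} => by
    simp only [C, mem_inf, mem_centralizer_singleton_iff, commute_iff_eq]
  have dC : d ∈ NN C := mem_normalizer_iff_of_finite.2 fun x hx => by
    obtain ⟨x1, x2, x3⟩ := mC.1 hx
    refine mC.2 ⟨mul_mem (mul_mem dAU x1) (inv_mem dAU), ?_, (dε.mul_left x3).mul_left dε.inv_left⟩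
    have h2 := comm_conj d (x2.mul_right x3)
    rwa [← e1, show d * (d * t * d⁻¹) * d⁻¹ = d * d * t * (d * d)⁻¹ by group, dd, one_mul, inv_one,
      mul_one] at h2
  obtain ⟨S, hS, dS⟩ := exists_inv_syl' (Two.of_sq dd).isPGroup (zpowers_le.2 dC)
  replace dS := dS (mem_zpowers d)
  have UC : U ≤ C := fun u hu => mC.2 ⟨mem_sup_right hu, eU.ab u hu t ht, εU u hu⟩
  obtain ⟨g, hg, hgS⟩ := hS.exists_conj eU.two UC
  obtain ⟨o, ho, u0, hu0, rfl⟩ := exists_mul_of_mem_sup UA (mC.1 hg).1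
  have ot : Commute o t := by
    have h2 := (mC.1 hg).2.1.mul_left (eU.ab u0 hu0 t ht).inv_left
    rwa [mul_inv_cancel_right] at h2
  have hoS : ∀ u ∈ U, o * u * o⁻¹ ∈ S := fun u hu => by
    have h2 := hgS u hu
    rwa [show o * u0 * u * (o * u0)⁻¹ = o * (u0 * u * u0⁻¹) * o⁻¹ by group,
      conj_eq_of_comm (eU.ab u0 hu0 u hu)] at h2
  have t2 := Two.of_sq tt
  have tK' : t * ε ∈ K1 ^ᶜ d := e1 ▸ conj_mem_map_conj.2 (l.l1 ht)
  have n1 : ∀ x ∈ S, x ∈ NN K1 := fun x hx => ti.mem_NN l.m1 (l.l1 ht) t2 h1 (mC.1 (hS.le hx)).2.1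
  have n2 : ∀ x ∈ S, x ∈ NN (K1 ^ᶜ d) := fun x hx =>
    ti.mem_NN (ti.conj _ l.m1 d) tK' (e1 ▸ t2.conj d) (e1 ▸ fun h => h1 (conj_eq_one_iff.1 h))
      ((mC.1 (hS.le hx)).2.1.mul_right (mC.1 (hS.le hx)).2.2)
  have hne : K1 ≠ K1 ^ᶜ d := fun h => hn (ti.eq_one l.m1 l.m l.n1
    ((mul_mem_cancel_left (l.l1 ht)).1 (h ▸ tK')) (l.l hc) (Two.of_sq (l.p.el _ hc)))
  have oK : ∀ u ∈ U, o * u * o⁻¹ ∈ K1 := fun u hu =>
    conj_mem_of_mem_normalizer (ti.mem_NN l.m1 (l.l1 ht) t2 h1 ot) (l.l1 hu)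
  have cm : ∀ x ∈ S, ∀ y ∈ S, x ∈ K1 → y ∈ K1 ^ᶜ d → Commute x y := fun x hx y hy x1 y1 => by
    refine commutatorElement_eq_one_iff_commute.1 (ti.eq_one l.m1 (ti.conj _ l.m1 d) hne ?_ ?_
      (Two.of_mem hS.two (commutatorElement_def x y ▸
        mul_mem (mul_mem (mul_mem hx hy) (inv_mem hx)) (inv_mem hy))))
    · have := mul_mem x1 (conj_mem_of_mem_normalizer (n1 y hy) (inv_mem x1))
      simpa only [commutatorElement_def, mul_assoc] using this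
    · exact mul_mem (conj_mem_of_mem_normalizer (n2 x hx) y1) (inv_mem y1)
  have e2 : o⁻¹ * a * t * (o⁻¹ * a)⁻¹ = o⁻¹ * d * o := by rw [← hd]; group
  have e3 : t * (o⁻¹ * d * o) = o⁻¹ * (t * d) * o := by
    rw [← mul_assoc, ← mul_assoc, ← ot.inv_left.eq, mul_assoc o⁻¹]
  have key := Iso2.main l hA ht h1 (mul_mem (inv_mem ho) ha) (ε := ε) (by
    rw [e2, e3]
    calc _ = o⁻¹ * (t * d * (t * d)) * o := by group
      _ = ε := by rw [← hd, he, mul_assoc, ← (εA o ho).eq, inv_mul_cancel_left]) hc hn fun u hu u' hu' => by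
    have h2 := comm_conj o⁻¹ (cm _ (hoS u hu) _ (conj_mem_of_mem_normalizer dS (hoS u' hu')) (oK u hu)
      (conj_mem_map_conj.2 (oK u' hu')))
    rw [e2]
    convert h2 using 1 <;> group
  rw [e2, e3] at key
  have h3 := conj_mem_of_mem_normalizer (CWa.nn_CC (le_normalizer (H := A)) ho) key
  rwa [show o * (o⁻¹ * (t * d) * o) * o⁻¹ = t * d by group, ← hd] at h3

end Cfsg.Agent.CT8
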