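import Mathlib
import Cfsg.Agent.CT8.Iso1

/-! # The case `(t d)²` of order 4 (S1308) -/

set_option autoImplicit false
set_option linter.unusedSectionVars false
set_option linter.unusedVariables false

namespace Cfsg.Agent.CT8

open Subgroup Cfsg.Agent.GT Cfsg.Agent.Inv Cfsg.Agent.Cmp
open scoped commutatorElement

variable {G : Type*} [Group G] [Finite G] {𝒦 : Set (Subgroup G)}

variable {K1 K2 K U V E A Z : Subgroup G}

/-- An element of `V` centralizing the core is trivial. -/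
theorem Iso3.eq_one (l : L3c 𝒦 K1 K2 K U V E) (c : Core K E Z) (hV : V ≤ NN Z) {v : G}
    (hv : v ∈ V) (hc : v ∈ CC Z) : v = 1 := by
  by_contra h1
  refine c.ne (le_antisymm (fun z hz => ?_) c.om.le)
  exact ((l.symm.rt c hV).ns z hz v hv (comm_of_CC hc hz)).resolve_right h1

/-- No element of `A` conjugates `U` into `V`. -/
theorem Iso3.not_conj (l : L3c 𝒦 K1 K2 K U V E) (hA : Std A K) (c : Core K E Z) (hU : U ≤ NN Z)
    (hV : V ≤ NN Z) {g : G} (hg : g ∈ A) (h : ∀ u ∈ U, g * u * g⁻¹ ∈ V) : False := by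
  have hAZ : A ≤ CC Z := (cwc_le_CC hA.le).trans fun x hx =>
    mem_CC.2 fun z hz => comm_of_CC hx (c.le hz)
  have key : ∀ u ∈ U, u ≠ 1 → ∀ v ∈ V, u * v ∈ Z → v * (g * g) ∈ NN K1 := by
    intro u hu u1 v hv huv
    have vv := l.p2.el v hv
    have vi : v⁻¹ = v := inv_eq_of_mul_eq_one_right vv
    have h1 : g * u * g⁻¹ * u⁻¹ ∈ A := by
      have := mul_mem hg (conj_mem_of_mem_normalizer (l.le_NN_A hA hu) (inv_mem hg))
      simpa only [mul_assoc] using this
    have h2 : g * u * g⁻¹ * v ∈ CC Z := by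
      have := mul_mem (hAZ h1) (c.ab.le_CC huv)
      rwa [show g * u * g⁻¹ * u⁻¹ * (u * v) = g * u * g⁻¹ * v by group] at this
    have h3 : g * u * g⁻¹ = v := by
      have := Iso3.eq_one l c hV (mul_mem (h u hu) hv) h2
      rw [← vi]; exact eq_inv_of_mul_eq_one_left this
    have h4 : g * (u * v) * g⁻¹ = u * v := conj_eq_of_comm (comm_of_CC (hAZ hg) huv).symm
    have h5 : v * (g * g) * u * (v * (g * g))⁻¹ = u := by
      calc v * (g * g) * u * (v * (g * g))⁻¹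
          = (v * g * (g * u * g⁻¹) * g⁻¹) * v⁻¹ := by group
        _ = (g * u * g⁻¹ * g * v * g⁻¹) * v⁻¹ := by rw [h3]
        _ = (g * (u * v) * g⁻¹) * v⁻¹ := by group
        _ = u := by rw [h4]; group
    exact l.cwc_ti.mem_NN_of_conj l.m1 (l.l1 hu) (.of_sq (l.p1.el u hu)) u1 (by rw [h5]; exact l.l1 hu)
  obtain ⟨u, hu, u', hu', u1, u1', hne⟩ := CWb.exists_two l.p1.card
  obtain ⟨v, hv, huv⟩ := l.c_one c hU hV hu
  obtain ⟨v', hv', huv'⟩ := l.c_one c hU hV hu'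
  have h1 : v * v'⁻¹ ∈ NN K1 := by
    have := mul_mem (key u hu u1 v hv huv) (inv_mem (key u' hu' u1' v' hv' huv'))
    rwa [show v * (g * g) * (v' * (g * g))⁻¹ = v * v'⁻¹ by group] at this
  have h2 : v = v' := mul_inv_eq_one.1 (l.symm.not_NN (mul_mem hv (inv_mem hv')) h1)
  have h3 : u * u'⁻¹ ∈ Z := by
    have := mul_mem huv (inv_mem huv')
    rwa [h2, show u * v' * (u' * v')⁻¹ = u * u'⁻¹ by group] at this
  have h4 : u * u'⁻¹ ∈ U := mul_mem hu (inv_mem hu')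
  exact hne (mul_inv_eq_one.1 (l.cwc_E1 ((c.om _).2 ⟨h3, l.p1.el _ h4⟩) (l.l1 h4)))

theorem L3c.iso3 (l : L3c 𝒦 K1 K2 K U V E) (hA : Std A K) (c : Core K E Z) (hU : U ≤ NN Z)
    (hV : V ≤ NN Z) (hZ : Z ≤ A) {t a : G} (ht : t ∈ U) (h1 : t ≠ 1) (ha : a ∈ A)
    (hc : t * (a * t * a⁻¹) * (t * (a * t * a⁻¹)) ∈ Z)
    (hn : t * (a * t * a⁻¹) * (t * (a * t * a⁻¹)) ∉ E) : False := by
  have tt := l.p1.el t ht
  have ti : t⁻¹ = t := inv_eq_of_mul_eq_one_right tt
  obtain ⟨d, hd⟩ : ∃ d, d = a * t * a⁻¹ := ⟨_, rfl⟩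
  have dd : d * d = 1 := by
    rw [hd, show a * t * a⁻¹ * (a * t * a⁻¹) = a * (t * t) * a⁻¹ by group, tt]; group
  have di : d⁻¹ = d := inv_eq_of_mul_eq_one_right dd
  have bA : t * d ∈ A := by
    have := mul_mem (conj_mem_of_mem_normalizer (l.le_NN_A hA ht) ha) (inv_mem ha)
    rw [ti] at this
    simpa only [hd, mul_assoc] using this
  rw [← hd] at hc hn
  obtain ⟨v, hv, htv⟩ := l.c_one c hU hV ht
  have vv := l.p2.el v hv
  have vi : v⁻¹ = v := inv_eq_of_mul_eq_one_right vv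
  have v1 : v ≠ 1 := fun e => by
    rw [e, mul_one] at htv
    exact h1 (l.cwc_E1 ((c.om _).2 ⟨htv, tt⟩) (l.l1 ht))
  have wE : t * v ∉ E := fun h => by
    have h2 : Commute (t * v) t := (comm_of_CC (l.EU h) ht).symm
    have h3 : Commute t v := by
      have := (Commute.refl t).inv_left.mul_left h2
      rw [inv_mul_cancel_left] at this
      exact this.symm
    exact (l.ns t ht v hv h3).elim h1 v1
  have p1 : t * d * (t * d) * t ∈ CC V := COne.partner l c hU hV hc hn ht (by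
    calc t * d * (t * d) * t * (t * d * (t * d) * t) = t * d * t * d * (t * t) * d * t * d * t := by group
      _ = t * d * t * (d * d) * t * d * t := by rw [tt]; group
      _ = t * d * (t * t) * d * t := by rw [dd]; group
      _ = t * (d * d) * t := by rw [tt]; group
      _ = 1 := by rw [dd, mul_one, tt])
  have p2 : t * v * t ∈ CC V := COne.partner l c hU hV htv wE ht (by
    calc t * v * t * (t * v * t) = t * v * (t * t) * v * t := by group
      _ = t * (v * v) * t := by rw [tt]; group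
      _ = 1 := by rw [vv, mul_one, tt])
  have r := l.symm.rt c hV
  have e1 : t * d * (t * d) * (t * v)⁻¹ ∈ E := by
    have h2 := mul_mem p1 (inv_mem p2)
    rw [show t * d * (t * d) * t * (t * v * t)⁻¹ = t * d * (t * d) * (t * v)⁻¹ by group] at h2
    exact (r.ns _ (mul_mem hc (inv_mem htv)) v hv (comm_of_CC h2 hv).symm).resolve_right v1
  obtain ⟨z, hz, hzv⟩ := r.surj' c.card_mul hv v1 (mul_mem e1 (l.com t ht v hv))
  have gA : z⁻¹ * (t * d) ∈ A := mul_mem (inv_mem (hZ hz)) bA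
  have gt : z⁻¹ * (t * d) * t * (z⁻¹ * (t * d))⁻¹ = v := by
    have h2 : z * v * z⁻¹ = t * d * t * (t * d)⁻¹ := by
      calc z * v * z⁻¹ = ⁅z, v⁆ * v := by rw [commutatorElement_def]; group
        _ = t * d * (t * d) * (t * v)⁻¹ * (t * v * t⁻¹ * v⁻¹) * v := by rw [hzv, commutatorElement_def]
        _ = t * d * t * d * t⁻¹ := by group
        _ = t * d * t * (t * d)⁻¹ := by rw [mul_inv_rev, di]; group
    calc _ = z⁻¹ * (t * d * t * (t * d)⁻¹) * z := by group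
      _ = v := by rw [← h2]; group
  obtain ⟨g, hg⟩ : ∃ g, g = z⁻¹ * (t * d) := ⟨_, rfl⟩
  rw [← hg] at gA gt
  have hK : K1 ^ᶜ g = K2 := l.cwc_ti.eq_of_two (l.cwc_ti.conj _ l.m1 g) l.m2
    (gt ▸ conj_mem_map_conj.2 (l.l1 ht)) (l.l2 hv) (.of_sq vv) v1
  have hUV : U ^ᶜ g ≤ A ⊔ V := by
    rintro _ ⟨u, hu, rfl⟩
    obtain ⟨v', hv', h2⟩ := l.c_one c hU hV hu
    have h3 : u ∈ A ⊔ V := by
      have := mul_mem (mem_sup_left (hZ h2) : _ ∈ A ⊔ V) (inv_mem (mem_sup_right hv'))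
      rwa [mul_inv_cancel_right] at this
    exact mul_mem (mul_mem (mem_sup_left gA) h3) (inv_mem (mem_sup_left gA))
  obtain ⟨o, oA, -, -, ho⟩ := l.symm.exists_conj hA (C := ⊤) le_top (l.p1.el.two.map _)
    (hK ▸ map_mono l.l1) hUV le_top
  refine Iso3.not_conj l hA c hU hV (mul_mem (inv_mem oA) gA) fun u hu => ?_
  have h2 := ho (conj_mem_map_conj.2 hu : g * u * g⁻¹ ∈ U ^ᶜ g)
  rw [← conj_mem_map_conj (g := o)]
  rwa [show o * (o⁻¹ * g * u * (o⁻¹ * g)⁻¹) * o⁻¹ = g * u * g⁻¹ by group]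

end Cfsg.Agent.CT8
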