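import Mathlib
import Cfsg.Agent.CT8.Iso2
import Cfsg.Agent.CT8.Iso3
import Cfsg.Agent.S0205

/-! S1308, piece IsoM: the final contradiction in the `L₃(4)` configuration. -/

set_option autoImplicit false
set_option linter.unusedSectionVars false
set_option linter.unusedVariables false

namespace Cfsg.Agent.CT8

open Subgroup Cfsg.Agent.GT Cfsg.Agent.Inv Cfsg.Agent.Cmp
open scoped commutatorElement

variable {G : Type*} [Group G] [Finite G] {𝒦 : Set (Subgroup G)}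

variable {K1 K2 K U V E A Z : Subgroup G}

namespace IsoM

theorem mul_conj_mem {t a : G} (ht : t * t = 1) (hn : t ∈ NN A) (ha : a ∈ A) :
    t * (a * t * a⁻¹) ∈ A := by
  have h1 : t⁻¹ = t := inv_eq_of_mul_eq_one_right ht
  have h2 := mul_mem (conj_mem_of_mem_normalizer hn ha) (inv_mem ha)
  rwa [h1, show t * a * t * a⁻¹ = t * (a * t * a⁻¹) by group] at h2

theorem reduce {t : G} (ht : t * t = 1) (hn : t ∈ NN A)
    (H : ∀ a ∈ A, Two (t * (a * t * a⁻¹)) → t * (a * t * a⁻¹) * (t * (a * t * a⁻¹)) ∈ CC A →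
      t * (a * t * a⁻¹) ∈ CC A) {a : G} (ha : a ∈ A)
    (h2 : t * (a * t * a⁻¹) * (t * (a * t * a⁻¹)) ∈ CC A) : t * (a * t * a⁻¹) ∈ CC A := by
  have hx := mul_conj_mem ht hn ha
  have h1 : t⁻¹ = t := inv_eq_of_mul_eq_one_right ht
  have hd : a * t * a⁻¹ * (a * t * a⁻¹) = 1 := (conj_sq_iff a t).2 ht
  generalize hdd : a * t * a⁻¹ = d at hx h2 hd ⊢
  have hd1 : d⁻¹ = d := inv_eq_of_mul_eq_one_right hd
  have hi : t * (t * d) * t⁻¹ = (t * d)⁻¹ := by
    rw [← mul_assoc, ht, one_mul, mul_inv_rev, hd1]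
  have hdx : d = t * (t * d) := by rw [← mul_assoc, ht, one_mul]
  generalize t * d = x at hx h2 hi hdx ⊢
  obtain ⟨k, m, ⟨n, rfl⟩, e⟩ := Nat.exists_eq_two_pow_mul_odd (orderOf_pos x).ne'
  have hi' : t * x ^ (n + 1) * t⁻¹ = (x ^ (n + 1))⁻¹ := by rw [← conj_pow, hi, inv_pow]
  have key : t * (x ^ (n + 1) * a * t * (x ^ (n + 1) * a)⁻¹) = (x ^ (2 * n + 1))⁻¹ := by
    rw [show t * (x ^ (n + 1) * a * t * (x ^ (n + 1) * a)⁻¹) =
      t * x ^ (n + 1) * t⁻¹ * t * (a * t * a⁻¹) * (x ^ (n + 1))⁻¹ by group, hi', hdd, hdx,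
      mul_assoc _ t, ← mul_assoc t t, ht]
    group
  have h3 := H _ (mul_mem (pow_mem hx (n + 1)) ha)
  rw [key] at h3
  have h4 : (x ^ (2 * n + 1))⁻¹ ∈ CC A := by
    refine h3 (Two.inv ⟨k, ?_⟩) ?_
    · rw [← pow_mul, mul_comm, ← e, pow_orderOf_eq_one]
    · rw [← mul_inv_rev, ← Commute.mul_pow (Commute.refl x)]
      exact inv_mem (pow_mem h2 _)
  have h5 := mul_mem (pow_mem h2 (n + 1)) h4
  rwa [← pow_two, ← pow_mul, show x ^ (2 * (n + 1)) * (x ^ (2 * n + 1))⁻¹ = x by group] at h5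

end IsoM

/-- `Z*` modulo the centre of a quasisimple group. -/
theorem mem_CC_of_iso (hA : IsQuasisimple A) {t : G} (ht : t * t = 1) (hn : t ∈ NN A)
    (H : ∀ a ∈ A, Two (t * (a * t * a⁻¹)) → t * (a * t * a⁻¹) * (t * (a * t * a⁻¹)) ∈ CC A →
      t * (a * t * a⁻¹) ∈ CC A) : t ∈ CC A := by
  by_contra h0
  set Y := A ⊔ zpowers t with hY
  have htY : t ∈ Y := mem_sup_right (mem_zpowers t)
  have hYA : Y ≤ NN A := sup_le le_normalizer (zpowers_le.2 hn)
  let C : Subgroup Y := (CC A).subgroupOf Y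
  have : C.Normal := ⟨fun c hc g => by
    refine mem_subgroupOf.2 (mem_CC.2 fun a ha => ?_)
    have h1 := comm_conj (g : G) (comm_of_CC (mem_subgroupOf.1 hc)
      (conj_mem_of_mem_normalizer (inv_mem (hYA g.2)) ha))
    rwa [show (g : G) * ((g : G)⁻¹ * a * (g : G)⁻¹⁻¹) * (g : G)⁻¹ = a by group] at h1⟩
  let f := QuotientGroup.mk' C
  have hf : ∀ a : Y, f a = 1 ↔ (a : G) ∈ CC A := fun a => QuotientGroup.eq_one_iff a
  let t' : Y := ⟨t, htY⟩
  have hs : f t' * f t' = 1 := by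
    rw [← map_mul, show t' * t' = 1 from Subtype.ext ht, map_one]
  have hz : IsIsolatedInvolution (f t') := by
    refine ⟨orderOf_eq_prime (by rw [pow_two, hs]) fun h => h0 ((hf _).1 h), fun b hb => ?_⟩
    obtain ⟨g, rfl⟩ := QuotientGroup.mk'_surjective C b
    obtain ⟨a, ha, _, ⟨n, rfl⟩, e⟩ := exists_mul_of_mem_sup (zpowers_le.2 hn) g.2
    have h2 : (g : G) * t * (g : G)⁻¹ = a * t * a⁻¹ := by rw [← e]; group
    have hd : f g * f t' * (f g)⁻¹ * (f g * f t' * (f g)⁻¹) = 1 := by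
      rw [conj_mul, hs, mul_one, mul_inv_cancel]
    have h3 : f (t' * (g * t' * g⁻¹) * (t' * (g * t' * g⁻¹))) = 1 := by
      simp only [map_mul, map_inv]
      have hb' : Commute (f t') (f g * f t' * (f g)⁻¹) := hb
      rw [mul_assoc, ← mul_assoc (f g * f t' * (f g)⁻¹), ← hb'.eq, mul_assoc (f t'), hd, mul_one, hs]
    have h4 : t * (a * t * a⁻¹) ∈ CC A := IsoM.reduce ht hn H ha (h2 ▸ (hf _).1 h3)
    have h5 : f (t' * (g * t' * g⁻¹)) = 1 := (hf _).2 (by rw [← h2] at h4; exact h4)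
    simp only [map_mul, map_inv] at h5
    exact mul_left_cancel (h5.trans hs.symm)
  refine h0 ((le_or_mem_CC (Y := ((oddCore (Y ⧸ C)).comap f).map Y.subtype) hA hn (fun k hk => ?_)
    (le_sup_left.trans ((normal_iff_le_normalizer_map_subtype _).1 inferInstance))).resolve_left
    fun hle => ?_)
  · refine ⟨(⟨k, mem_sup_left hk⟩ : Y)⁻¹ * (t' * ⟨k, mem_sup_left hk⟩ * t'⁻¹), ?_, rfl⟩
    have h1 := inv_mem (hz.commutator_mem_oddCore (f ⟨k, mem_sup_left hk⟩)⁻¹)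
    rw [SetLike.mem_coe, mem_comap]
    simp only [map_mul, map_inv]
    convert h1 using 1
    group
  · let φ : A →* oddCore (Y ⧸ C) := (f.comp (inclusion le_sup_left)).codRestrict _ fun a => by
      obtain ⟨y, hy, e⟩ := hle a.2
      rwa [MonoidHom.comp_apply, show inclusion (le_sup_left : A ≤ Y) a = y from Subtype.ext e.symm]
    have hs1 : Group.IsSolvable (oddCore (Y ⧸ C)) := S0205.result odd_card_oddCore
    have hs2 : Group.IsSolvable (center A) :=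
      Group.isSolvable_of_comm fun a b => Subtype.ext (mem_center_iff.1 b.2 a)
    refine hA.not_isSolvable (Group.isSolvable_of_ker_le_range (center A).subtype φ fun a ha => ?_)
    rw [range_subtype, mem_center_iff]
    intro b
    exact Subtype.ext (comm_of_CC ((hf _).1 (congrArg Subtype.val ha)) b.2).eq

theorem L3c.false (l : L3c 𝒦 K1 K2 K U V E) (hA : Std A K) : False := by
  have hE : U ⊔ V ⊔ E ≤ NN E := sup_le (sup_le ((le_centralizer_iff.1 l.EU).trans (CC_le_NN E))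
    ((le_centralizer_iff.1 l.EV).trans (CC_le_NN E))) le_normalizer
  obtain ⟨Z, c, hZ⟩ := l.cw.core_inv l.m l.p l.two hE
  have hU : U ≤ NN Z := (le_sup_left.trans le_sup_left).trans hZ
  have hV : V ≤ NN Z := (le_sup_right.trans le_sup_left).trans hZ
  obtain ⟨k, -, kE, kZ, -, hk, -⟩ := l.exists_k c hU hV
  have hne : ∀ e ∈ E, e ≠ 1 → k * e * k⁻¹ ≠ e := fun e he h1 h => h1 (hk e he (comm_of_conj_eq h))
  have hne1 : ∀ e : G, e ≠ 1 → k * e * k⁻¹ ≠ 1 := fun e h1 h => h1 (by simpa using h)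
  have kA : k ∈ NN A := by
    obtain ⟨⟨e, he⟩, h1⟩ := ne_bot_iff_exists_ne_one.1 l.p.ne_bot
    exact hA.nn ▸ l.cw.toTI.mem_NN_of_conj l.m (l.l he) (Two.of_sq (l.p.el e he))
      (fun h => h1 (Subtype.ext h)) (l.l (conj_mem_of_mem_normalizer kE he))
  have hEA : ∀ e ∈ E, e ≠ 1 → e ∈ A → E ≤ A := fun e he h1 hea x hx => by
    have h2 := conj_mem_of_mem_normalizer kA hea
    rcases mem_four_cases c.cE l.p.el he (conj_mem_of_mem_normalizer kE he) h1 (hne1 e h1)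
      (hne e he h1).symm hx with rfl | rfl | rfl | rfl
    exacts [one_mem _, hea, h2, mul_mem hea h2]
  obtain ⟨⟨t, ht⟩, h1⟩ := ne_bot_iff_exists_ne_one.1 l.p1.ne_bot
  have h1 : t ≠ 1 := fun h => h1 (Subtype.ext h)
  have htt : t * t = 1 := l.p1.el t ht
  have hn : t ∈ NN A := l.le_NN_A hA ht
  refine h1 (l.not_mem_CC hA ht (mem_CC_of_iso hA.qs htt hn fun a ha h2 hc => ?_))
  have hx := IsoM.mul_conj_mem htt hn ha
  have hzA := mul_mem hx hx
  have h3 := h2.mul h2 (Commute.refl _)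
  have hzZ := l.cw.sc K l.m E Z c _ (hA.two _ hc h3) h3
    (mem_CC.2 fun y hy => (comm_of_CC (hA.le (c.le hy)) hzA).symm)
  by_cases hz1 : t * (a * t * a⁻¹) * (t * (a * t * a⁻¹)) = 1
  · refine l.iso1 hA ht h1 ha ?_
    have h4 := inv_eq_of_mul_eq_one_right hz1
    rw [mul_inv_rev, inv_eq_of_mul_eq_one_right htt,
      inv_eq_of_mul_eq_one_right ((conj_sq_iff a t).2 htt)] at h4
    exact h4.symm
  by_cases hzE : t * (a * t * a⁻¹) * (t * (a * t * a⁻¹)) ∈ E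
  · exact l.iso2 hA (hEA _ hzE hz1 hzA) ht h1 ha hzE hz1
  refine (l.iso3 hA c hU hV (fun w hw => ?_) ht h1 ha hzZ hzE).elim
  generalize t * (a * t * a⁻¹) * (t * (a * t * a⁻¹)) = z at hzA hzZ hzE
  have h5 : z * z ≠ 1 := fun h => hzE ((c.om z).2 ⟨hzZ, h⟩)
  have h6 := c.sq z hzZ
  have h7 := hEA _ h6 h5 (mul_mem hzA hzA)
  have h8 : ∀ y ∈ Z, y ∈ A → w * w = y * y → w ∈ A := fun y hy hyA e => by
    have h9 : w * y⁻¹ ∈ E := (c.om _).2 ⟨mul_mem hw (inv_mem hy), by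
      rw [mul_assoc, ← mul_assoc y⁻¹, (c.ab _ (inv_mem hy) _ hw).eq, ← mul_assoc, ← mul_assoc, e]
      group⟩
    simpa using mul_mem (h7 h9) hyA
  have kz := conj_mem_of_mem_normalizer kZ hzZ
  have kz' := conj_mem_of_mem_normalizer kA hzA
  rcases mem_four_cases c.cE l.p.el h6 (conj_mem_of_mem_normalizer kE h6) h5 (hne1 _ h5)
    (hne _ h6 h5).symm (c.sq w hw) with e | e | e | e
  · exact h8 1 (one_mem _) (one_mem _) (by rw [e, mul_one])
  · exact h8 z hzZ hzA e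
  · exact h8 _ kz kz' (by rw [e, conj_mul])
  · refine h8 _ (mul_mem hzZ kz) (mul_mem hzA kz') ?_
    rw [e, ← conj_mul, mul_assoc z (k * z * k⁻¹), ← mul_assoc (k * z * k⁻¹) z,
      (c.ab _ kz _ hzZ).eq]
    simp only [mul_assoc]

end Cfsg.Agent.CT8
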