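import Mathlib
import Cfsg.Agent.CT8.Bas

/-! Lemma X, weak closure and the abelian non-full configuration (S1308). -/

set_option autoImplicit false
set_option linter.unusedSectionVars false
set_option linter.unusedVariables false

namespace Cfsg.Agent.CT8

open Subgroup Cfsg.Agent.GT Cfsg.Agent.Inv Cfsg.Agent.Cmp
open scoped commutatorElement

variable {G : Type*} [Group G] [Finite G] {𝒦 : Set (Subgroup G)}

/-- The elements centralizing `δ` and permuting `u`, `δ u`. -/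
def LX.sw (u δ : G) (h : δ * δ = 1) : Subgroup G where
  carrier := {g | g * δ * g⁻¹ = δ ∧ (g * u * g⁻¹ = u ∨ g * u * g⁻¹ = δ * u)}
  one_mem' := ⟨by simp, .inl (by simp)⟩
  mul_mem' := fun {a b} ⟨a1, a2⟩ ⟨b1, b2⟩ => by
    have e : ∀ y, a * b * y * (a * b)⁻¹ = a * (b * y * b⁻¹) * a⁻¹ := fun y => by group
    have e' : a * (δ * u) * a⁻¹ = δ * (a * u * a⁻¹) := by
      conv_rhs => rw [← a1]
      group
    refine ⟨by rw [e, b1, a1], ?_⟩
    rw [e]
    rcases b2 with b2 | b2 <;> rw [b2]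
    · exact a2
    · rcases a2 with a2 | a2 <;> rw [e', a2]
      · exact .inr rfl
      · exact .inl (by rw [← mul_assoc, h, one_mul])
  inv_mem' := fun {a} ⟨a1, a2⟩ => by
    have a1' : a⁻¹ * δ * a⁻¹⁻¹ = δ := by
      conv_lhs => rw [← a1]
      group
    refine ⟨a1', a2.imp (fun a2 => ?_) fun a2 => ?_⟩
    · conv_lhs => rw [← a2]
      group
    · have : u = δ * (a * u * a⁻¹) := by rw [a2, ← mul_assoc, h, one_mul]
      conv_lhs => rw [this]
      conv_rhs => rw [← a1']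
      group

/-- Lemma X. -/
theorem lemX {D : Subgroup G} (hD : IsPGroup 2 D) {u s c : G} (hu : u ∈ D)
    (hDu : ∀ d ∈ D, Commute d u) (hu2 : u * u = 1) (hs : s * s = 1)
    (hc : Commute s (u * s * u⁻¹)) (hne : u * s * u⁻¹ ≠ s) (hcu : Commute c u)
    (hδ : ∀ d ∈ D, Commute d (c * (s * (u * s * u⁻¹)) * c⁻¹))
    (H : ∀ g : G, ∀ Q : Subgroup G, IsPGroup 2 Q → D ≤ Q → g * s * g⁻¹ ∈ Q →
      Commute (g * s * g⁻¹) u) : False := by
  have si : s⁻¹ = s := inv_eq_of_mul_eq_one_right hs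
  have d2 : s * (u * s * u⁻¹) * (s * (u * s * u⁻¹)) = 1 := by
    calc _ = s * (u * s * u⁻¹ * s) * (u * s * u⁻¹) := by group
      _ = s * s * (u * (s * s) * u⁻¹) := by rw [← hc.eq]; group
      _ = 1 := by rw [hs]; group
  set δ := c * (s * (u * s * u⁻¹)) * c⁻¹ with hδe
  have δ2 : δ * δ = 1 := by
    calc _ = c * (s * (u * s * u⁻¹) * (s * (u * s * u⁻¹))) * c⁻¹ := by rw [hδe]; group
      _ = 1 := by rw [d2]; group
  have sδ : c * s * c⁻¹ * δ * (c * s * c⁻¹)⁻¹ = δ :=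
    conj_eq_of_comm (comm_conj c ((Commute.refl s).mul_right hc))
  have su : c * s * c⁻¹ * u * (c * s * c⁻¹)⁻¹ = δ * u := by
    calc _ = c * s * (c⁻¹ * u * c) * s⁻¹ * c⁻¹ := by group
      _ = c * (s * (u * s * u⁻¹)) * (u * c⁻¹) := by
        rw [mul_assoc c⁻¹, ← hcu.eq, inv_mul_cancel_left, si]; group
      _ = δ * u := by rw [hδe, ← hcu.inv_left.eq]; group
  obtain ⟨Q, hDQ, hQ⟩ := exists_syl_ge (K := LX.sw u δ δ2) hD fun d hd =>
    ⟨conj_eq_of_comm (hδ d hd), .inl (conj_eq_of_comm (hDu d hd))⟩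
  obtain ⟨k, hk, hkQ⟩ := hQ.exists_conj_elt ((Two.of_sq hs).conj c) ⟨sδ, .inr su⟩
  have e : k * c * s * (k * c)⁻¹ = k * (c * s * c⁻¹) * k⁻¹ := by group
  have h1 := conj_eq_of_comm (H (k * c) Q hQ.two hDQ (e ▸ hkQ))
  have h2 : c * s * c⁻¹ * (k⁻¹ * u * k⁻¹⁻¹) * (c * s * c⁻¹)⁻¹ = δ * (k⁻¹ * u * k⁻¹⁻¹) := by
    rcases (inv_mem hk).2 with h | h <;> rw [h]
    · exact su
    · calc _ = c * s * c⁻¹ * δ * (c * s * c⁻¹)⁻¹ * (c * s * c⁻¹ * u * (c * s * c⁻¹)⁻¹) := by group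
        _ = _ := by rw [sδ, su]
  have h3 : δ * u = u := by
    calc δ * u = k * δ * k⁻¹ * u := by rw [hk.1]
      _ = k * (δ * (k⁻¹ * u * k⁻¹⁻¹)) * k⁻¹ := by group
      _ = u := by
        rw [← h2]
        conv_rhs => rw [← h1]
        group
  have h4 : s * (u * s * u⁻¹) = 1 := by
    have := mul_eq_right.1 h3
    rwa [hδe, conj_eq_one_iff] at this
  exact hne (by rw [← inv_eq_of_mul_eq_one_right h4, si])

/-- Weak closure. -/
theorem weak_closed {H P Q : Subgroup G} {D : Set G} {u : G}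
    (hc : ∀ g ∈ H, ∀ d ∈ D, g * d * g⁻¹ ∈ D) (hP : Syl P H) (hQ : IsPGroup 2 Q) (hQH : Q ≤ H)
    (hQu : ∀ x ∈ Q, Commute x u) (hu : u ∈ closure (D ∩ Q))
    (hV : ∀ d ∈ D, d ∈ P → Commute d u) : u ∈ closure (D ∩ P) := by
  have VP : closure (D ∩ P) ≤ P := (closure_le _).2 Set.inter_subset_right
  obtain ⟨c, hcm, Q', hQ', h1, h2⟩ := exists_conj_two (H := H ⊓ centralizer {u}) hQ
    (fun x hx => ⟨hQH hx, mem_centralizer_singleton_iff.2 (hQu x hx)⟩) (hP.two.to_le VP)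
    (le_inf (VP.trans hP.le) ((closure_le _).2 fun d hd => mem_centralizer_singleton_iff.2 (hV d hd.1 hd.2)))
  obtain ⟨h, hh, h3⟩ := hP.exists_conj hQ'.two (hQ'.le.trans inf_le_left)
  have key : ∀ (g : G) (A : Subgroup G), g ∈ H → (∀ a ∈ D, a ∈ A → g * a * g⁻¹ ∈ P) →
      ∀ y ∈ closure (D ∩ A), g * y * g⁻¹ ∈ closure (D ∩ P) := fun g A hg hA y hy => by
    have : closure (D ∩ A) ≤ (closure (D ∩ P)).comap (MulAut.conj g).toMonoidHom :=
      (closure_le _).2 fun d hd => subset_closure ⟨hc g hg d hd.1, hA d hd.1 hd.2⟩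
    exact this hy
  have hn : h ∈ NN (closure (D ∩ P)) :=
    mem_normalizer_fintype (key h P hh fun a ha haP => h3 a (h2 (subset_closure ⟨ha, haP⟩)))
  have h4 := key (h * c) Q (mul_mem hh hcm.1) (fun a _ haQ => by
    have := h3 _ (h1 (conj_mem_map_conj.2 haQ))
    convert this using 1
    group) u hu
  rw [show h * c * u * (h * c)⁻¹ = h * (c * u * c⁻¹) * h⁻¹ by group,
    conj_eq_of_comm (mem_centralizer_singleton_iff.1 hcm.2)] at h4
  exact (mem_normalizer_iff.1 hn u).2 h4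

/-- A non-full configuration with abelian `U`. -/
theorem Nf.false_of_ab {K U S T R : Subgroup G} (n : Nf K U S T) (hU : Ab U) (hR : R ≤ U)
    (h4 : Four R) (he : ¬ El R) (hd : R ⊓ S = ⊥) : False := by
  have one : ∀ r ∈ R, r ∈ S → r = 1 := fun r h1 h2 => mem_bot.1 (hd ▸ mem_inf.2 ⟨h1, h2⟩)
  obtain ⟨a, ha, b, hb, oa, ob, hab, -⟩ := h4
  have a2 : a * a = 1 := by rw [← sq, ← oa, pow_orderOf_eq_one]
  have b2 : b * b = 1 := by rw [← sq, ← ob, pow_orderOf_eq_one]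
  have aS : a ∉ S := fun h => by rw [one a ha h, orderOf_one] at oa; omega
  have bS : b ∉ S := fun h => by rw [one b hb h, orderOf_one] at ob; omega
  have abS : a * b ∉ S := fun h => hab (by
    rw [← inv_eq_of_mul_eq_one_right (one _ (mul_mem ha hb) h), inv_eq_of_mul_eq_one_right a2])
  by_cases hS : ∀ s ∈ S, s * s = 1
  swap
  · push Not at hS
    obtain ⟨s, hs, s2⟩ := hS
    have := (mul_mem_iff_of_index_two (n.relIndex_of_nonelem hs s2) (a := ⟨a, hR ha⟩) (b := ⟨b, hR hb⟩)).2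
      (iff_of_false aS bS)
    exact abS this
  have cj : ∀ t ∈ T, ∀ x ∈ U, t * x * t⁻¹ ∈ U := fun t ht x hx => (mem_normalizer_iff.1 (n.TU ht) x).1 hx
  have nm : ∀ t ∈ T, t ≠ 1 → ∀ x ∈ U, x * (t * x * t⁻¹) ∈ S := fun t ht t1 x hx => by
    refine (n.cen t ht t1 _ (mul_mem hx (cj t ht x hx))).1 (comm_of_conj_eq ?_).symm
    calc _ = t * x * t⁻¹ * (t * t * x * (t * t)⁻¹) := by group
      _ = _ := by rw [n.elemT' hS ht, one_mul, inv_one, mul_one, (hU x hx _ (cj t ht x hx)).eq]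
  obtain ⟨t, ht, t1⟩ := (T.bot_or_exists_ne_one).resolve_left n.ne
  by_cases hT : ∃ t' ∈ T, t' ≠ 1 ∧ t' ≠ t
  · obtain ⟨t', ht', t1', tt⟩ := hT
    refine he fun x hx => one _ (mul_mem hx hx) ?_
    have xU := hR hx
    have hb' := nm t' ht' t1' x xU
    have k := mul_mem (mul_mem (nm t ht t1 x xU) (nm _ (mul_mem ht ht') (fun e => tt (by
      rw [← inv_eq_of_mul_eq_one_right e, inv_eq_of_mul_eq_one_right (n.elemT' hS ht)])) x xU)) (inv_mem hb')
    rw [← conj_eq_of_comm (n.commST hb' ht).symm, ← (hU _ (cj t ht x xU) x xU).eq] at k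
    have e := (hU _ (cj t ht x xU) _ (mul_mem xU xU)).eq
    convert k using 1
    calc x * x = (t * x * t⁻¹ * (x * x)) * (t * x * t⁻¹)⁻¹ := by rw [e]; group
      _ = _ := by group
  · push Not at hT
    obtain ⟨r, hr, hn, hrS⟩ := n.exists_r
    have uq : ∀ s ∈ S, s ≠ 1 → s = t⁻¹ * (r * t * r⁻¹) := fun s hs s1 => by
      obtain ⟨y, hy, e⟩ := n.phi_surj hr hn hrS hs
      rw [← e, hT y hy fun h => s1 (by rw [← e, h]; group)]
    have ne : ∀ x ∈ U, x * x = 1 → x ∉ S → x * (t * x * t⁻¹) ≠ 1 := fun x hx x2 xS e =>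
      xS ((n.cen t ht t1 x hx).1 (comm_of_conj_eq (by
        rw [← inv_eq_of_mul_eq_one_right e, inv_eq_of_mul_eq_one_right x2])).symm)
    have e := (uq _ (nm t ht t1 a (hR ha)) (ne a (hR ha) a2 aS)).trans
      (uq _ (nm t ht t1 b (hR hb)) (ne b (hR hb) b2 bS)).symm
    refine abS ((n.cen t ht t1 _ (hR (mul_mem ha hb))).1 (comm_of_conj_eq ?_).symm)
    calc _ = a * a * (t * a * t⁻¹) * (t * b * t⁻¹) := by rw [a2]; group
      _ = a * (b * (t * b * t⁻¹)) * (t * b * t⁻¹) := by rw [mul_assoc a a, e]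
      _ = a * b * (t * (b * b) * t⁻¹) := by group
      _ = a * b := by rw [b2]; group

end Cfsg.Agent.CT8
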