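import Mathlib
import Cfsg.Agent.CT8.RT
import Cfsg.Agent.CT8.Root

/-! Root squares and the world `N2` (S1308).  See `stubs/Cfsg/Agent/CT8/PLAN.md`. -/

set_option autoImplicit false
set_option linter.unusedSectionVars false
set_option linter.unusedVariables false

namespace Cfsg.Agent.CT8

open Subgroup Cfsg.Agent.GT Cfsg.Agent.Inv Cfsg.Agent.Cmp
open scoped commutatorElement

variable {G : Type*} [Group G] [Finite G] {𝒦 : Set (Subgroup G)}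

theorem PD.rt (fh : FH 𝒦) {K L R T T0 : Subgroup G} (hK : K ∈ 𝒦) (hL : L ∈ 𝒦)
    (p : PD K L R T T0) (hc : ¬ HC K L) (he : El T0) : Rt T0 (R ⊓ NN (T0 ⊔ T)) T := by
  have nf := p.nf_of_fh fh hK hL hc
  refine ⟨nf.SR, fun s hs => mem_CC.2 fun r hr => ?_, p.le_CC, fun z hz f hf => ?_,
    fun z hz f hf e => ?_⟩
  · by_cases h0 : r ∈ T0
    · exact nf.commS h0 hs
    · exact comm_of_conj_eq ((nf.inverts hr.1 hr.2 h0 hs).trans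
        (inv_eq_of_mul_eq_one_right (he s hs)))
  · have := inv_mem (nf.phi_mem hz.1 hz.2 (inv_mem hf))
    rwa [show (f⁻¹⁻¹ * (z * f⁻¹ * z⁻¹))⁻¹ = ⁅z, f⁆ by rw [commutatorElement_def]; group] at this
  · by_cases h1 : f = 1
    · exact Or.inr h1
    · exact Or.inl ((p.cen f hf h1 z hz.1).1 e)

/-- All roots have the same square up to conjugacy. -/
theorem n2of_key (h : TI 𝒦) (fh : FH 𝒦) {K L R R' T T0 : Subgroup G} (hK : K ∈ 𝒦) (hL : L ∈ 𝒦)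
    (p : PD K L R T T0) (p' : PD L K R' T0 T) (hc : ¬ HC K L) (he : El T0) {r ρ : G} (hr : r ∈ R)
    (hn : r ∈ NN (T0 ⊔ T)) (h0 : r ∉ T0) (hρ : ρ ∈ R') (hρn : ρ ∈ NN (T ⊔ T0)) (hρ0 : ρ ∉ T) :
    r * r = 1 ↔ ρ * ρ = 1 := by
  have hc' : ¬ HC L K := fun e => hc e.symm
  have he' := p.el_iff.1 he
  have nf := p.nf_of_fh fh hK hL hc
  have nf' := p'.nf_of_fh fh hL hK hc'
  have hW : T0 ⊔ T ≤ CC (T0 ⊔ T) := fun w hw => mem_CC.2 fun w' hw' => nf.commW hw' hw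
  have hρn' : ρ ∈ NN (T0 ⊔ T) := sup_comm T T0 ▸ hρn
  obtain ⟨g, -, -, -, e, -, hcc, -⟩ := h.root hK hL p.ne nf.SK nf'.SK he he' p.le_CC nf.S_ne_bot
    p.card hn hρn' (hW (mem_sup_left (nf.sq_mem hr hn))) (hW (mem_sup_right (nf'.sq_mem hρ hρn)))
    (fun w hw => (p.rt fh hK hL hc he).cen_iff ⟨hr, hn⟩ h0 hw)
    (fun w hw => (p'.rt fh hL hK hc' he').cen_iff ⟨hρ, hρn⟩ hρ0 (sup_comm T0 T ▸ hw))
  have hρL : ρ ∈ L := p'.sR.le hρ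
  have hσL : g * r * g⁻¹ ∈ L := e ▸ conj_mem_map_conj.2 (p.sR.le hr)
  obtain ⟨y, hy, hy2⟩ := exists_inv_of_ne_bot he.two nf.S_ne_bot
  have sC : Syl T (L ⊓ CC (T0 ⊔ T)) := p.sT.of_le (le_inf nf'.SK (le_sup_right.trans hW))
    (inf_le_inf_left _ fun c hc => h.mem_NN hK (nf.SK hy) (Two.of_two hy2)
      (fun e => by simp [e] at hy2) (comm_of_CC hc (mem_sup_left hy)).symm)
  have hρC : zpowers ρ ≤ NN (L ⊓ CC (T0 ⊔ T)) := zpowers_le.2 (map_conj_eq_self_iff.1 (by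
    rw [map_conj_inf, map_conj_eq_of_mem hρL, ← CC_conj, map_conj_eq_of_mem_norm hρn']))
  have hρ2 := (Two.of_mem p'.sR.two hρ).isPGroup
  have sH := sC.sup_right hρ2 hρC (zpowers_le.2 (nf'.rS hρ hρn))
  have hcC : g * r * g⁻¹ * ρ⁻¹ ∈ L ⊓ CC (T0 ⊔ T) :=
    mem_inf.2 ⟨mul_mem hσL (inv_mem hρL), hcc⟩
  obtain ⟨k, hk, hkσ⟩ := sH.exists_conj_elt ((Two.of_mem p.sR.two hr).conj g) (by
    have := mul_mem (mem_sup_left hcC) (mem_sup_right (mem_zpowers ρ))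
    rwa [inv_mul_cancel_right] at this)
  obtain ⟨a, ha, x, hx, rfl⟩ := exists_mul_of_mem_sup hρC hk
  have hxρ : x * ρ = ρ * x := by
    obtain ⟨n, rfl⟩ := mem_zpowers_iff.1 hx
    exact (Commute.refl ρ).zpow_left n
  have ht : a * x * (g * r * g⁻¹) * (a * x)⁻¹ * ρ⁻¹ ∈ T := by
    refine sC.mem_of_mem sH.two le_sup_left ?_ (mul_mem hkσ (inv_mem (mem_sup_right (mem_zpowers ρ))))
    have := mul_mem (mul_mem ha (conj_mem_of_mem_normalizer (hρC hx) hcC))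
      (conj_mem_of_mem_normalizer (hρC (mem_zpowers ρ)) (inv_mem ha))
    rwa [show a * (x * (g * r * g⁻¹ * ρ⁻¹) * x⁻¹) * (ρ * a⁻¹ * ρ⁻¹) =
      a * x * (g * r * g⁻¹) * ((x * ρ)⁻¹ * ρ * x) * ((a * x)⁻¹ * ρ⁻¹) by group, hxρ,
      show (ρ * x)⁻¹ * ρ * x = 1 by group, mul_one, ← mul_assoc] at this
  rw [← conj_sq_iff g, ← conj_sq_iff (a * x)]
  have e2 := nf'.inverts hρ hρn hρ0 ht
  generalize a * x * (g * r * g⁻¹) * (a * x)⁻¹ = z at e2 ⊢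
  rw [show z * z = z * ρ⁻¹ * (ρ * (z * ρ⁻¹) * ρ⁻¹) * (ρ * ρ) by group, e2, mul_inv_cancel, one_mul]

/-- In a non-full pair with elementary `T`, `N_R(T T₀)` is elementary or has `Ω₁ = T₀`. -/
theorem PD.sq_eq_one (h : Fm 𝒦) (fh : FH 𝒦) {K L R T T0 : Subgroup G} (hK : K ∈ 𝒦) (hL : L ∈ 𝒦)
    (p : PD K L R T T0) (hc : ¬ HC K L) (he : El T0) {r r' : G} (hr : r ∈ R)
    (hn : r ∈ NN (T0 ⊔ T)) (h0 : r ∉ T0) (hr' : r' ∈ R) (hn' : r' ∈ NN (T0 ⊔ T))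
    (h2 : r * r = 1) : r' * r' = 1 := by
  by_cases h0' : r' ∈ T0
  · exact he r' h0'
  obtain ⟨R', p'⟩ := p.symm h.toTI hK hL
  obtain ⟨ρ, hρ, hρn, hρ0⟩ := (p'.nf_of_fh fh hL hK fun e => hc e.symm).exists_r
  exact (n2of_key h.toTI fh hK hL p p' hc he hr' hn' h0' hρ hρn hρ0).2
    ((n2of_key h.toTI fh hK hL p p' hc he hr hn h0 hρ hρn hρ0).1 h2)

theorem W2.n2 (h : W2 𝒦)
    (h2 : ∀ K ∈ 𝒦, ∀ L ∈ 𝒦, ∀ R T T0 : Subgroup G, PD K L R T T0 → ¬ HC K L → R ≤ NN (T0 ⊔ T))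
    {K L R T T0 : Subgroup G} (hK : K ∈ 𝒦) (hL : L ∈ 𝒦) (p : PD K L R T T0) (hc : ¬ HC K L)
    (he : ¬ El R) : N2 𝒦 := by
  have nel : ∀ K ∈ 𝒦, ∀ S : Subgroup G, Syl S K → ¬ El S := fun K' hK' S hS e => by
    obtain ⟨g, -, e'⟩ := h.toTI.syl_conj hK' hK hS p.sR
    exact he (e' ▸ e.conj g)
  have nf : ∀ K ∈ 𝒦, ∀ L ∈ 𝒦, ∀ R T T0 : Subgroup G, PD K L R T T0 → ¬ HC K L →
      Om T0 R ∧ R ≤ NN (T0 ⊔ T) := fun K hK L hL R T T0 p hc => by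
    have e0 := (h.el K hK L hL R T T0 p hc).1
    have hn := h2 K hK L hL R T T0 p hc
    refine ⟨fun x => ⟨fun hx => ⟨p.le hx, e0 x hx⟩, fun hx => ?_⟩, hn⟩
    by_contra h0
    exact nel K hK R p.sR fun y hy =>
      p.sq_eq_one h.toFm h.fh hK hL hc e0 hx.1 (hn hx.1) h0 hy (hn hy) hx.2
  refine ⟨h.toFm, h.fh, fun K' hK' S hS x hx hx2 => ?_, nel, nf⟩
  obtain ⟨g, -, rfl⟩ := h.toTI.syl_conj hK hK' p.sR hS
  obtain ⟨y, hy, rfl⟩ := mem_map_conj_iff_exists.1 hx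
  obtain ⟨ho, hn⟩ := nf K hK L hL R T T0 p hc
  have := (p.rt h.fh hK hL hc ho.el).cen ((ho y).2 ⟨hy, (conj_sq_iff g y).1 hx2⟩)
  rw [inf_eq_left.2 hn] at this
  exact conj_mem_CC g this

end Cfsg.Agent.CT8
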