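import Mathlib
import Cfsg.Agent.CT8.N2of

/-! S1308, piece N2a: points in the world `N2`. -/

set_option autoImplicit false
set_option linter.unusedSectionVars false
set_option linter.unusedVariables false

namespace Cfsg.Agent.CT8

open Subgroup Cfsg.Agent.GT Cfsg.Agent.Inv Cfsg.Agent.Cmp
open scoped commutatorElement

variable {G : Type*} [Group G] [Finite G] {𝒦 : Set (Subgroup G)}

variable {K L S E F : Subgroup G}

theorem N2a.om_unique (h : Om E S) (h' : Om F S) : E = F := Subgroup.ext fun x => (h x).trans (h' x).symm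

theorem N2a.pn_le (p : Pn K E) : E ≤ K := p.choose_spec.2.le.trans p.choose_spec.1.le

theorem N2a.pn_el (p : Pn K E) : El E := p.choose_spec.2.el

theorem N2a.le_om {X : Subgroup G} (o : Om E S) (hX : X ≤ S) (eX : El X) : X ≤ E :=
  fun x hx => (o x).2 ⟨hX hx, eX x hx⟩

open N2a

theorem N2.exists_om (h : N2 𝒦) (hK : K ∈ 𝒦) (hS : Syl S K) : ∃ E, Om E S :=
  ⟨{ carrier := {x | x ∈ S ∧ x * x = 1}
     one_mem' := ⟨one_mem _, mul_one 1⟩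
     mul_mem' := fun {a b} ha hb => ⟨mul_mem ha.1 hb.1,
       (commute_iff_mul_sq ha.2 hb.2).1 (comm_of_CC (h.cen K hK S hS b hb.1 hb.2) ha.1)⟩
     inv_mem' := fun {a} ha => ⟨inv_mem ha.1, by rw [← mul_inv_rev, ha.2, inv_one]⟩ }, fun _ => Iff.rfl⟩

theorem N2.four_le (h : N2 𝒦) (hK : K ∈ 𝒦) (p : Pn K E) : 4 ≤ Nat.card E := by
  obtain ⟨S, hS, o⟩ := p
  obtain ⟨a, ha, b, hb, a2, b2, hab, hc⟩ := hS.four (h.four K hK)
  have k : ∀ x : G, orderOf x = 2 → x * x = 1 := fun x hx => by rw [← pow_two, ← hx, pow_orderOf_eq_one]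
  exact four_le_card ⟨a, (o a).2 ⟨ha, k a a2⟩, b, (o b).2 ⟨hb, k b b2⟩, a2, b2, hab, hc⟩

theorem N2.card_eq (h : N2 𝒦) (hK : K ∈ 𝒦) (hL : L ∈ 𝒦) (p : Pn K E) (q : Pn L F) :
    Nat.card E = Nat.card F := by
  obtain ⟨S, hS, o⟩ := p
  obtain ⟨S', hS', o'⟩ := q
  obtain ⟨g, -, rfl⟩ := h.syl_conj hK hL hS hS'
  rw [om_unique o' (o.conj g), card_map_conj]

theorem N2.card_le (h : N2 𝒦) (hK : K ∈ 𝒦) (p : Pn K E) {X : Subgroup G} (hX : X ≤ K)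
    (eX : El X) : Nat.card X ≤ Nat.card E := by
  obtain ⟨U, hU, sU⟩ := exists_syl_ge eX.two hX
  obtain ⟨E', o⟩ := h.exists_om hK sU
  rw [h.card_eq hK hK p ⟨U, sU, o⟩]
  exact card_le_of_le (le_om o hU eX)

theorem N2.pn_of_card (h : N2 𝒦) (hK : K ∈ 𝒦) (hL : L ∈ 𝒦) (p : Pn K E) (hF : F ≤ L) (eF : El F)
    (hc : Nat.card E ≤ Nat.card F) : Pn L F := by
  obtain ⟨U, hU, sU⟩ := exists_syl_ge eF.two hF
  obtain ⟨E', o⟩ := h.exists_om hL sU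
  rw [h.card_eq hK hL p ⟨U, sU, o⟩] at hc
  exact ⟨U, sU, eq_of_le_of_card_ge (le_om o hU eF) hc ▸ o⟩

theorem N2a.om_of_le (h : N2 𝒦) (hK : K ∈ 𝒦) (p : Pn K E) (hS : Syl S K) (hle : E ≤ S) : Om E S := by
  obtain ⟨E', o⟩ := h.exists_om hK hS
  exact eq_of_le_of_card_ge (le_om o hle (pn_el p)) (h.card_eq hK hK ⟨S, hS, o⟩ p).le ▸ o

theorem N2a.ne_bot (h : N2 𝒦) (hK : K ∈ 𝒦) (p : Pn K E) : E ≠ ⊥ := fun e => by
  have := h.four_le hK p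
  rw [e, card_bot] at this
  omega

theorem N2a.nn_le (h : TI 𝒦) (hK : K ∈ 𝒦) {X : Subgroup G} (hX : IsPGroup 2 X) (hle : X ≤ K) (h0 : X ≠ ⊥) :
    NN X ≤ NN K := fun g hg => by
  obtain ⟨⟨x, hx⟩, h1⟩ := ne_bot_iff_exists_ne_one.1 h0
  exact h.mem_NN_of_conj hK (hle hx) (Two.of_mem hX hx) (fun e => h1 (Subtype.ext e))
    (hle (conj_mem_of_mem_normalizer hg hx))

theorem N2.mem_of_comm (h : N2 𝒦) (hK : K ∈ 𝒦) (p : Pn K E) {x : G} (hx : x ∈ K)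
    (h2 : x * x = 1) (hc : x ∈ CC E) : x ∈ E := by
  obtain ⟨U, hU, sU⟩ := exists_syl_ge (two_sup (pn_el p).two (Two.of_sq h2).isPGroup
    (zpowers_le.2 (CC_le_NN E hc))) (sup_le (pn_le p) (zpowers_le.2 hx))
  exact (om_of_le h hK p sU (le_sup_left.trans hU) x).2 ⟨hU (mem_sup_right (mem_zpowers x)), h2⟩

/-- An invariant Sylow subgroup with prescribed point. -/
theorem N2.exists_syl (h : N2 𝒦) (hK : K ∈ 𝒦) (p : Pn K E) {X : Subgroup G} (hX : IsPGroup 2 X)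
    (hn : X ≤ NN E) : ∃ S, Syl S K ∧ Om E S ∧ X ≤ NN S := by
  obtain ⟨S, hS, h1, h2⟩ := exists_inv_syl hX
    (hn.trans (nn_le h.toTI hK (pn_el p).two (pn_le p) (N2a.ne_bot h hK p))) (pn_el p).two (pn_le p) hn
  exact ⟨S, hS, om_of_le h hK p hS h1, h2⟩

/-- (C): an involution of another member normalizing a point centralizes it. -/
theorem N2.cC (h : N2 𝒦) (hK : K ∈ 𝒦) (hL : L ∈ 𝒦) (hne : K ≠ L) (p : Pn K E) {d : G}
    (hd : d ∈ L) (h2 : d * d = 1) (hn : d ∈ NN E) : d ∈ CC E := by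
  by_cases h1 : d = 1
  · rw [h1]; exact one_mem _
  by_cases hc : HC K L
  · exact h.mem_CC_of_hc hK hL hc (pn_el p).two (pn_le p) hd hn
  have dK : zpowers d ≤ NN K :=
    zpowers_le.2 (nn_le h.toTI hK (pn_el p).two (pn_le p) (N2a.ne_bot h hK p) hn)
  have d2 := (Two.of_sq h2).isPGroup
  obtain ⟨R, T, T0, pd, hT⟩ := h.exists_pd hK hL hne d2 (zpowers_le.2 hd) dK (zpowers_ne_bot.2 h1)
  obtain ⟨o, -⟩ := h.nf K hK L hL R T T0 pd hc
  have s1 := pd.sR.sup_right d2 dK (hT.trans pd.TR)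
  obtain ⟨k, hk, e⟩ := s1.exists_conj (two_sup (pn_el p).two d2 (zpowers_le.2 hn))
    (sup_le_sup_right (pn_le p) _)
  have kK : k ∈ NN K := sup_le le_normalizer dK hk
  have c1 : R ⊔ zpowers d ≤ CC T0 := sup_le
    (fun r hr => mem_CC.2 fun t ht => (comm_of_CC (h.cen K hK R pd.sR t (o.le ht) (o.el t ht)) hr).symm)
    (zpowers_le.2 (mem_CC.2 fun t ht => (comm_of_CC (pd.le_CC ht) (hT (mem_zpowers d))).symm))
  refine mem_CC.2 fun x hx => ?_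
  have x0 : k * x * k⁻¹ ∈ T0 := (o _).2 ⟨pd.sR.mem_of_mem s1.two le_sup_left
    (conj_mem_of_mem_normalizer kK (pn_le p hx)) (e x (mem_sup_left hx)), by
      rw [conj_mul, pn_el p x hx, mul_one, mul_inv_cancel]⟩
  have := comm_conj k⁻¹ (comm_of_CC (c1 (e d (mem_sup_right (mem_zpowers d)))) x0)
  simpa only [inv_inv, ← mul_assoc, inv_mul_cancel, one_mul, inv_mul_cancel_right] using this

theorem N2.rt (h : N2 𝒦) (hK : K ∈ 𝒦) (hL : L ∈ 𝒦) (hne : K ≠ L) (hc : ¬ HC K L) (hS : Syl S K)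
    (o : Om E S) (q : Pn L F) (hn : F ≤ NN S) : Rt E S F ∧ Syl E (K ⊓ NN L) ∧ S ≠ E := by
  have S0 : S ≠ ⊥ := fun e => N2a.ne_bot h hK ⟨S, hS, o⟩ (le_bot_iff.1 (e ▸ o.le))
  have F0 := N2a.ne_bot h hL q
  obtain ⟨R, T, T0, pd, hT⟩ := h.exists_pd hK hL hne (pn_el q).two (pn_le q)
    (hn.trans (nn_le h.toTI hK hS.two hS.le S0)) F0
  have eT : El T := pd.el_iff.1 (h.nf K hK L hL R T T0 pd hc).1.el
  obtain rfl : F = T := eq_of_le_of_card_ge hT (h.card_le hL q (pd.sT.le.trans inf_le_left) eT)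
  have p2 := h.pair hK hL hne pd.sT F0 hS hn
  obtain ⟨o2, n2⟩ := h.nf K hK L hL _ _ _ p2 hc
  obtain rfl := om_unique o o2
  have r := p2.rt h.fh hK hL hc o.el
  rw [inf_eq_left.2 n2] at r
  exact ⟨r, p2.sT0, fun e => h.nel K hK S hS (e ▸ o.el)⟩

theorem N2.hc_of_cen (h : N2 𝒦) (hK : K ∈ 𝒦) (hL : L ∈ 𝒦) (hne : K ≠ L) (hS : Syl S K) {d : G}
    (hd : d ∈ L) (h2 : Two d) (h1 : d ≠ 1) (hc : d ∈ CC S) : HC K L :=
  (h.fh L hL K hK hne.symm S hS fun _ hs => h.mem_NN hL hd h2 h1 (comm_of_CC hc hs)).symm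

theorem N2.bg (h : N2 𝒦) (hK : K ∈ 𝒦) : Bg K := by
  obtain ⟨S, hS⟩ := Cmp.exists_syl K
  exact bg_of_not_el hS (h.nel K hK S hS)

end Cfsg.Agent.CT8
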