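import Mathlib
import Cfsg.Agent.CT8.N2a

/-! Commuting points, the third point of a line, root elements (S1308, piece N2b). -/

set_option autoImplicit false
set_option linter.unusedSectionVars false
set_option linter.unusedVariables false

namespace Cfsg.Agent.CT8

open Subgroup Cfsg.Agent.GT Cfsg.Agent.Inv Cfsg.Agent.Cmp
open scoped commutatorElement

variable {G : Type*} [Group G] [Finite G] {𝒦 : Set (Subgroup G)}

variable {K L S E F : Subgroup G}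

namespace N2b

theorem pn_le (p : Pn K E) : E ≤ K := let ⟨_, h, o⟩ := p; o.le.trans h.le

theorem pn_el (p : Pn K E) : El E := let ⟨_, _, o⟩ := p; o.el

theorem sq_conj {x : G} (h : x * x = 1) (g : G) : g * x * g⁻¹ * (g * x * g⁻¹) = 1 := by
  rw [conj_mul, h, mul_one, mul_inv_cancel]

theorem nn_inf {g : G} (h : g ∈ NN E) (h' : g ∈ NN F) : g ∈ NN (E ⊓ F) :=
  map_conj_eq_self_iff.1 (by rw [map_conj_inf, map_conj_eq_of_mem_norm h, map_conj_eq_of_mem_norm h'])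

theorem exists_ne (h : 4 ≤ Nat.card E) : ∃ x ∈ E, x ≠ 1 :=
  (E.nontrivial_iff_exists_ne_one).1 (Finite.one_lt_card_iff_nontrivial.1 (by omega))

theorem el_sup (eE : El E) (eF : El F) (c : E ≤ CC F) : El (E ⊔ F) := fun x hx => by
  obtain ⟨a, ha, b, hb, rfl⟩ := exists_mul_of_mem_sup (le_centralizer_iff.1 c |>.trans (CC_le_NN E)) hx
  rw [(comm_of_CC (c ha) hb).mul_mul_mul_comm, eE a ha, eF b hb, one_mul]

theorem fix_of_unique {Ω : Type*} [Finite Ω] {f g : Ω → Ω} (hf : Function.Involutive f)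
    (hg : Function.Involutive g) {a : Ω} (ha : f a = a) (hu : ∀ b, f b = b → b = a) : ∃ b, g b = b := by
  classical
  have := Fintype.ofFinite Ω
  have e : ∀ {k : Ω → Ω} (hk : Function.Involutive k), hk.toPerm k ^ 2 ^ 1 = 1 := fun hk => by
    rw [pow_one, pow_two]; exact Equiv.ext hk
  refine Equiv.Perm.exists_fixed_point_of_prime (p := 2) (fun d => ?_) (e hg)
  obtain ⟨b, h1, h2⟩ := Equiv.Perm.exists_fixed_point_of_prime' d (e hf) ha
  exact h2 (hu b h1)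

theorem cm_mul {x y f : G} (hx : x ∈ CC E) (hy : ⁅y, f⁆ ∈ E) : ⁅x * y, f⁆ = ⁅y, f⁆ * ⁅x, f⁆ := by
  rw [← conj_eq_of_comm (comm_of_CC hx hy).symm]
  simp only [commutatorElement_def]; group

theorem cm_inv {x f : G} (hx : x ∈ CC E) (hy : ⁅x, f⁆ ∈ E) : ⁅x⁻¹, f⁆ = ⁅x, f⁆⁻¹ := by
  rw [eq_inv_iff_mul_eq_one, mul_eq_one_comm, ← cm_mul (inv_mem hx) hy, inv_mul_cancel, commutatorElement_one_left]

/-- The elements acting trivially on `E` and on `E F / E`. -/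
def N0 (E F : Subgroup G) : Subgroup G where
  carrier := {x | x ∈ CC E ∧ ∀ f ∈ F, ⁅x, f⁆ ∈ E}
  one_mem' := ⟨one_mem _, fun f _ => by simp⟩
  mul_mem' := fun ha hb => ⟨mul_mem ha.1 hb.1, fun f hf => by
    rw [cm_mul ha.1 (hb.2 f hf)]; exact mul_mem (hb.2 f hf) (ha.2 f hf)⟩
  inv_mem' := fun ha => ⟨inv_mem ha.1, fun f hf => by rw [cm_inv ha.1 (ha.2 f hf)]; exact inv_mem (ha.2 f hf)⟩

end N2b

open N2b

/-- Simultaneous choice of commuting points. -/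
theorem N2.exists_pts (h : N2 𝒦) (hK : K ∈ 𝒦) {X : Subgroup G} (hX : IsPGroup 2 X) {d : G}
    (hd : d ∈ K) (h2 : orderOf d = 2) (hc : ∀ x ∈ X, Commute d (x * d * x⁻¹)) :
    ∃ U, Pn K U ∧ d ∈ U ∧ (∀ x ∈ X, U ≤ CC (U ^ᶜ x)) ∧ ∀ x ∈ X, x ∈ NN K → x ∈ NN U := by
  have ti := h.toFm.toTI
  have d2 := mul_self_of_two h2
  have d1 : d ≠ 1 := fun e => by rw [e, orderOf_one] at h2; omega
  let D : Subgroup G := ⨆ x : X, zpowers ((x : G) * d * (x : G)⁻¹)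
  have mD : ∀ x ∈ X, x * d * x⁻¹ ∈ D := fun x hx => mem_iSup_of_mem (⟨x, hx⟩ : X) (mem_zpowers _)
  have dD : d ∈ D := by simpa using mD 1 (one_mem _)
  have cD : ∀ g, g ∈ CC D ↔ ∀ x ∈ X, Commute (x * d * x⁻¹) g := fun g =>
    ⟨fun k x hx => comm_of_CC k (mD x hx), fun k => le_centralizer_singleton_iff.1
      (iSup_le fun x => zpowers_le.2 (mem_centralizer_singleton_iff.2 (k x x.2).eq))⟩
  have DC : D ≤ CC D := iSup_le fun y => zpowers_le.2 ((cD _).2 fun x hx => by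
    have := comm_conj x (hc _ (mul_mem (inv_mem hx) y.2))
    rwa [show x * (x⁻¹ * y * d * (x⁻¹ * y)⁻¹) * x⁻¹ = y * d * (y : G)⁻¹ by group] at this)
  have eD : El D := fun g hg => by
    refine iSup_induction' _ (C := fun g _ => g * g = 1) (fun x y hy => ?_) (mul_one 1) (fun a b ha hb k k' => ?_) hg
    · obtain ⟨n, rfl⟩ := mem_zpowers_iff.1 hy
      rw [← (Commute.refl _).mul_zpow, sq_conj d2, one_zpow]
    · rw [(comm_of_CC (DC ha) hb).mul_mul_mul_comm, k, k', one_mul]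
  have XD : X ≤ NN D := fun y hy => mem_normalizer_of_map_conj_le (map_le_iff_le_comap.2 (iSup_le fun x =>
    zpowers_le.2 (by
      have := mD _ (mul_mem hy x.2)
      rwa [show y * x * d * (y * x)⁻¹ = y * (x * d * (x : G)⁻¹) * y⁻¹ by group] at this)))
  have CK : ∀ x ∈ X, CC D ≤ NN (K ^ᶜ x) := fun x hx g hg => ti.mem_NN (ti.conj K hK x) (conj_mem_map_conj.2 hd)
    (.of_sq (sq_conj d2 x)) (fun e => d1 (conj_eq_one_iff.1 e)) ((cD g).1 hg x hx).symm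
  have CK1 : CC D ≤ NN K := by simpa only [map_conj_one] using CK 1 (one_mem _)
  obtain ⟨R, hR, dR, DR⟩ := exists_inv_syl eD.two (DC.trans CK1) (Two.of_sq d2).isPGroup (zpowers_le.2 hd)
    ((le_centralizer_singleton_iff.2 (DC dD)).trans (centralizer_zpowers d ▸ CC_le_NN _))
  obtain ⟨E0, o⟩ := h.exists_om hK hR
  have EC : E0 ≤ CC D := fun e he => (cD e).2 fun x hx => by
    refine (comm_of_CC ?_ he).symm
    by_cases k : K = K ^ᶜ x
    · have k1 : x * d * x⁻¹ ∈ K := k ▸ conj_mem_map_conj.2 hd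
      exact centralizer_anti o.le (h.cen K hK R hR _ (hR.mem_of_mem (two_sup hR.two (Two.of_sq (sq_conj d2 x)).isPGroup
        (zpowers_le.2 (DR (mD x hx)))) le_sup_left k1 (mem_sup_right (mem_zpowers _))) (sq_conj d2 x))
    · exact h.cC hK (ti.conj K hK x) k ⟨R, hR, o⟩ (conj_mem_map_conj.2 hd) (sq_conj d2 x) (o.nn (DR (mD x hx)))
  obtain ⟨P, hP, -, XP⟩ := exists_inv_syl hX (XD.trans (normalizer_le_normalizer_set_centralizer _)) eD.two DC XD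
  obtain ⟨c, hc', cP⟩ := (hP.inf (N := K ⊓ CC D) inf_le_right fun g hg => nn_inf (CK1 hg) (le_normalizer hg)).exists_conj
    o.el.two (le_inf (o.le.trans hR.le) EC)
  have p : Pn K (E0 ^ᶜ c) := by
    have := Pn.conj ⟨R, hR, o⟩ c
    rwa [map_conj_eq_of_mem hc'.1] at this
  have UP : E0 ^ᶜ c ≤ P := map_conj_le_iff_forall.2 fun t ht => (cP t ht).1
  have dU : d ∈ E0 ^ᶜ c := by
    rw [← conj_eq_of_comm (comm_of_CC hc'.2 dD).symm]
    exact conj_mem_map_conj.2 ((o d).2 ⟨dR (mem_zpowers d), d2⟩)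
  generalize E0 ^ᶜ c = U at p UP dU
  have key : ∀ x ∈ X, U ≤ CC (U ^ᶜ x) := fun x hx a ha => mem_CC.2 fun b hb => by
    have bP := map_conj_le_of_mem_normalizer UP (XP hx) hb
    have bK : b ∈ K ^ᶜ x := map_mono (pn_le p) hb
    by_cases k : K = K ^ᶜ x
    · obtain ⟨Q, k1, k2⟩ := exists_syl_ge (K := K) (hP.two.to_inf_left (K := K)) inf_le_right
      exact comm_of_CC (h.cen K hK Q k2 a (k1 ⟨UP ha, pn_le p ha⟩) (pn_el p a ha)) (k1 ⟨bP, k ▸ bK⟩)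
    · refine commutatorElement_eq_one_iff_commute.1 (ti.eq_one hK (ti.conj K hK x) k ?_ ?_
        (.of_mem hP.two (mul_mem (mul_mem (mul_mem bP (UP ha)) (inv_mem bP)) (inv_mem (UP ha)))))
      · exact mul_mem (conj_mem_of_mem_normalizer (CK1 (hP.le bP)) (pn_le p ha)) (inv_mem (pn_le p ha))
      · have := mul_mem bK (conj_mem_of_mem_normalizer (CK x hx (hP.le (UP ha))) (inv_mem bK))
        simpa only [commutatorElement_def, mul_assoc] using this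
  refine ⟨U, p, dU, key, fun x hx hn => mem_normalizer_of_map_conj_le fun b hb => ?_⟩
  exact h.mem_of_comm hK p (map_conj_le_of_mem_normalizer (pn_le p) hn hb) (pn_el (p.conj x) b hb)
    (le_centralizer_iff.1 (key x hx) hb)

/-- An involution swapping two points of a line fixes a third point. -/
theorem N2.swap (h : N2 𝒦) (hK : K ∈ 𝒦) (p : Pn K E) {u : G} (h2 : u * u = 1)
    (hne : K ≠ K ^ᶜ u) (hc : ¬ HC K (K ^ᶜ u)) (hE : E ≤ CC (E ^ᶜ u)) :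
    ∃ L ∈ 𝒦, ∃ F, Pn L F ∧ L ≠ K ∧ L ≠ K ^ᶜ u ∧ ¬ HC K L ∧ F ≤ E ⊔ E ^ᶜ u ∧ u ∈ NN F ∧
      (u ∈ CC F → ∀ x, x ∈ F ↔ ∃ y ∈ E, x = y * (u * y * u⁻¹)) := by
  have ti := h.toFm.toTI
  have hK' := ti.conj K hK u
  have p' := p.conj u
  have uu : ∀ A : Subgroup G, (A ^ᶜ u) ^ᶜ u = A := fun A => by rw [map_conj_map_conj, h2, map_conj_one]
  have nE : E ^ᶜ u ≤ NN E := (le_centralizer_iff.1 hE).trans (CC_le_NN E)
  have eW := el_sup (pn_el p) (pn_el p') hE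
  have q4 := h.four_le hK p
  have one : ∀ x ∈ K, x ∈ E ^ᶜ u → x = 1 := fun x k k' => ti.eq_one hK hK' hne k (pn_le p' k') (.of_sq (pn_el p' x k'))
  obtain ⟨S, hS, o, nS⟩ := h.exists_syl hK p (pn_el p').two nE
  obtain ⟨r, -, SE⟩ := h.rt hK hK' hne hc hS o p' nS
  obtain ⟨ρ, ρS, ρE⟩ := SetLike.exists_of_lt (lt_of_le_of_ne o.le SE.symm)
  have ρ2 := r.sq_mem (pn_el p) (fun e => by
    obtain ⟨x, k, k1⟩ := exists_ne q4
    exact k1 (conj_eq_one_iff.1 (mem_bot.1 (e ▸ conj_mem_map_conj.2 k)))) ρS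
  have uW : u ∈ NN (E ⊔ E ^ᶜ u) := map_conj_eq_self_iff.1 (by rw [map_conj_sup, uu, sup_comm])
  have WS : E ⊔ E ^ᶜ u ≤ NN S := sup_le (o.le.trans le_normalizer) nS
  have WK : (E ⊔ E ^ᶜ u) ⊓ K = E := le_antisymm (fun x hx => by
    obtain ⟨a, ha, b, hb, rfl⟩ := exists_mul_of_mem_sup nE hx.1
    rw [one b ((mul_mem_cancel_left (pn_le p ha)).1 hx.2) hb, mul_one]
    exact ha) (le_inf le_sup_left (pn_le p))
  have cen := fun w => r.cen_iff ρS ρE (w := w)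
  have ρW := r.mem_NN ρS
  have EW : E ≤ E ⊔ E ^ᶜ u := le_sup_left
  have dec := fun g => exists_mul_of_mem_sup nE (g := g)
  generalize E ⊔ E ^ᶜ u = W at *
  let Ω := {L : Subgroup G // L ∈ 𝒦 ∧ Nat.card ↥(W ⊓ L) = Nat.card E}
  let act : ∀ g ∈ NN W, Ω → Ω := fun g hg L => ⟨L.1 ^ᶜ g, ti.conj _ L.2.1 g, by
    have := card_map_conj (W ⊓ L.1) g
    rw [map_conj_inf, map_conj_eq_of_mem_norm hg] at this
    exact this.trans L.2.2⟩
  have inv : ∀ L : Ω, ∃ y ∈ W ⊓ L.1, orderOf y = 2 := fun L => by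
    obtain ⟨y, k, k1⟩ := exists_ne (q4.trans L.2.2.ge)
    exact ⟨y, k, orderOf_eq_prime (by rw [sq, eW y k.1]) k1⟩
  have toK : ∀ L : Ω, ∀ y ∈ W ⊓ L.1, orderOf y = 2 → Commute y ρ → L.1 = K := fun L y k k2 c =>
    ti.ti _ L.2.1 _ hK y k.2 (pn_le p ((cen y k.1).1 c)) k2
  obtain ⟨⟨L, hL, cL⟩, fx⟩ := fix_of_unique (f := act ρ ρW) (g := act u uW) (a := ⟨K, hK, by rw [WK]⟩)
    (fun L => Subtype.ext (by
      obtain ⟨y, k, k2⟩ := inv L
      exact (map_conj_map_conj _ _ _).trans (map_conj_eq_of_mem_norm (ti.mem_NN L.2.1 k.2 (.of_two k2)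
        (fun e => by rw [e, orderOf_one] at k2; omega) (eW.ab _ (EW ρ2) _ k.1)))))
    (fun L => Subtype.ext (uu _)) (Subtype.ext (map_conj_eq_of_mem (hS.le ρS))) fun L e => Subtype.ext (by
      obtain ⟨y, k, k2⟩ := inv L
      obtain ⟨z, k3, k4, c⟩ := exists_inv_fixed_elt (.of_mem hS.two ρS) (nn_inf ρW
        (map_conj_eq_self_iff.1 (congrArg Subtype.val e))) k k2
      exact toK L z k3 k4 c.symm)
  have fL : L ^ᶜ u = L := congrArg Subtype.val fx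
  have n1 : L ≠ K := fun e => hne (by rw [← e, fL])
  refine ⟨L, hL, W ⊓ L, h.pn_of_card hK hL p inf_le_right (eW.mono inf_le_left) cL.ge, n1,
    fun e => n1 (by rw [← fL, e, uu]), fun k => ?_, inf_le_left,
    map_conj_eq_self_iff.1 (by rw [map_conj_inf, fL, map_conj_eq_of_mem_norm uW]), fun k => ?_⟩
  · obtain ⟨y, k1, k2⟩ := inv ⟨L, hL, cL⟩
    exact n1 (toK ⟨L, hL, cL⟩ y k1 k2 (comm_of_CC (ti.mem_CC_of_hc hK hL k hS.two hS.le k1.2 (WS k1.1)) ρS).symm)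
  · have cm : ∀ a ∈ E, ∀ b ∈ E, Commute (u * a * u⁻¹) b := fun a ha b hb =>
      comm_of_CC (hE hb) (conj_mem_map_conj.2 ha)
    let φ : E →* G := MonoidHom.mk' (fun y => y * (u * y * u⁻¹)) fun a b => by
      rw [coe_mul, (cm a a.2 b b.2).mul_mul_mul_comm, conj_mul]
    have le : W ⊓ L ≤ φ.range := fun x hx => by
      obtain ⟨a, ha, _, ⟨b, hb, rfl⟩, rfl⟩ := dec x hx.1
      have e := conj_eq_of_comm (comm_of_CC k hx).symm
      simp only [MulEquiv.coe_toMonoidHom, MulAut.conj_apply] at e ⊢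
      rw [← conj_mul, show u * (u * b * u⁻¹) * u⁻¹ = u * u * b * (u * u)⁻¹ by group, h2, one_mul, inv_one, mul_one,
        (cm a ha b hb).eq] at e
      have e2 : a⁻¹ * b = u * (b * a⁻¹) * u⁻¹ := by
        calc a⁻¹ * b = a⁻¹ * (b * (u * a * u⁻¹)) * (u * a * u⁻¹)⁻¹ := by group
          _ = _ := by rw [e]; group
      have e3 := one _ (pn_le p (mul_mem (inv_mem ha) hb)) (e2 ▸ conj_mem_map_conj.2 (mul_mem hb (inv_mem ha)))
      exact ⟨⟨a, ha⟩, by rw [← inv_mul_eq_one.1 e3]; rfl⟩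
    rw [eq_of_le_of_card_ge le (cL ▸ Nat.le_of_dvd Nat.card_pos (card_range_dvd φ))]
    exact fun x => ⟨fun ⟨y, e⟩ => ⟨y, y.2, e.symm⟩, fun ⟨y, hy, e⟩ => ⟨⟨y, hy⟩, e.symm⟩⟩

/-- An element acting on a line like a root element is induced by a root element. -/
theorem N2.jbar (h : N2 𝒦) (hK : K ∈ 𝒦) (hL : L ∈ 𝒦) (hne : K ≠ L) (hc : ¬ HC K L) (hS : Syl S K)
    (o : Om E S) (q : Pn L F) (hn : F ≤ NN S) {j : G} (hj : j ∈ CC E) (cj : ∀ f ∈ F, ⁅j, f⁆ ∈ E)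
    (nj : ∀ f ∈ F, Commute j f → f = 1) : ∃ r ∈ S, r ∉ E ∧ r⁻¹ * j ∈ CC (E ⊔ F) := by
  have ti := h.toFm.toTI
  have p : Pn K E := ⟨S, hS, o⟩
  obtain ⟨r, -, -⟩ := h.rt hK hL hne hc hS o q hn
  have eW := el_sup o.el (pn_el q) r.EF
  have nE : E ≠ ⊥ := fun e => by
    obtain ⟨x, k, k1⟩ := exists_ne (h.four_le hK p)
    exact k1 (mem_bot.1 (e ▸ k))
  have mC : ∀ {g}, g ∈ CC (E ⊔ F) ↔ g ∈ CC E ∧ g ∈ CC F := fun {g} => by rw [CC, centralizer_sup, mem_inf]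
  have dec := fun g => exists_mul_of_mem_sup ((le_centralizer_iff.1 r.EF).trans (CC_le_NN E)) (g := g)
  obtain ⟨S1, hS1, o1, n1⟩ := h.exists_syl hL q o.el.two (r.EF.trans (CC_le_NN F))
  obtain ⟨r1, -, SF⟩ := h.rt hL hK hne.symm (fun k => hc k.symm) hS1 o1 p n1
  obtain ⟨ρ, ρS, ρF⟩ := SetLike.exists_of_lt (lt_of_le_of_ne o1.le SF.symm)
  obtain ⟨g, -, -, -, -, gL, -, k⟩ := ti.root hK hL hne (pn_le p) (pn_le q) o.el (pn_el q) r.EF nE
    (h.card_eq hK hL p q) (j := j) (ρ := ρ)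
    (mem_normalizer_iff_of_finite.2 fun w hw => by
      obtain ⟨a, ha, b, hb, rfl⟩ := dec w hw
      rw [← conj_mul, conj_eq_of_comm (comm_of_CC hj ha).symm,
        show j * b * j⁻¹ = ⁅j, b⁆ * b by rw [commutatorElement_def, inv_mul_cancel_right]]
      exact mul_mem (mem_sup_left ha) (mul_mem (mem_sup_left (cj b hb)) (mem_sup_right hb)))
    (sup_comm F E ▸ r1.mem_NN ρS)
    (mC.2 ⟨mul_mem hj hj, mem_CC.2 fun f hf => (commutatorElement_eq_one_iff_commute.1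
      (by rw [cm_mul hj (cj f hf), o.el _ (cj f hf)])).symm⟩)
    (eW.ab.le_CC (mem_sup_right (r1.sq_mem (pn_el q) nE ρS)))
    (fun w hw => ⟨fun c => by
      obtain ⟨a, ha, b, hb, rfl⟩ := dec w hw
      have := (comm_of_CC hj ha).inv_left.mul_left c
      rw [inv_mul_cancel_left] at this
      rwa [nj b hb this.symm, mul_one], fun k => comm_of_CC hj k⟩)
    fun w hw => r1.cen_iff ρS ρF (sup_comm E F ▸ hw)
  obtain ⟨k1, k2⟩ := mC.1 k
  have e1 : ∀ f ∈ F, ⁅g * ρ * g⁻¹, f⁆ = ⁅j, f⁆ := fun f hf => by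
    rw [← inv_mul_cancel_right (g * ρ * g⁻¹) j, cm_mul k1 (cj f hf),
      commutatorElement_eq_one_iff_commute.2 (comm_of_CC k2 hf).symm, mul_one]
  have m1 : g * ρ * g⁻¹ ∈ K ⊓ N0 E F := ⟨gL ▸ conj_mem_map_conj.2 (hS1.le ρS),
    (mul_mem_cancel_right (inv_mem hj)).1 k1, fun f hf => e1 f hf ▸ cj f hf⟩
  have SN : S ≤ N0 E F := fun z hz => ⟨le_centralizer_iff.1 r.cen hz, r.com z hz⟩
  obtain ⟨n, hn', m2⟩ := (hS.of_le (le_inf hS.le SN) inf_le_left).exists_conj_elt ((Two.of_mem hS1.two ρS).conj g) m1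
  generalize g * ρ * g⁻¹ = σ at *
  have e2 : ∀ f ∈ F, ⁅n * σ * n⁻¹, f⁆ = ⁅j, f⁆ := fun f hf => by
    rw [cm_mul (mul_mem hn'.2.1 m1.2.1) ((inv_mem (mem_inf.1 hn').2).2 f hf), cm_mul hn'.2.1 (m1.2.2 f hf),
      cm_inv hn'.2.1 (hn'.2.2 f hf), e1 f hf, (o.el.ab _ (cj f hf) _ (hn'.2.2 f hf)).eq, inv_mul_cancel_left]
  refine ⟨_, m2, fun k => ?_, mC.2 ⟨mul_mem (inv_mem (SN m2).1) hj, mem_CC.2 fun f hf =>
    (commutatorElement_eq_one_iff_commute.1 ?_).symm⟩⟩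
  · obtain ⟨f, hf, f1⟩ := exists_ne (h.four_le hL q)
    exact f1 (nj f hf (commutatorElement_eq_one_iff_commute.1 ((e2 f hf).symm.trans
      (commutatorElement_eq_one_iff_commute.2 (comm_of_CC (r.EF k) hf).symm))))
  · rw [cm_mul (inv_mem (SN m2).1) (cj f hf), cm_inv (SN m2).1 ((SN m2).2 f hf), e2 f hf, mul_inv_cancel]

end Cfsg.Agent.CT8
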