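import Mathlib
import Cfsg.Agent.CT8.N2b
import Cfsg.Agent.CT8.FR

/-! S1308, piece L3L: the `L₃`-configuration in the world `N2`. -/

set_option autoImplicit false
set_option linter.unusedSectionVars false
set_option linter.unusedVariables false

namespace Cfsg.Agent.CT8

open Subgroup Cfsg.Agent.GT Cfsg.Agent.Inv Cfsg.Agent.Cmp
open scoped commutatorElement

variable {G : Type*} [Group G] [Finite G] {𝒦 : Set (Subgroup G)}

namespace L3L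

variable {K L K1 K2 E U V : Subgroup G} {d e : G}

theorem sq_cj {x : G} (h : x * x = 1) (g : G) : g * x * g⁻¹ * (g * x * g⁻¹) = 1 :=
  (conj_sq_iff g x).2 h

theorem comm_symm (hd : d * d = 1) (he : e * e = 1) (h : Commute d (e * d * e⁻¹)) :
    Commute e (d * e * d⁻¹) := by
  rw [commute_iff_mul_sq hd (sq_cj hd e)] at h
  rw [commute_iff_mul_sq he (sq_cj he d)]
  rw [inv_of_mul_self he] at h
  rw [inv_of_mul_self hd]
  calc e * (d * e * d) * (e * (d * e * d))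
      = d⁻¹ * (d * (e * d * e) * (d * (e * d * e))) * d := by group
    _ = 1 := by rw [h]; group

theorem forall_zp {u : G} (hu : u * u = 1) {P : G → Prop} (h1 : P 1) (h2 : P u) :
    ∀ x ∈ zpowers u, P x := by
  rintro _ ⟨n, rfl⟩
  have h3 : u ^ (2 : ℤ) = 1 := by rw [zpow_two, hu]
  rcases Int.even_or_odd' n with ⟨k, rfl | rfl⟩
  · show P (u ^ (2 * k))
    rwa [zpow_mul, h3, one_zpow]
  · show P (u ^ (2 * k + 1))
    rwa [zpow_add, zpow_mul, h3, one_zpow, one_mul, zpow_one]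

theorem cC' (h : N2 𝒦) (hK : K ∈ 𝒦) (hL : L ∈ 𝒦) (p : Pn K E) (hd : d ∈ L) (h2 : d * d = 1)
    (hn : d ∈ NN E) : d ∈ CC E := by
  rcases eq_or_ne K L with rfl | hne
  · obtain ⟨S, hS, o, hX⟩ := h.exists_syl hK p (Two.of_sq h2).isPGroup (zpowers_le.2 hn)
    have h1 : d ∈ S := hS.mem_of_mem (two_sup hS.two (Two.of_sq h2).isPGroup hX) le_sup_left hd
      (mem_sup_right (mem_zpowers d))
    exact mem_CC.2 fun k hk => comm_of_CC (h.cen K hK S hS d h1 h2) (o.le hk)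
  · exact h.cC hK hL hne p hd h2 hn

theorem pts (h : N2 𝒦) (hK : K ∈ 𝒦) (hd : d ∈ K) (h2 : d * d = 1) (h1 : d ≠ 1) (he : e * e = 1)
    (hc : Commute d (e * d * e⁻¹)) :
    ∃ U, Pn K U ∧ d ∈ U ∧ U ≤ CC (U ^ᶜ e) ∧ (e ∈ NN K → e ∈ NN U) := by
  obtain ⟨U, p, hU, a, b⟩ := h.exists_pts hK (Two.of_sq he).isPGroup hd (orderOf_two_of h2 h1)
    (forall_zp he (P := fun x => Commute d (x * d * x⁻¹)) (by simp) hc)
  exact ⟨U, p, hU, a e (mem_zpowers e), b e (mem_zpowers e)⟩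

theorem lemA (h : N2 𝒦) (hK : K ∈ 𝒦) (hL : L ∈ 𝒦) (hd : d ∈ K) (h2 : d * d = 1) (he : e ∈ L)
    (e2 : e * e = 1) (hc : Commute d (e * d * e⁻¹)) (hn : e ∈ NN K) : Commute d e := by
  rcases eq_or_ne d 1 with rfl | h1
  · exact Commute.one_left e
  obtain ⟨U, p, hU, -, b⟩ := pts h hK hd h2 h1 e2 hc
  exact comm_of_CC (cC' h hK hL p he e2 (b hn)) hU

theorem step1 (h : N2 𝒦) (f : ¬ F2 𝒦) : ∃ K1 ∈ 𝒦, ∃ K2 ∈ 𝒦, ∃ d ∈ K1, ∃ e ∈ K2, d * d = 1 ∧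
    e * e = 1 ∧ ¬ Commute d e ∧ Commute d (e * d * e⁻¹) := by
  by_contra hcon
  apply f
  have key : ∀ n : ℕ, ∀ K ∈ 𝒦, ∀ L ∈ 𝒦, ∀ d ∈ K, ∀ e ∈ L, d * d = 1 → e * e = 1 →
      Two (d * e) → orderOf (d * e) = n → Commute d e := by
    intro n
    induction n using Nat.strong_induction_on with
    | _ n ih =>
      intro K hK L hL d hd e he d2 e2 ht hn
      by_contra hnc
      refine hcon ⟨K, hK, L, hL, d, hd, e, he, d2, e2, hnc, ?_⟩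
      have e1 : d * (e * d * e⁻¹) = (d * e) ^ 2 := by rw [inv_of_mul_self e2, sq]; group
      have h1 : d * e ≠ 1 := fun h1 => hnc ((commute_iff_mul_sq d2 e2).2 (by rw [h1, one_mul]))
      obtain ⟨m, hm⟩ := ht.exists_inv h1
      have h2 : 2 ∣ orderOf (d * e) := hm ▸ orderOf_pow_dvd m
      refine ih (orderOf ((d * e) ^ 2)) ?_ K hK (K ^ᶜ e) (h.conj K hK e) d hd _
        (GT.conj_mem_map_conj.2 hd) d2 (sq_cj d2 e) (e1 ▸ ht.pow 2) (by rw [e1])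
      rw [orderOf_pow_of_dvd two_ne_zero h2, ← hn]
      exact Nat.div_lt_self (orderOf_pos _) one_lt_two
  intro K hK L hL d hd e he d2 e2 Q hQ hdQ heQ
  exact key _ K hK L hL d hd e he d2 e2 (Two.of_mem hQ (mul_mem hdQ heQ)) rfl

theorem step2 (h : N2 𝒦) (f : ¬ F2 𝒦) : ∃ K1 ∈ 𝒦, ∃ K2 ∈ 𝒦, ∃ d ∈ K1, ∃ e ∈ K2, d * d = 1 ∧
    e * e = 1 ∧ d ≠ 1 ∧ Commute d (e * d * e⁻¹) ∧ e ∉ NN K1 ∧ ¬ HC K1 (K1 ^ᶜ e) := by
  obtain ⟨K1, h1, K2, h2, d, hd, e, he, d2, e2, nc, hc⟩ := step1 h f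
  have hc' := comm_symm d2 e2 hc
  have d1 : d ≠ 1 := fun e1 => nc (e1 ▸ Commute.one_left e)
  have e1 : e ≠ 1 := fun e1 => nc (e1 ▸ Commute.one_right d)
  have dn : d ∉ NN K2 := fun hn => nc (lemA h h2 h1 he e2 hd d2 hc' hn).symm
  obtain ⟨V, p, hV, a, -⟩ := pts h h2 he e2 e1 d2 hc'
  have eV := N2a.pn_el p
  have k1 : ∀ v ∈ V, Commute d (v * d * v⁻¹) := fun v hv =>
    comm_symm (eV v hv) d2 (comm_of_CC (a hv) (GT.conj_mem_map_conj.2 hv)).symm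
  have k2 : ∀ v ∈ V, v ≠ 1 → v ∉ NN K1 := fun v hv v1 hn =>
    dn (h.mem_NN h2 (N2a.pn_le p hv) (Two.of_sq (eV v hv)) v1
      (lemA h h1 h2 hd d2 (N2a.pn_le p hv) (eV v hv) (k1 v hv) hn))
  by_contra hcon
  have k3 : ∀ v ∈ V, v ≠ 1 → HC K1 (K1 ^ᶜ v) := fun v hv v1 => by
    by_contra hn
    exact hcon ⟨K1, h1, K2, h2, d, hd, v, N2a.pn_le p hv, d2, eV v hv, d1, k1 v hv, k2 v hv v1, hn⟩
  obtain ⟨x, hx, y, hy, x2, y2, xy, c⟩ := four_of_el eV (h.four_le h2 p)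
  exact four_reg h.toFm h.fh h2 h1 (h.bg h1) (N2a.pn_le p hx) (N2a.pn_le p hy) (eV x hx) (eV y hy) c
    (k3 x hx (ne_one_of_two x2)) (k3 y hy (ne_one_of_two y2))
    (k3 _ (mul_mem hx hy) (ne_one_of_two (orderOf_mul_two_of_commute x2 y2 xy c)))

theorem sup_le_CC (eU : El U) (a : U ≤ CC (U ^ᶜ e)) : U ⊔ U ^ᶜ e ≤ CC U :=
  sup_le eU.ab.le_CC fun x hx => mem_CC.2 fun k hk => (comm_of_CC (a hk) hx).symm

theorem cm_eq {u v : G} (hv : v * v = 1) (c : Commute v (u * v * u⁻¹)) :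
    ⁅u, v⁆ = v * (u * v * u⁻¹) := by
  rw [c.eq, commutatorElement_def, inv_of_mul_self hv]

theorem zp_le_NN {x y : G} (h : Commute x y) : x ∈ NN (zpowers y) :=
  CC_le_NN _ (mem_CC.2 fun k hk => by
    obtain ⟨n, rfl⟩ := hk
    exact (h.symm.zpow_left n))

/-- Step 4. -/
theorem step4 (h : N2 𝒦) (h1 : K1 ∈ 𝒦) (h2 : K2 ∈ 𝒦) (hK : K ∈ 𝒦) (p : Pn K1 U) (q : Pn K E)
    (he : e ∈ K2) (e2 : e * e = 1) (en : e ∉ NN K1) (n1 : K1 ≠ K) (c1 : ¬ HC K1 K)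
    (EU : E ≤ CC U) (eE : e ∈ CC E) (cj : ∀ f ∈ U, ⁅e, f⁆ ∈ E) : ¬ HC K2 K := fun hc => by
  have eU := N2a.pn_el p
  have elE := N2a.pn_el q
  have UE : U ≤ CC E := fun x hx => mem_CC.2 fun k hk => (comm_of_CC (EU hk) hx).symm
  have t1 : IsPGroup 2 ↥(U ⊔ E) := two_sup eU.two elE.two (EU.trans (CC_le_NN U))
  have n2 : e ∈ NN (U ⊔ E) := by
    refine GT.mem_normalizer_of_map_conj_le ?_
    rw [GT.map_conj_sup]
    refine sup_le (GT.map_conj_le_iff_forall.2 fun x hx => ?_)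
      (GT.map_conj_le_iff_forall.2 fun x hx => ?_)
    · have : e * x * e⁻¹ = ⁅e, x⁆ * x := by rw [commutatorElement_def]; group
      rw [this]
      exact mul_mem (mem_sup_right (cj x hx)) (mem_sup_left hx)
    · rw [conj_eq_of_comm (comm_of_CC eE hx).symm]
      exact mem_sup_right hx
  obtain ⟨S, hS, o, hX⟩ := h.exists_syl hK q
    (two_sup t1 (Two.of_sq e2).isPGroup (zpowers_le.2 n2))
    ((sup_le (sup_le UE elE.ab.le_CC) (zpowers_le.2 eE)).trans (CC_le_NN E))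
  have US : U ≤ NN S := le_sup_left.trans (le_sup_left.trans hX)
  have c1' : ¬ HC K K1 := fun x => c1 x.symm
  obtain ⟨r, hr, rE, hy⟩ := h.jbar hK h1 n1.symm c1' hS o p US eE cj fun f hf c => by
    by_contra f1
    exact en (h.mem_NN h1 (N2a.pn_le p hf) (Two.of_sq (eU f hf)) f1 c)
  have eS : e ∈ CC S := h.mem_CC_of_hc hK h2 hc.symm hS.two hS.le he
    (hX (mem_sup_right (mem_zpowers e)))
  have r2 : r * r ∈ E := (h.rt hK h1 n1.symm c1' hS o p US).1.sq_mem elE (N2a.ne_bot h h1 p) hr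
  have y2 : r⁻¹ * e * (r⁻¹ * e) = (r * r)⁻¹ := by
    have c := (comm_of_CC eS (inv_mem hr)).eq
    calc r⁻¹ * e * (r⁻¹ * e) = r⁻¹ * (e * r⁻¹) * e := by group
      _ = r⁻¹ * r⁻¹ * (e * e) := by rw [← c]; group
      _ = (r * r)⁻¹ := by rw [e2]; group
  have yE : r⁻¹ * e * (r⁻¹ * e) ∈ E := y2 ▸ inv_mem r2
  have ty : Two (r⁻¹ * e) := ⟨2, by
    have := elE _ yE
    rw [← this]; norm_num [pow_succ, mul_assoc]⟩
  have yCE : r⁻¹ * e ∈ CC E := mem_CC.2 fun k hk => comm_of_CC hy (mem_sup_left hk)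
  have yCU : r⁻¹ * e ∈ CC U := mem_CC.2 fun k hk => comm_of_CC hy (mem_sup_right hk)
  obtain ⟨S1, hS1, o1, hX1⟩ := h.exists_syl h1 p
    (two_sup elE.two ty.isPGroup (zpowers_le.2 (CC_le_NN E yCE)))
    ((sup_le EU (zpowers_le.2 yCU)).trans (CC_le_NN U))
  obtain ⟨rt, -, ne⟩ := h.rt h1 hK n1 c1 hS1 o1 q (le_sup_left.trans hX1)
  have hd : U ⊓ E = ⊥ := eq_bot_iff.2 fun x hx => mem_bot.2
    (h.eq_one h1 hK n1 (N2a.pn_le p hx.1) (N2a.pn_le q hx.2) (Two.of_sq (eU x hx.1)))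
  have := rt.ysq eU (N2a.ne_bot h hK q) ne hd (by rwa [sup_comm])
    (hX1 (mem_sup_right (mem_zpowers _))) yE
  rw [y2, inv_eq_one] at this
  exact rE ((o r).2 ⟨hr, this⟩)

end L3L

open L3L

theorem N2.exists_l3 (h : N2 𝒦) (f : ¬ F2 𝒦) :
    ∃ K1 ∈ 𝒦, ∃ K2 ∈ 𝒦, ∃ K ∈ 𝒦, ∃ U V E : Subgroup G, L3 K1 K2 K U V E ∧ Pn K1 U ∧ Pn K2 V ∧
      Pn K E := by
  obtain ⟨K1, h1, K2, h2, d, hd, e, he, d2, e2, d1, hc, en, c0⟩ := step2 h f
  have e1 : e ≠ 1 := fun e1 => en (e1 ▸ one_mem _)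
  obtain ⟨U, p, hU, a, -⟩ := pts h h1 hd d2 d1 e2 hc
  have eU := N2a.pn_el p
  have n0 : K1 ≠ K1 ^ᶜ e := fun x => en (GT.map_conj_eq_self_iff.1 x.symm)
  obtain ⟨K, hK, E, q, n1, -, c1, hE, eN, hf⟩ := h.swap h1 p e2 n0 c0 a
  have elE := N2a.pn_el q
  have eE : e ∈ CC E := cC' h hK h2 q he e2 eN
  have hf := hf eE
  have EU : E ≤ CC U := hE.trans (sup_le_CC eU a)
  have nj : ∀ u ∈ U, Commute e u → u = 1 := fun u hu c => by
    by_contra u1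
    exact en (h.mem_NN h1 (N2a.pn_le p hu) (Two.of_sq (eU u hu)) u1 c)
  have cu : ∀ u ∈ U, Commute u (e * u * e⁻¹) := fun u hu =>
    (comm_of_CC (a hu) (GT.conj_mem_map_conj.2 hu)).symm
  have cj : ∀ u ∈ U, ⁅e, u⁆ ∈ E := fun u hu => (hf _).2 ⟨u, hu, cm_eq (eU u hu) (cu u hu)⟩
  have n2 : K2 ≠ K := fun x => d1 (nj d hU (comm_of_CC (EU (h.mem_of_comm hK q (x ▸ he) e2 eE)) hU).symm)
  have c2 : ¬ HC K2 K := step4 h h1 h2 hK p q he e2 en n1.symm c1 EU eE cj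
  have t1 : IsPGroup 2 ↥(U ⊔ E) := two_sup eU.two elE.two (EU.trans (CC_le_NN U))
  have ce : ∀ u ∈ U, Commute e (u * e * u⁻¹) := fun u hu => comm_symm (eU u hu) e2 (cu u hu)
  obtain ⟨V, pv, hV, b1, b2⟩ := h.exists_pts h2 t1 he (orderOf_two_of e2 e1) fun x hx => by
    obtain ⟨u, hu, y, hy, rfl⟩ := exists_mul_of_mem_sup (EU.trans (CC_le_NN U)) hx
    have : u * y * e * (u * y)⁻¹ = u * (y * e * y⁻¹) * u⁻¹ := by group
    rw [this, conj_eq_of_comm (comm_of_CC eE hy)]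
    exact ce u hu
  have eV := N2a.pn_el pv
  have EV : E ≤ CC V := fun x hx => cC' h h2 hK pv (N2a.pn_le q hx) (elE x hx)
    (b2 x (mem_sup_right hx) (h.mem_NN h2 he (Two.of_sq e2) e1 (comm_of_CC eE hx)))
  have un : ∀ u ∈ U, u ≠ 1 → u ∉ NN K2 := fun u hu u1 hn => u1 (nj u hu
    (comm_of_CC (cC' h h2 h1 pv (N2a.pn_le p hu) (eU u hu) (b2 u (mem_sup_left hu) hn)) hV))
  refine ⟨K1, h1, K2, h2, K, hK, U, V, E, ⟨n1.symm, n2, c1, c2, N2a.pn_le p, N2a.pn_le pv,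
    N2a.pn_le q, EU, EV, fun u hu v hv => ?_, fun u hu v hv c => ?_⟩, p, pv, q⟩
  · rcases eq_or_ne u 1 with rfl | u1
    · simp
    have bu := b1 u (mem_sup_left hu)
    have m1 : u * e * u⁻¹ ∈ V ^ᶜ u := GT.conj_mem_map_conj.2 hV
    have ε1 : e * (u * e * u⁻¹) = ⁅e, u⁆ := by
      rw [commutatorElement_def, inv_of_mul_self e2]; group
    have εE : e * (u * e * u⁻¹) ∈ E := ε1 ▸ cj u hu
    have ε0 : e * (u * e * u⁻¹) ≠ 1 := fun x =>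
      u1 (nj u hu (commutatorElement_eq_one_iff_commute.1 (ε1 ▸ x)))
    have hK2u := h.conj K2 h2 u
    have c3 : ¬ HC K2 (K2 ^ᶜ u) := fun hc3 => by
      have m2 : u * e * u⁻¹ ∈ CC V := mem_CC.2 fun k hk => (comm_of_CC (bu hk) m1).symm
      obtain ⟨S, hS, o, hX⟩ := h.exists_syl h2 pv (Two.of_sq (sq_cj e2 u)).isPGroup
        (zpowers_le.2 (CC_le_NN V m2))
      have m3 : u * e * u⁻¹ ∈ CC S := h.mem_CC_of_hc h2 hK2u hc3 hS.two hS.le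
        (GT.conj_mem_map_conj.2 he) (hX (mem_zpowers _))
      exact c2 (h.hc_of_cen h2 hK n2 hS (N2a.pn_le q εE) (Two.of_sq (elE _ εE)) ε0
        (mul_mem (h.cen K2 h2 S hS e (o.le hV) e2) m3))
    obtain ⟨L, hL, F, pF, -, -, -, -, uN, hF⟩ := h.swap h2 pv (eU u hu)
      (fun x => un u hu u1 (GT.map_conj_eq_self_iff.1 x.symm)) c3 bu
    have hF := hF (cC' h hL h1 pF (N2a.pn_le p hu) (eU u hu) uN)
    have LK : L = K := h.eq_of_two hL hK (N2a.pn_le pF ((hF _).2 ⟨e, hV, rfl⟩)) (N2a.pn_le q εE)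
      (Two.of_sq (elE _ εE)) ε0
    have m4 : ⁅u, v⁆ ∈ F := (hF _).2 ⟨v, hv, cm_eq (eV v hv)
      (comm_of_CC (bu hv) (GT.conj_mem_map_conj.2 hv)).symm⟩
    refine h.mem_of_comm hK q (LK ▸ N2a.pn_le pF m4) (N2a.pn_el pF _ m4) (mem_CC.2 fun k hk => ?_)
    have a1 := (comm_of_CC (EU hk) hu).symm
    have a2 := (comm_of_CC (EV hk) hv).symm
    rw [commutatorElement_def]
    exact ((a1.mul_right a2).mul_right a1.inv_right).mul_right a2.inv_right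
  · by_contra hn
    rw [not_or] at hn
    exact un u hu hn.1 (h.mem_NN h2 (N2a.pn_le pv hv) (Two.of_sq (eV v hv)) hn.2 c)

end Cfsg.Agent.CT8
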