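import Mathlib
import Cfsg.Agent.CT8.ALG
import Cfsg.Agent.CT8.RT

/-! The structure of the `L₃`-configuration (S1308, piece L3S). -/

set_option autoImplicit false
set_option linter.unusedSectionVars false
set_option linter.unusedVariables false

namespace Cfsg.Agent.CT8

open Subgroup Cfsg.Agent.GT Cfsg.Agent.Inv Cfsg.Agent.Cmp
open scoped commutatorElement

variable {G : Type*} [Group G] [Finite G] {𝒦 : Set (Subgroup G)}

section Bil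

variable {E Z F : Subgroup G}

theorem L3S_left (r : Rt E Z F) {z z' f : G} (hz : z ∈ Z) (hz' : z' ∈ Z) (hf : f ∈ F) :
    ⁅z * z', f⁆ = ⁅z, f⁆ * ⁅z', f⁆ := by
  have h1 := (comm_of_CC (r.cen (r.com z' hz' f hf)) hz).eq
  have h2 := (comm_of_CC (r.cen (r.com z' hz' f hf)) (r.le (r.com z hz f hf))).eq
  calc ⁅z * z', f⁆ = (z * ⁅z', f⁆) * z⁻¹ * ⁅z, f⁆ := by simp only [commutatorElement_def]; group
    _ = ⁅z', f⁆ * ⁅z, f⁆ := by rw [h1]; group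
    _ = _ := h2.symm

theorem L3S_right (r : Rt E Z F) {z f f' : G} (hz : z ∈ Z) (hf : f ∈ F) (hf' : f' ∈ F) :
    ⁅z, f * f'⁆ = ⁅z, f⁆ * ⁅z, f'⁆ := by
  have h1 := (comm_of_CC (r.EF (r.com z hz f' hf')) hf).eq
  calc ⁅z, f * f'⁆ = ⁅z, f⁆ * ((f * ⁅z, f'⁆) * f⁻¹) := by simp only [commutatorElement_def]; group
    _ = _ := by rw [h1]; group

theorem L3S_one (r : Rt E Z F) {e f : G} (he : e ∈ E) (hf : f ∈ F) : ⁅e, f⁆ = 1 :=
  commutatorElement_eq_one_iff_commute.2 (comm_of_CC (r.EF he) hf).symm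

theorem L3S_inv (r : Rt E Z F) (eE : El E) {z f : G} (hz : z ∈ Z) (hf : f ∈ F) : ⁅z⁻¹, f⁆ = ⁅z, f⁆ := by
  have h1 := L3S_left r (inv_mem hz) hz hf
  rw [inv_mul_cancel, commutatorElement_one_left] at h1
  rw [eq_inv_of_mul_eq_one_left h1.symm]
  exact inv_eq_of_mul_eq_one_right (eE _ (r.com z hz f hf))

end Bil

variable {K1 K U V E R R1 : Subgroup G}

/-- The map `λ`. -/
theorem L3S_lam (eU : El U) (o : Om E R) (r : Rt E R U) (nV : V ≠ ⊥)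
    (EV : E ≤ CC V) (ns : ∀ u ∈ U, ∀ v ∈ V, Commute u v → u = 1 ∨ v = 1)
    (hu : ∀ x ∈ R, ∃ u ∈ U, x * u ∈ CC V ∧ (x ∉ E → x * u * (x * u) = 1)) :
    ∃ lam : G → G, (∀ x ∈ R, lam x ∈ U) ∧ (∀ x ∈ R, ∀ x' ∈ R, lam (x * x') = lam x * lam x') ∧
      (∀ e ∈ E, lam e = 1) ∧ ∀ x ∈ R, x * x = ⁅x, lam x⁆ := by
  choose! lam h1 h2 h3 using hu
  obtain ⟨⟨v, hv⟩, v1⟩ := ne_bot_iff_exists_ne_one.1 nV
  have v1' : v ≠ 1 := fun e => v1 (Subtype.ext e)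
  have uq : ∀ x ∈ R, ∀ u ∈ U, x * u ∈ CC V → lam x = u := fun x hx u hu h => by
    have h4 : u⁻¹ * lam x ∈ CC V := by
      have := mul_mem (inv_mem h) (h2 x hx)
      rwa [show (x * u)⁻¹ * (x * lam x) = u⁻¹ * lam x by group] at this
    exact (inv_mul_eq_one.1 ((ns _ (mul_mem (inv_mem hu) (h1 x hx)) v hv
      (comm_of_CC h4 hv).symm).resolve_right v1')).symm
  have hE : ∀ e ∈ E, lam e = 1 := fun e he => uq e (r.le he) 1 (one_mem _) (by rw [mul_one]; exact EV he)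
  refine ⟨lam, h1, fun x hx x' hx' => uq _ (mul_mem hx hx') _ (mul_mem (h1 x hx) (h1 x' hx')) ?_, hE,
    fun x hx => ?_⟩
  · have h4 := r.com _ (inv_mem hx') _ (h1 x hx)
    have h5 := mul_mem (mul_mem (h2 x hx) (h2 x' hx')) (inv_mem (EV h4))
    have c1 := (comm_of_CC (r.EF h4) (mul_mem (h1 x hx) (h1 x' hx'))).eq
    rwa [show x * lam x * (x' * lam x') = x * x' * (⁅x'⁻¹, lam x⁆ * (lam x * lam x')) by
      simp only [commutatorElement_def]; group, ← c1, ← mul_assoc, mul_inv_cancel_right] at h5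
  · by_cases he : x ∈ E
    · rw [o.el x he, L3S_one r he (h1 x hx)]
    · have h4 := h3 x hx he
      have h5 : (lam x)⁻¹ = lam x := inv_eq_of_mul_eq_one_right (eU _ (h1 x hx))
      rw [show x * lam x * (x * lam x) = x * x * (x⁻¹ * lam x * x⁻¹⁻¹ * lam x) by group] at h4
      nth_rw 2 [← h5] at h4
      rw [← commutatorElement_def, L3S_inv r o.el hx (h1 x hx)] at h4
      rw [eq_inv_of_mul_eq_one_left h4]
      exact inv_eq_of_mul_eq_one_right (o.el _ (r.com x hx _ (h1 x hx)))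

/-- The conjugating element. -/
theorem L3S_k (h : TI 𝒦) (h1 : K1 ∈ 𝒦) (hK : K ∈ 𝒦) (hne : K ≠ K1)
    (eU : El U) (hc : Nat.card U = Nat.card E) (nU : U ≠ ⊥) (hR : R ≤ K) (o : Om E R)
    (r : Rt E R U) (cR : Nat.card R = Nat.card E * Nat.card E) (hR1 : R1 ≤ K1) (r1 : Rt U R1 E)
    (cR1 : Nat.card R1 = Nat.card U * Nat.card U) (hs : Syl E (K ⊓ NN K1)) {x0 y0 x x' : G}
    (hx0 : x0 ∈ R) (hy0 : y0 ∈ R1) (a1 : ∀ p ∈ E, ⁅x0, ⁅y0, p⁆⁆ = p)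
    (a2 : ∀ q ∈ U, x0 * y0 * x0 * q * (x0 * y0 * x0)⁻¹ = ⁅x0, q⁆)
    (a3 : ∀ p ∈ E, x0 * y0 * x0 * p * (x0 * y0 * x0)⁻¹ = ⁅y0, p⁆) (hx : x ∈ R) (hxE : x ∉ E) (hx' : x' ∈ R) :
    ∃ x'' ∈ R, (∀ u ∈ U, ⁅x'', u⁆ = ⁅x, ⁅y0, ⁅x', ⁅y0, ⁅x, u⁆⁆⁆⁆⁆) ∧ x'' * x'' = ⁅x, ⁅y0, x' * x'⁆⁆ := by
  obtain ⟨y, hy, b0, b1, b2, b3⟩ := r.exists_swap r1 h hK h1 hne hR hR1 o.el eU hc.symm cR1 hx hxE
  set k := (x * y * x) * (x0 * y0 * x0) with hk
  have kU : ∀ u ∈ U, k * u * k⁻¹ = ⁅y, ⁅x0, u⁆⁆ := fun u hu => by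
    rw [← b3 _ (r.com x0 hx0 u hu), ← a2 u hu, hk]; group
  have kE : ∀ e ∈ E, k * e * k⁻¹ = ⁅x, ⁅y0, e⁆⁆ := fun e he => by
    rw [← b2 _ (r1.com y0 hy0 e he), ← a3 e he, hk]; group
  have nE : k ∈ NN E := mem_normalizer_iff_of_finite.2 fun e he => by
    rw [kE e he]; exact r.com x hx _ (r1.com y0 hy0 e he)
  have nU' : k ∈ NN U := mem_normalizer_iff_of_finite.2 fun u hu => by
    rw [kU u hu]; exact r1.com y hy _ (r.com x0 hx0 u hu)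
  have nK : k ∈ NN K := by
    have nE' : E ≠ ⊥ := fun e => nU (card_eq_one.1 (by rw [hc, e, card_bot]))
    obtain ⟨⟨e, he⟩, e1⟩ := ne_bot_iff_exists_ne_one.1 nE'
    exact h.mem_NN_of_conj hK (hR (r.le he)) ⟨1, by simpa [sq] using o.el e he⟩
      (fun e' => e1 (Subtype.ext e')) (hR (r.le (conj_mem_of_mem_normalizer nE he)))
  have r' := r.conj k
  rw [map_conj_eq_of_mem_norm nE, map_conj_eq_of_mem_norm nU'] at r'
  obtain ⟨c, -, cE, cU, -, hc'⟩ := h.rt_conj hK h1 hne (r1.le.trans hR1) o.el eU nU hs r r' hR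
    (map_conj_le_of_mem_normalizer hR nK) cR (by rw [card_map_conj, cR]) (M := ∅) (by simp) (by simp) (by simp)
  have hm : c⁻¹ * (k * x' * k⁻¹) * c ∈ R := by
    rw [← mem_map_conj, ← hc', conj_mem_map_conj]; exact hx'
  have fE : ∀ e ∈ E, c⁻¹ * e * c = e := fun e he => by
    rw [mul_assoc, (comm_of_CC cE he).eq, inv_mul_cancel_left]
  refine ⟨_, hm, fun u hu => ?_, ?_⟩
  · have hu1 := r1.com y0 hy0 _ (r.com x hx u hu)
    have e1 := kU _ hu1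
    rw [a1 _ (r.com x hx u hu), b0 u hu] at e1
    have e2 : c⁻¹ * u * c = u := by rw [mul_assoc, (comm_of_CC cU hu).eq, inv_mul_cancel_left]
    rw [← kE _ (r.com x' hx' _ hu1),
      ← fE _ (conj_mem_of_mem_normalizer nE (r.com x' hx' _ hu1))]
    set u1 := ⁅y0, ⁅x, u⁆⁆
    nth_rw 1 [← e2, ← e1]
    simp only [commutatorElement_def]; group
  · have h2 := r.sq_mem o.el nU hx'
    rw [← kE _ h2, ← fE _ (conj_mem_of_mem_normalizer nE h2)]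
    group

/-- The structure of the `L₃`-configuration: `q = 4` and `R ≅ 4 × 4`. -/
theorem l3s (h : TI 𝒦) {K1 K U V E R R1 : Subgroup G} (h1 : K1 ∈ 𝒦) (hK : K ∈ 𝒦) (hne : K ≠ K1)
    (eU : El U) (hc : Nat.card U = Nat.card E) (h4 : 4 ≤ Nat.card U) (hR : R ≤ K) (o : Om E R)
    (r : Rt E R U) (cR : Nat.card R = Nat.card E * Nat.card E) (hR1 : R1 ≤ K1) (r1 : Rt U R1 E)
    (cR1 : Nat.card R1 = Nat.card U * Nat.card U) (hs : Syl E (K ⊓ NN K1)) (nV : V ≠ ⊥)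
    (EV : E ≤ CC V) (ns : ∀ u ∈ U, ∀ v ∈ V, Commute u v → u = 1 ∨ v = 1)
    (hu : ∀ x ∈ R, ∃ u ∈ U, x * u ∈ CC V ∧ (x ∉ E → x * u * (x * u) = 1)) : Core K E R := by
  classical
  obtain ⟨lam, l1, l2, l3, l4⟩ := L3S_lam eU o r nV EV ns hu
  have nU : U ≠ ⊥ := fun e => by rw [e, card_bot] at h4; omega
  obtain ⟨x0, hx0, x0E⟩ : ∃ x0 ∈ R, x0 ∉ E := by
    by_contra hn
    push Not at hn
    have := card_le_of_le (show R ≤ E from hn)
    rw [cR, ← hc] at this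
    nlinarith
  obtain ⟨y0, hy0, a0, a1, a2, a3⟩ := r.exists_swap r1 h hK h1 hne hR hR1 o.el eU hc.symm cR1 hx0 x0E
  have inj0 : ∀ e ∈ E, ∀ e' ∈ E, ⁅y0, e⁆ = ⁅y0, e'⁆ → e = e' := fun e he e' he' k => by
    rw [← a1 e he, k, a1 e' he']
  let _ : CommGroup U := { (inferInstance : Group U) with
    mul_comm := fun a b => Subtype.ext (eU.ab a a.2 b b.2).eq }
  let A0 : R → AddMonoid.End (Additive U) := fun x => AddMonoidHom.mk'
    (fun u => Additive.ofMul ⟨⁅y0, ⁅(x : G), (u.toMul : G)⁆⁆, r1.com y0 hy0 _ (r.com x x.2 _ u.toMul.2)⟩)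
    fun u u' => congrArg Additive.ofMul (Subtype.ext (by
      show ⁅y0, ⁅(x : G), (u.toMul : G) * u'.toMul⁆⁆ = ⁅y0, ⁅(x : G), (u.toMul : G)⁆⁆ * ⁅y0, ⁅(x : G), (u'.toMul : G)⁆⁆
      rw [L3S_right r x.2 u.toMul.2 u'.toMul.2,
        L3S_right r1 hy0 (r.com x x.2 _ u.toMul.2) (r.com x x.2 _ u'.toMul.2)]))
  have hA0 : ∀ (x : R) (u : Additive U), ((A0 x u).toMul : G) = ⁅y0, ⁅(x : G), (u.toMul : G)⁆⁆ := fun _ _ => rfl
  have ext : ∀ u u' : Additive U, (u.toMul : G) = u'.toMul → u = u' := fun u u' e =>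
    Additive.toMul.injective (Subtype.ext e)
  let A : Additive R →+ AddMonoid.End (Additive U) := AddMonoidHom.mk' (fun x => A0 x.toMul) fun x x' =>
    AddMonoidHom.ext fun u => ext _ _ (by
      show ⁅y0, ⁅(x.toMul : G) * x'.toMul, (u.toMul : G)⁆⁆ =
        ⁅y0, ⁅(x.toMul : G), (u.toMul : G)⁆⁆ * ⁅y0, ⁅(x'.toMul : G), (u.toMul : G)⁆⁆
      rw [L3S_left r x.toMul.2 x'.toMul.2 u.toMul.2,
        L3S_right r1 hy0 (r.com _ x.toMul.2 _ u.toMul.2) (r.com _ x'.toMul.2 _ u.toMul.2)])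
  have hA : ∀ (x : R), A (Additive.ofMul x) = A0 x := fun _ => rfl
  have mem : ∀ a, a ∈ A.range ↔ ∃ x : R, A0 x = a := fun a =>
    ⟨fun ⟨x, e⟩ => ⟨x.toMul, e⟩, fun ⟨x, e⟩ => ⟨Additive.ofMul x, e⟩⟩
  have z1 : ∀ x : R, (x : G) ∈ E → A0 x = 0 := fun x hx => AddMonoidHom.ext fun u => ext _ _ (by
    show ⁅y0, ⁅(x : G), (u.toMul : G)⁆⁆ = 1
    rw [L3S_one r hx u.toMul.2, commutatorElement_one_right])
  have z2 : ∀ (x : R) (u : Additive U), A0 x u = 0 → (x : G) ∈ E ∨ u = 0 := fun x u e => by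
    have e1 : ⁅y0, ⁅(x : G), (u.toMul : G)⁆⁆ = ⁅y0, 1⁆ := by
      rw [← hA0, e, commutatorElement_one_right]; rfl
    exact (r.ns x x.2 _ u.toMul.2 (commutatorElement_eq_one_iff_commute.1
      (inj0 _ (r.com x x.2 _ u.toMul.2) _ (one_mem _) e1))).imp_right fun k => ext _ _ k
  have hi : ∀ a ∈ A.range, ∀ u, a u = 0 → a = 0 ∨ u = 0 := fun a ha u e => by
    obtain ⟨x, rfl⟩ := (mem a).1 ha
    exact (z2 x u e).imp_left (z1 x)
  have lx0 : lam x0 ≠ 1 := fun e => x0E ((o x0).2 ⟨hx0, by rw [l4 x0 hx0, e, commutatorElement_one_right]⟩)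
  let lm : R → Additive U := fun x => Additive.ofMul ⟨lam x, l1 x x.2⟩
  have lm_mul : ∀ x x' : R, lm (x * x') = lm x + lm x' := fun x x' => ext _ _ (l2 x x.2 x' x'.2)
  have n0 : lm ⟨x0, hx0⟩ ≠ 0 := fun e => lx0 (congrArg (fun u : Additive U => (u.toMul : G)) e)
  have wd : ∀ x x' : R, A0 x = A0 x' → lm x = lm x' := fun x x' e => by
    have e1 : A0 (x * x'⁻¹) = 0 := by
      rw [← hA, ofMul_mul, ofMul_inv, map_add, map_neg, hA, hA, e, add_neg_cancel]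
    have e2 := (z2 _ (lm ⟨x0, hx0⟩) (by rw [e1]; rfl)).resolve_right n0
    have e3 : lm (x * x'⁻¹) = 0 := ext _ _ (l3 _ e2)
    rw [← inv_mul_cancel_right x x', lm_mul, e3, zero_add]
  let l : AddMonoid.End (Additive U) → Additive U := fun a => if h : ∃ x : R, A0 x = a then lm h.choose else 0
  have hl : ∀ x : R, l (A0 x) = lm x := fun x => by
    have k : ∃ x' : R, A0 x' = A0 x := ⟨x, rfl⟩
    simp only [l, dif_pos k]
    exact wd _ _ k.choose_spec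
  have one : A0 ⟨x0, hx0⟩ = 1 := AddMonoidHom.ext fun u => ext _ _ (a0 _ u.toMul.2)
  have h2 : ∀ u : Additive U, u + u = 0 := fun u => ext _ _ (eU _ u.toMul.2)
  have cU : Nat.card (Additive U) = Nat.card U := rfl
  have cΨ : Nat.card A.range = Nat.card (Additive U) := by
    refine Nat.card_congr (Equiv.ofBijective (fun a => a.1 (lm ⟨x0, hx0⟩)) ⟨fun a b e => ?_, fun u => ?_⟩)
    · have := (hi _ (sub_mem a.2 b.2) (lm ⟨x0, hx0⟩) (sub_eq_zero.2 e)).resolve_right n0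
      exact Subtype.ext (sub_eq_zero.1 this)
    · obtain ⟨z, hz, e⟩ := r.surj' cR (l1 x0 hx0) lx0 (r.com x0 hx0 _ u.toMul.2)
      refine ⟨⟨A0 ⟨z, hz⟩, (mem _).2 ⟨_, rfl⟩⟩, ext _ _ ?_⟩
      show ⁅y0, ⁅z, lam x0⁆⁆ = _
      rw [e, a0 _ u.toMul.2]
  obtain ⟨c4, hsym⟩ := alg h2 A.range ((mem _).2 ⟨_, one⟩) hi cΨ h4 l (fun a ha b hb => by
      obtain ⟨x, rfl⟩ := (mem a).1 ha
      obtain ⟨x', rfl⟩ := (mem b).1 hb
      rw [← hA, ← hA, ← map_add, ← ofMul_mul, hA, hA, hA, hl, hl, hl, lm_mul])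
    (by rw [← one, hl]; exact n0) fun a ha a0' b hb => by
      obtain ⟨x, rfl⟩ := (mem a).1 ha
      obtain ⟨x', rfl⟩ := (mem b).1 hb
      have xE : (x : G) ∉ E := fun k => a0' (z1 x k)
      obtain ⟨x'', hx'', k1, k2⟩ := L3S_k h h1 hK hne eU hc nU hR o r cR hR1 r1 cR1 hs hx0 hy0 a1 a2 a3
        x.2 xE x'.2
      have e1 : A0 x * A0 x' * A0 x = A0 ⟨x'', hx''⟩ := AddMonoidHom.ext fun u => ext _ _ (by
        show _ = ⁅y0, ⁅x'', (u.toMul : G)⁆⁆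
        rw [k1 _ u.toMul.2]; rfl)
      refine ⟨e1 ▸ (mem _).2 ⟨_, rfl⟩, ?_⟩
      rw [e1, hl, hl]
      by_cases x'E : (x' : G) ∈ E
      · have e2 : A0 ⟨x'', hx''⟩ = A0 x' := by rw [← e1, z1 x' x'E, mul_zero, zero_mul]
        have e3 : lm x' = 0 := ext _ _ (l3 _ x'E)
        rw [wd _ _ e2, e3, map_zero]
      · have e2 : A0 ⟨x'', hx''⟩ (lm ⟨x'', hx''⟩) = A0 x (A0 x' (lm x')) := ext _ _ (by
          show ⁅y0, ⁅x'', lam x''⁆⁆ = ⁅y0, ⁅(x : G), ⁅y0, ⁅(x' : G), lam x'⁆⁆⁆⁆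
          rw [← l4 _ hx'', k2, l4 _ x'.2])
        rw [← e1] at e2
        have e3 : A0 x (A0 x' (A0 x (lm ⟨x'', hx''⟩) - lm x')) = 0 := by
          rw [map_sub, map_sub, ← e2]; exact sub_self _
        exact sub_eq_zero.1 ((z2 _ _ ((z2 _ _ e3).resolve_left xE)).resolve_left x'E)
  have cE : Nat.card E = 4 := hc ▸ c4
  refine ⟨hR, fun x hx x' hx' => ?_, o, fun z hz => r.sq_mem o.el nU hz, cE, by rw [cR, cE]⟩
  have e1 := hsym _ ((mem _).2 ⟨⟨x, hx⟩, rfl⟩) _ ((mem _).2 ⟨⟨x', hx'⟩, rfl⟩)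
  rw [hl, hl] at e1
  have e2 : ⁅x, lam x'⁆ = ⁅x', lam x⁆ := inj0 _ (r.com x hx _ (l1 x' hx')) _ (r.com x' hx' _ (l1 x hx))
    (congrArg (fun u : Additive U => (u.toMul : G)) e1)
  have e3 := l4 _ (mul_mem hx hx')
  rw [l2 x hx x' hx', L3S_left r hx hx' (mul_mem (l1 x hx) (l1 x' hx')), L3S_right r hx (l1 x hx) (l1 x' hx'),
    L3S_right r hx' (l1 x hx) (l1 x' hx'), e2, ← l4 x hx, ← l4 x' hx', mul_assoc (x * x), ← mul_assoc ⁅x', lam x⁆,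
    o.el _ (r.com x' hx' _ (l1 x hx)), one_mul] at e3
  have e4 : x * (x' * x) * x' = x * (x * x') * x' := by simpa only [mul_assoc] using e3
  exact (mul_left_cancel (mul_right_cancel e4)).symm

end Cfsg.Agent.CT8
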