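import Mathlib
import Cfsg.Agent.CT8.L3S
import Cfsg.Agent.CT8.N2b

/-! S1308, piece N2CW: an `L₃`-configuration in the world `N2` lives in the world `CW`. -/

set_option autoImplicit false
set_option linter.unusedSectionVars false
set_option linter.unusedVariables false

namespace Cfsg.Agent.CT8

open Subgroup Cfsg.Agent.GT Cfsg.Agent.Inv Cfsg.Agent.Cmp
open scoped commutatorElement

variable {G : Type*} [Group G] [Finite G] {𝒦 : Set (Subgroup G)}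

namespace N2CW

variable {K1 K2 K U V E R : Subgroup G}

theorem le_CC' {X Y : Subgroup G} (h : X ≤ CC Y) : Y ≤ CC X := fun y hy =>
  mem_CC.2 fun x hx => (comm_of_CC (h hx) hy).symm

theorem cm_mem {g x : G} {X : Subgroup G} (hg : g ∈ NN X) (hx : x ∈ X) : ⁅g, x⁆ ∈ X := by
  rw [commutatorElement_def]
  exact mul_mem (conj_mem_of_mem_normalizer hg hx) (inv_mem hx)

theorem cm_left (a b x : G) : ⁅a * b, x⁆ = a * ⁅b, x⁆ * a⁻¹ * ⁅a, x⁆ := by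
  simp only [commutatorElement_def]; group

theorem comm_of_eq {u v v' : G} (h : ⁅u, v⁆ = ⁅u, v'⁆) : Commute u (v'⁻¹ * v) := by
  have h1 : v * u⁻¹ * v⁻¹ = v' * u⁻¹ * v'⁻¹ := by
    have : u⁻¹ * ⁅u, v⁆ = u⁻¹ * ⁅u, v'⁆ := by rw [h]
    simpa only [commutatorElement_def, mul_assoc, inv_mul_cancel_left] using this
  have h2 : v'⁻¹ * v * u⁻¹ * (v'⁻¹ * v)⁻¹ = u⁻¹ := by
    calc v'⁻¹ * v * u⁻¹ * (v'⁻¹ * v)⁻¹ = v'⁻¹ * (v * u⁻¹ * v⁻¹) * v' := by group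
      _ = u⁻¹ := by rw [h1]; group
  exact (Commute.inv_right_iff.1 (comm_of_conj_eq h2)).symm

theorem two (l : L3 K1 K2 K U V E) (eU : El U) (eV : El V) (eE : El E) :
    IsPGroup 2 ↥(E ⊔ V ⊔ U) := by
  have hV : V ≤ NN E := (le_CC' l.EV).trans (CC_le_NN E)
  refine two_sup (two_sup eE.two eV.two hV) eU.two fun u hu => ?_
  refine mem_normalizer_iff_of_finite.2 fun x hx => ?_
  obtain ⟨e, he, v, hv, rfl⟩ := exists_mul_of_mem_sup hV hx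
  have h1 : u * (e * v) * u⁻¹ = (u * e * u⁻¹) * ⁅u, v⁆ * v := by
    rw [commutatorElement_def]; group
  rw [h1, conj_eq_of_comm (comm_of_CC (l.EU he) hu)]
  exact mul_mem (mem_sup_left (mul_mem he (l.com u hu v hv))) (mem_sup_right hv)

theorem surj (l : L3 K1 K2 K U V E) (hc : Nat.card E = Nat.card V) {u e : G} (hu : u ∈ U)
    (h1 : u ≠ 1) (he : e ∈ E) : ∃ v ∈ V, ⁅u, v⁆ = e := by
  let f : V → E := fun v => ⟨⁅u, (v : G)⁆, l.com u hu v v.2⟩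
  have hf : Function.Injective f := fun v v' h => by
    have hc := comm_of_eq (congrArg Subtype.val h)
    have := (l.ns u hu _ (mul_mem (inv_mem v'.2) v.2) hc).resolve_left h1
    exact Subtype.ext (inv_mul_eq_one.1 this).symm
  obtain ⟨v, hv⟩ := (hf.bijective_of_nat_card_le hc.le).2 ⟨e, he⟩
  exact ⟨v, v.2, congrArg Subtype.val hv⟩

theorem ysq (h : N2 𝒦) (h2 : K2 ∈ 𝒦) (hK : K ∈ 𝒦) (hne : K2 ≠ K) (hc : ¬ HC K2 K) (p2 : Pn K2 V)
    (p : Pn K E) (EV : E ≤ CC V) {y : G} (hV : y ∈ CC V) (hE : y ∈ CC E) (hy2 : y * y ∈ E) :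
    y * y = 1 := by
  have eE := N2b.pn_el p
  have hy : Two y := ⟨2, by
    have : y ^ 2 ^ 2 = y * y * (y * y) := by
      rw [show (2 : ℕ) ^ 2 = 4 by norm_num]; simp only [pow_succ, pow_zero, one_mul, mul_assoc]
    rw [this, eE _ hy2]⟩
  have hX : IsPGroup 2 ↥(E ⊔ zpowers y) :=
    two_sup eE.two hy.isPGroup (zpowers_le.2 (CC_le_NN E hE))
  obtain ⟨S, hS, o, hn⟩ := h.exists_syl h2 p2 hX
    ((sup_le EV (zpowers_le.2 hV)).trans (CC_le_NN V))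
  obtain ⟨r, -, hlt⟩ := h.rt h2 hK hne hc hS o p (le_sup_left.trans hn)
  refine r.ysq o.el (N2a.ne_bot h hK p) hlt ?_ ?_ (hn (mem_sup_right (mem_zpowers y))) hy2
  · exact (eq_bot_iff_forall _).2 fun x hx => h.toFm.toTI.eq_one h2 hK hne (N2b.pn_le p2 hx.1)
      (N2b.pn_le p hx.2) (.of_sq (eE x hx.2))
  · rw [CC, centralizer_sup]; exact mem_inf.2 ⟨hV, hE⟩

theorem hu (h : N2 𝒦) (h1 : K1 ∈ 𝒦) (h2 : K2 ∈ 𝒦) (hK : K ∈ 𝒦) (l : L3 K1 K2 K U V E)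
    (p1 : Pn K1 U) (p2 : Pn K2 V) (p : Pn K E) (rU : Rt E R U) (rV : Rt E R V) {x : G}
    (hx : x ∈ R) : ∃ u ∈ U, x * u ∈ CC V ∧ (x ∉ E → x * u * (x * u) = 1) := by
  have ti := h.toFm.toTI
  have eE := N2b.pn_el p
  obtain ⟨v, hv, hv1⟩ := N2b.exists_ne (h.four_le h2 p2)
  have h0 : ⁅v, x⁆ ∈ E := by rw [← commutatorElement_inv]; exact inv_mem (rV.com x hx v hv)
  obtain ⟨u, hu, e⟩ := surj l.symm (h.card_eq hK h1 p p1) hv hv1 h0
  have hc := comm_of_eq e.symm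
  have hn : u⁻¹ * x ∈ NN K2 := ti.mem_NN h2 (l.l2 hv) (.of_sq (N2b.pn_el p2 v hv)) hv1 hc.symm
  have hg : u⁻¹ * x ∈ CC V := mem_CC.2 fun w hw => by
    have h4 : ⁅u⁻¹ * x, w⁆ ∈ E := by
      have h3 := rV.com x hx w hw
      rw [cm_left, conj_eq_of_comm (comm_of_CC (l.EU h3) (inv_mem hu))]
      exact mul_mem h3 (l.com _ (inv_mem hu) w hw)
    exact (commutatorElement_eq_one_iff_commute.1
      (ti.eq_one h2 hK l.n2 (cm_mem hn (l.l2 hw)) (l.l h4) (.of_sq (eE _ h4)))).symm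
  have hsq := rV.sq_mem eE (N2a.ne_bot h h2 p2) hx
  have hy : x * u ∈ CC V := by
    have e : x * u = x * x * (u⁻¹ * x)⁻¹ := by group
    rw [e]
    exact mul_mem (l.EV hsq) (inv_mem hg)
  refine ⟨u, hu, hy, fun _ => ysq h h2 hK l.n2 l.h2 p2 p l.EV hy
    (mul_mem (le_CC' rV.cen hx) (le_CC' l.EU hu)) ?_⟩
  have e : x * u * (x * u) = x * x * ⁅x⁻¹, u⁆ * (u * u) := by
    rw [commutatorElement_def]; group
  rw [e, N2b.pn_el p1 u hu, mul_one]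
  exact mul_mem hsq (rU.com _ (inv_mem hx) u hu)

theorem core (h : N2 𝒦) (h1 : K1 ∈ 𝒦) (h2 : K2 ∈ 𝒦) (hK : K ∈ 𝒦) (l : L3 K1 K2 K U V E)
    (p1 : Pn K1 U) (p2 : Pn K2 V) (p : Pn K E) : ∃ R, Syl R K ∧ Core K E R := by
  have ti := h.toFm.toTI
  have eE := N2b.pn_el p
  obtain ⟨R, hR, o, hn⟩ := h.exists_syl hK p (two l (N2b.pn_el p1) (N2b.pn_el p2) eE)
    ((sup_le (sup_le eE.ab.le_CC (le_CC' l.EV)) (le_CC' l.EU)).trans (CC_le_NN E))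
  have hU : U ≤ NN R := le_sup_right.trans hn
  have hV : V ≤ NN R := (le_sup_right.trans le_sup_left).trans hn
  have c1 : ¬ HC K K1 := fun c => l.h1 c.symm
  obtain ⟨rU, hs, -⟩ := h.rt hK h1 l.n1.symm c1 hR o p1 hU
  obtain ⟨rV, -, -⟩ := h.rt hK h2 l.n2.symm (fun c => l.h2 c.symm) hR o p2 hV
  obtain ⟨u, hu0, hu1⟩ := N2b.exists_ne (h.four_le h1 p1)
  have cR : Nat.card R = Nat.card E * Nat.card E := rU.card_of_surj hu0 hu1 fun e he => by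
    obtain ⟨v, hv, ev⟩ := surj l (h.card_eq hK h2 p p2) hu0 hu1 (inv_mem he)
    have ev' : ⁅v, u⁆ = e := by rw [← commutatorElement_inv, ev, inv_inv]
    by_cases hv1 : v = 1
    · exact ⟨1, one_mem _, by rw [← ev', hv1]⟩
    obtain ⟨r, hr, -, hc⟩ := h.jbar hK h1 l.n1.symm c1 hR o p1 hU (le_CC' l.EV hv)
      (fun f hf => l.symm.com v hv f hf)
      (fun f hf c => (l.ns f hf v hv c.symm).resolve_right hv1)
    refine ⟨r, hr, ?_⟩
    have := cm_left r (r⁻¹ * v) u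
    rw [mul_inv_cancel_left, commutatorElement_eq_one_iff_commute.2
      (comm_of_CC hc (mem_sup_right hu0)).symm, mul_one, mul_inv_cancel, one_mul] at this
    rw [← this, ev']
  obtain ⟨R1, hR1, o1, hn1⟩ := h.exists_syl h1 p1 eE.two (l.EU.trans (CC_le_NN U))
  obtain ⟨r1, -, -⟩ := h.rt h1 hK l.n1 l.h1 hR1 o1 p hn1
  have hc := h.card_eq h1 hK p1 p
  exact ⟨R, hR, l3s ti h1 hK l.n1.symm (N2b.pn_el p1) hc (h.four_le h1 p1) hR.le o rU cR hR1.le r1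
    (by rw [ti.syl_card h1 hK hR1 hR, cR, hc]) hs (N2a.ne_bot h h2 p2) l.EV l.ns
    fun x hx => hu h h1 h2 hK l p1 p2 p rU rV hx⟩

theorem core_two {Z : Subgroup G} (c : Core K E Z) : IsPGroup 2 Z :=
  IsPGroup.of_card (n := 4) (by rw [c.cZ]; norm_num)

end N2CW

theorem N2.cw (h : N2 𝒦) {K1 K2 K U V E : Subgroup G} (h1 : K1 ∈ 𝒦) (h2 : K2 ∈ 𝒦) (hK : K ∈ 𝒦)
    (l : L3 K1 K2 K U V E) (p1 : Pn K1 U) (p2 : Pn K2 V) (p : Pn K E) :
    L3c 𝒦 K1 K2 K U V E := by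
  have ti := h.toFm.toTI
  obtain ⟨R, hR, c⟩ := N2CW.core h h1 h2 hK l p1 p2 p
  have cs : ∀ L ∈ 𝒦, ∀ S F : Subgroup G, Syl S L → Om F S → Core L F S := fun L hL S F hS o => by
    obtain ⟨g, rfl, rfl⟩ := ti.syl_conj hK hL hR hS
    rw [N2a.om_unique o (c.conj g).om]
    exact c.conj g
  have sc : ∀ L ∈ 𝒦, ∀ F Z : Subgroup G, Core L F Z → Syl Z L := fun L hL F Z c' => by
    obtain ⟨S, hS⟩ := Cmp.exists_syl L
    exact syl_of_card hS (N2CW.core_two c') c'.le (by rw [ti.syl_card hL hK hS hR, c.cZ, c'.cZ])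
  have pt : ∀ L ∈ 𝒦, ∀ F : Subgroup G, Pn L F → Pt L F := fun L hL F ⟨S, hS, o⟩ =>
    ⟨S, cs L hL S F hS o⟩
  refine ⟨l, ⟨h.toFm, h.fh, fun L hL => ?_, fun L hL F Z F' Z' c1 c2 h3 => ?_,
    fun L hL M hM hne hc F Z B c1 ⟨Y, c2⟩ hn => ?_, fun L hL M hM hne hc X hX hn h3 => ?_,
    fun L hL F Z c1 x hx h3 hc => ?_⟩, h1, h2, hK, pt _ h1 _ p1, pt _ h2 _ p2, pt _ hK _ p⟩
  · obtain ⟨S, hS⟩ := Cmp.exists_syl L
    obtain ⟨F, o⟩ := h.exists_om hL hS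
    exact ⟨F, S, cs L hL S F hS o⟩
  · have hle := sup_le c1.le c2.le
    exact le_antisymm (le_sup_left.trans ((sc L hL _ _ c2).le_of_le h3 le_sup_right hle))
      (le_sup_right.trans ((sc L hL _ _ c1).le_of_le h3 le_sup_left hle))
  · exact (h.rt hL hM hne hc (sc L hL _ _ c1) c1.om ⟨Y, sc M hM _ _ c2, c2.om⟩ hn).1
  · by_cases h0 : X = ⊥
    · rw [h0, card_bot]; norm_num
    obtain ⟨S, T, T0, pd, hle⟩ := ti.exists_pd hM hL hne.symm h3 hX hn h0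
    have o := (h.nf M hM L hL S T T0 pd fun c => hc c.symm).1
    rw [← (cs M hM S T0 pd.sR o).cE, pd.card]
    exact card_le_of_le hle
  · exact (sc L hL _ _ c1).mem_of_mem (two_sup (N2CW.core_two c1) h3.isPGroup
      (zpowers_le.2 (CC_le_NN Z hc))) le_sup_left hx (mem_sup_right (mem_zpowers x))

end Cfsg.Agent.CT8
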