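import Mathlib
import Cfsg.Agent.CT8.FR
import Cfsg.Agent.CT8.LX

/-! A product of two commuting members of `D` normalizes the clique (S1308, piece SCb). -/

set_option autoImplicit false
set_option linter.unusedSectionVars false
set_option linter.unusedVariables false

namespace Cfsg.Agent.CT8

open Subgroup Cfsg.Agent.GT Cfsg.Agent.Inv Cfsg.Agent.Cmp
open scoped commutatorElement

variable {G : Type*} [Group G] [Finite G] {𝒦 : Set (Subgroup G)}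

namespace SCb

theorem dbl {X Y : Subgroup G} (h : X < Y) : 2 * Nat.card X ≤ Nat.card Y := by
  obtain ⟨k, hk⟩ := card_dvd_of_le h.le
  have h1 : k ≠ 0 := fun e => (Nat.card_pos (α := Y)).ne' (by rw [hk, e, mul_zero])
  have h2 : k ≠ 1 := fun e => h.ne (eq_of_le_of_card_ge h.le (by rw [hk, e, mul_one]))
  rw [hk, mul_comm]
  exact Nat.mul_le_mul_left _ (by omega)

theorem four_pow {ι : Type*} (A : ι → Subgroup G) (na : ∀ i, ¬ Ab (A i)) (hc : ∀ i j, i ≠ j → A i ≤ CC (A j))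
    (s : Finset ι) : 4 ^ s.card ≤ Nat.card ↥(s.sup A) := by
  classical
  induction s using Finset.induction_on with
  | empty => simp
  | insert i s hi ih =>
    obtain ⟨x, hx, y, hy, e⟩ : ∃ x ∈ A i, ∃ y ∈ A i, ¬ Commute x y := by simpa [Ab] using na i
    have h1 : s.sup A ≤ CC (A i) := Finset.sup_le fun j hj => hc j i fun e => hi (e ▸ hj)
    have h2 := dbl (X := s.sup A) (Y := (A i ⊔ s.sup A) ⊓ centralizer {x}) (SetLike.lt_iff_le_and_exists.2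
      ⟨le_inf le_sup_right fun g hg => mem_centralizer_singleton_iff.2 (comm_of_CC (h1 hg) hx).symm, x,
        mem_inf.2 ⟨mem_sup_left hx, mem_centralizer_singleton_iff.2 rfl⟩, fun k => e (comm_of_CC (h1 k) hy).symm⟩)
    have h3 := dbl (X := (A i ⊔ s.sup A) ⊓ centralizer {x}) (SetLike.lt_iff_le_and_exists.2
      ⟨inf_le_left, y, mem_sup_left hy, fun k => e (mem_centralizer_singleton_iff.1 k.2).symm⟩)
    rw [Finset.card_insert_of_notMem hi, Finset.sup_insert, pow_succ]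
    omega

theorem perm_bd {Ω ι : Type*} [Finite Ω] [Finite ι] [Nonempty ι] {S : Subgroup (Equiv.Perm Ω)} (hS : IsPGroup 2 S)
    (A : ι → Subgroup (Equiv.Perm Ω)) (le : ∀ i, A i ≤ S) (na : ∀ i, ¬ Ab (A i))
    (hc : ∀ i j, i ≠ j → A i ≤ CC (A j)) (hn : Nat.card Ω ≤ 2 * Nat.card ι) : False := by
  have := Fintype.ofFinite ι
  have h1 := (four_pow A na hc Finset.univ).trans (card_le_of_le (Finset.sup_le fun i _ => le i))
  obtain ⟨a, ha⟩ := hS.exists_card_eq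
  have h2 := S.card_subgroup_dvd_card
  rw [Nat.card_perm, ha] at h2
  rw [ha, Finset.card_univ, ← Nat.card_eq_fintype_card, show 4 = 2 ^ 2 from rfl, ← pow_mul,
    Nat.pow_le_pow_iff_right one_lt_two] at h1
  exact emultiplicity_lt_iff_not_dvd.1
    (Nat.emultiplicity_two_factorial_lt (mul_ne_zero two_ne_zero (Nat.card_pos (α := ι)).ne'))
    (((pow_dvd_pow 2 h1).trans h2).trans (Nat.factorial_dvd_factorial hn))

/-- The action of the stabilizer of a set of subgroups. -/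
def act (Ω : Set (Subgroup G)) : St Ω →* Equiv.Perm Ω :=
  MonoidHom.mk' (fun g => ⟨fun L => ⟨L.1 ^ᶜ g.1, (g.2 L).2 L.2⟩, fun L => ⟨L.1 ^ᶜ g.1⁻¹, (g⁻¹.2 L).2 L.2⟩,
    fun _ => Subtype.ext (map_conj_inv_map_conj ..), fun _ => Subtype.ext (map_conj_map_conj_inv ..)⟩)
    fun _ _ => Equiv.ext fun _ => Subtype.ext (map_conj_mul ..)

theorem core (h : HF 𝒦) {D : Set G} (z : ZD0 𝒦 D)
    (na : ∀ K ∈ 𝒦, ∀ S : Subgroup G, Syl S K → ¬ Ab S) {K1 K2 : Subgroup G} (h1 : K1 ∈ 𝒦)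
    (h2 : K2 ∈ 𝒦) (hne : K1 ≠ K2) {z1 z2 w : G} (hz1 : z1 ∈ D) (hz2 : z2 ∈ D) (m1 : z1 ∈ K1)
    (m2 : z2 ∈ K2) (hc : Commute z1 z2) (e : z1 * z2 = w) {P P' K : Subgroup G} (hP : Syl P ⊤) (hP' : Syl P' ⊤)
    (hw : w ∈ P) (p1 : z1 ∈ P') (p2 : z2 ∈ P') (hB : ∀ x ∈ P, Commute w x → x ∈ P') (hK : K ∈ Dl 𝒦 P)
    (hn : w ∉ NN K) : False := by
  have w2 : w * w = 1 := by
    rw [← e, ← sq, hc.mul_pow, sq, sq, mul_self_of_two (z.two _ hz1), mul_self_of_two (z.two _ hz2), mul_one]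
  have ww : ∀ J : Subgroup G, (J ^ᶜ w) ^ᶜ w = J := fun J => by rw [map_conj_map_conj, w2, map_conj_one]
  let F := {J | J ∈ Dl 𝒦 P ∧ w ∈ NN J}
  have hF : F ⊆ Dl 𝒦 P' := fun J hJ => by
    obtain ⟨y, hy, y2⟩ := exists_inv_of_ne_bot hP.two.to_inf_left hJ.1.2
    obtain ⟨t, ht, t2, k⟩ := exists_inv_fixed_elt (.of_sq w2)
      (inf_normalizer_le_normalizer_inf (mem_inf.2 ⟨le_normalizer hw, hJ.2⟩)) hy y2
    exact ⟨hJ.1.1, fun k' => ne_one_of_two t2 ((eq_bot_iff_forall _).1 k' t ⟨hB t ht.1 k, ht.2⟩)⟩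
  have hM : ∀ J ∈ Dl 𝒦 P \ F, J ≠ J ^ᶜ w ∧ J ^ᶜ w ∈ Dl 𝒦 P \ F := fun J hJ =>
    have k : J ≠ J ^ᶜ w := fun k => hJ.2 ⟨hJ.1, map_conj_eq_self_iff.1 k.symm⟩
    ⟨k, h.conj_mem_Dl_of_mem hw hJ.1, fun k' => k ((ww J).symm.trans (map_conj_eq_of_mem_norm k'.2))⟩
  have cj : ∀ {J s}, s ∈ P ⊓ J → w * s * w⁻¹ ∈ P ⊓ (J ^ᶜ w) := fun hs =>
    ⟨P.mul_mem (mul_mem hw hs.1) (inv_mem hw), conj_mem_map_conj.2 hs.2⟩
  have cm : ∀ {J L s t}, J ∈ Dl 𝒦 P \ F → L ∈ Dl 𝒦 P \ F → J ≠ L → s ∈ P ⊓ J → t ∈ P ⊓ L → Commute s t :=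
    fun hJ hL k hs ht => h.comm hP.two hJ.1.1 hL.1.1 k hs.2 ht.2 hs.1 ht.1
  have cw : ∀ {J s}, J ∈ Dl 𝒦 P \ F → s ∈ P ⊓ J → Commute w (s * (w * s * w⁻¹)) := fun {J s} hJ hs =>
    comm_of_conj_eq (by
      conv_rhs => rw [(cm hJ (hM J hJ).2 (hM J hJ).1 hs (cj hs)).eq]
      rw [← conj_mul, show w * (w * s * w⁻¹) * w⁻¹ = w * w * s * (w * w)⁻¹ by group, w2]
      group)
  have dP : ∀ {J s}, J ∈ Dl 𝒦 P \ F → s ∈ P ⊓ J → s * (w * s * w⁻¹) ∈ P' := fun hJ hs =>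
    hB _ (mul_mem hs.1 (cj hs).1) (cw hJ hs)
  have dF : ∀ {J s}, J ∈ Dl 𝒦 P \ F → s ∈ P ⊓ J → ∀ L ∈ F, s * (w * s * w⁻¹) ∈ NN L := fun {J s} hJ hs L hL =>
    mul_mem ((h.f2 hP.two hJ.1 hL.1 fun k => hJ.2 (k ▸ hL)).2.1 hs.2)
      ((h.f2 hP.two (hM J hJ).2.1 hL.1 fun k => (hM J hJ).2.2 (k ▸ hL)).2.1 (cj hs).2)
  have dS : ∀ {J s}, J ∈ Dl 𝒦 P \ F → s ∈ P ⊓ J → s * (w * s * w⁻¹) ∈ St (Dl 𝒦 P' \ F) := fun hJ hs L => by
    rw [Set.mem_sdiff, Set.mem_sdiff, mem_St_of_NN (dF hJ hs) L, ← h.conj_mem_Dl (P := P') (K := L),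
      map_conj_eq_of_mem (dP hJ hs)]
  let ψ : ∀ {J}, J ∈ Dl 𝒦 P \ F → (↥(P ⊓ J) →* Equiv.Perm ↥(Dl 𝒦 P' \ F)) := fun {J} hJ =>
    (act _).comp (MonoidHom.mk' (fun s => ⟨_, dS hJ s.2⟩) fun s t => Subtype.ext (by
      change s * t * (w * (s * t) * w⁻¹) = s * (w * s * w⁻¹) * (t * (w * t * w⁻¹))
      rw [← conj_mul, mul_assoc, mul_assoc (s : G), ← mul_assoc (t : G),
        (cm hJ (hM J hJ).2 (hM J hJ).1 t.2 (cj s.2)).eq, mul_assoc]))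
  have inj : ∀ {J} (hJ : J ∈ Dl 𝒦 P \ F), Function.Injective (ψ hJ) := fun {J} hJ => by
    rw [← MonoidHom.ker_eq_bot_iff]
    by_contra k
    have hR : IsPGroup 2 ↥(P ⊓ J) := hP.two.to_inf_left
    obtain ⟨y, hy, y2⟩ := exists_inv_of_ne_bot (hR.to_subgroup _) k
    obtain ⟨⟨s, hs⟩, k1, k2, k3⟩ := exists_inv_fixed (hR.to_subgroup ⊤) le_normalizer_of_normal hy y2
    replace k2 : orderOf s = 2 := (orderOf_coe _).trans k2
    have k4 : ∀ L ∈ Dl 𝒦 P', s * (w * s * w⁻¹) ∈ NN L := fun L hL => (em (L ∈ F)).elim (dF hJ hs L) fun k =>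
      map_conj_eq_self_iff.1 (congrArg Subtype.val (Equiv.congr_fun k1 ⟨L, hL, k⟩))
    have k5 := cw hJ hs
    have k6 := dP hJ hs
    have k7 := cm hJ (hM J hJ).2 (hM J hJ).1 hs (cj hs)
    generalize k8 : s * (w * s * w⁻¹) = δ at k4 k5 k6
    have k9 : Commute δ z1 := comm_of_conj_eq (inv_mul_eq_one.1 (h.eq_one h1 h2 hne
      (mul_mem (inv_mem m1) (conj_mem_of_mem_normalizer (k4 K1
        ⟨h1, fun k => ne_one_of_two (z.two _ hz1) ((eq_bot_iff_forall _).1 k z1 ⟨p1, m1⟩)⟩) m1))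
      (by
        rw [show z1⁻¹ * (δ * z1 * δ⁻¹) = z2 * (δ * z2 * δ⁻¹)⁻¹ by
          rw [inv_mul_eq_iff_eq_mul, ← mul_assoc z1, eq_mul_inv_iff_mul_eq, conj_mul, e, conj_eq_of_comm k5.symm]]
        exact mul_mem m2 (inv_mem (conj_mem_of_mem_normalizer (k4 K2
          ⟨h2, fun k => ne_one_of_two (z.two _ hz2) ((eq_bot_iff_forall _).1 k z2 ⟨p2, m2⟩)⟩) m2)))
      (.of_mem hP'.two (mul_mem (inv_mem p1) (mul_mem (mul_mem k6 p1) (inv_mem k6)))))).symm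
    have mD : ∀ {g}, g ∈ P' → Commute g w → Commute g δ → g ∈ P' ⊓ centralizer {w} ⊓ centralizer {δ} :=
      fun a b c => ⟨⟨a, mem_centralizer_singleton_iff.2 b⟩, mem_centralizer_singleton_iff.2 c⟩
    refine lemX hP'.two.to_inf_left.to_inf_left (mD (e ▸ mul_mem p1 p2) rfl k5)
      (fun d hd => mem_centralizer_singleton_iff.1 hd.1.2) w2 (mul_self_of_two k2) k7
      (fun k => ne_one_of_two k2 (h.eq_one hJ.1.1 (hM J hJ).2.1.1 (hM J hJ).1 hs.2 (k ▸ (cj hs).2) (.of_two k2)))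
      (Commute.one_left w) (fun d hd => by rw [k8, one_mul, inv_one, mul_one]; exact mem_centralizer_singleton_iff.1 hd.2)
      fun g Q hQ hD hg => ?_
    have key : ∀ L ∈ 𝒦, ∀ d ∈ D, d ∈ L → d ∈ Q → Commute (g * s * g⁻¹) d := fun L hL d hd dL dQ => by
      by_cases k : J ^ᶜ g = L
      · exact (z.cen _ (h.conj J hJ.1.1 g) _ ((h.syl_inf hP hJ.1).conj g) _ (conj_mem_map_conj.2 hs)
          (conj_mem_CC g (mem_CC.2 fun x hx => congrArg Subtype.val (k3 ⟨x, hx⟩ trivial))) Q hQ d hd (k ▸ dL) dQ hg).symm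
      · exact h.comm hQ (h.conj J hJ.1.1 g) hL k (conj_mem_map_conj.2 hs.2) dL hg dQ
    exact e ▸ (key _ h1 _ hz1 m1 (hD (mD p1 (e ▸ (Commute.refl _).mul_right hc) k9.symm))).mul_right
      (key _ h2 _ hz2 m2 (hD (mD p2 (e ▸ hc.symm.mul_right (.refl _))
        (by simpa [← e] using k9.symm.inv_left.mul_left k5))))
  let f := Finite.equivFin (Subgroup G)
  let C := {J | J ∈ Dl 𝒦 P \ F ∧ f J < f (J ^ᶜ w)}
  have hC : Dl 𝒦 P \ F ⊆ C ∪ (· ^ᶜ w) '' C := fun J hJ => (lt_or_gt_of_ne (f.injective.ne (hM J hJ).1)).imp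
    (And.intro hJ) fun k => ⟨_, ⟨(hM J hJ).2, by rwa [ww]⟩, ww J⟩
  have : Nonempty C := by
    rcases hC ⟨hK, fun k => hn k.2⟩ with k | ⟨L, k, -⟩
    exacts [⟨⟨K, k⟩⟩, ⟨⟨L, k⟩⟩]
  refine perm_bd ((hP'.two.comap_subtype (K := St (Dl 𝒦 P' \ F))).map (act _)) (fun J : C => (ψ J.2.1).range)
    ?_ (fun J k => na _ J.2.1.1.1 _ (h.syl_inf hP J.2.1.1) fun x hx y hy => ?_) ?_ ?_
  · rintro J _ ⟨s, rfl⟩
    exact ⟨_, dP J.2.1 s.2, rfl⟩
  · exact congrArg Subtype.val (Commute.of_map (inj J.2.1) (k _ ⟨⟨x, hx⟩, rfl⟩ _ ⟨⟨y, hy⟩, rfl⟩))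
  · rintro ⟨J, hJ, k1⟩ ⟨L, hL, k2⟩ k _ ⟨s, rfl⟩ _ ⟨t, rfl⟩
    replace k : L ≠ J := fun e => k (Subtype.ext e.symm)
    have k3 : L ≠ J ^ᶜ w := fun e => by rw [e, ww] at k2; exact lt_asymm k1 k2
    have k4 : L ^ᶜ w ≠ J := fun e => by rw [← e, ww] at k1; exact lt_asymm k1 k2
    refine Commute.map (Subtype.ext ?_) (act _)
    exact ((cm hL hJ k t.2 s.2).mul_right (cm hL (hM J hJ).2 k3 t.2 (cj s.2))).mul_left
      ((cm (hM L hL).2 hJ k4 (cj t.2) s.2).mul_right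
        (cm (hM L hL).2 (hM J hJ).2 (mt map_conj_inj.1 k) (cj t.2) (cj s.2)))
  · rw [Nat.card_coe_set_eq, Nat.card_coe_set_eq, Set.ncard_sdiff hF, h.ncard_Dl hP' hP,
      ← Set.ncard_sdiff fun _ k => k.1, two_mul]
    exact (Set.ncard_le_ncard hC).trans ((Set.ncard_union_le _ _).trans (Nat.add_le_add_left Set.ncard_image_le _))

end SCb

/-- A product of two commuting members of `D` normalizes the clique of every Sylow subgroup
containing it. -/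
theorem HF.w2 (h : HF 𝒦) {D : Set G} (z : ZD0 𝒦 D)
    (na : ∀ K ∈ 𝒦, ∀ S : Subgroup G, Syl S K → ¬ Ab S) {K1 K2 : Subgroup G} (h1 : K1 ∈ 𝒦)
    (h2 : K2 ∈ 𝒦) (hne : K1 ≠ K2) {z1 z2 : G} (hz1 : z1 ∈ D) (hz2 : z2 ∈ D) (m1 : z1 ∈ K1)
    (m2 : z2 ∈ K2) (hc : Commute z1 z2) {P K : Subgroup G} (hP : Syl P ⊤) (hw : z1 * z2 ∈ P)
    (hK : K ∈ Dl 𝒦 P) : z1 * z2 ∈ NN K := by
  by_contra hn
  obtain ⟨c, k1, Q, hQ, k2, k3⟩ := exists_conj_two (H := centralizer {z1 * z2}) (X := zpowers z1 ⊔ zpowers z2)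
    (two_sup (Two.of_two (z.two _ hz1)).isPGroup (Two.of_two (z.two _ hz2)).isPGroup (zpowers_le.2 (CC_le_NN _ (by
      rw [CC, centralizer_zpowers]; exact mem_centralizer_singleton_iff.2 hc.symm))))
    (sup_le (zpowers_le.2 (mem_centralizer_singleton_iff.2 ((Commute.refl _).mul_right hc)))
      (zpowers_le.2 (mem_centralizer_singleton_iff.2 (hc.symm.mul_right (.refl _)))))
    (hP.two.to_inf_left (K := centralizer {z1 * z2})) inf_le_right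
  obtain ⟨P', k4, hP'⟩ := exists_syl_ge hQ.two (le_top (a := Q))
  exact SCb.core h z na (h.conj _ h1 c) (h.conj _ h2 c) (mt map_conj_inj.1 hne) (z.conj _ hz1 c) (z.conj _ hz2 c)
    (conj_mem_map_conj.2 m1) (conj_mem_map_conj.2 m2) (comm_conj c hc)
    (conj_mul.trans (conj_eq_of_comm (mem_centralizer_singleton_iff.1 k1))) hP hP' hw
    (k4 (k2 (conj_mem_map_conj.2 (mem_sup_left (mem_zpowers _)))))
    (k4 (k2 (conj_mem_map_conj.2 (mem_sup_right (mem_zpowers _)))))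
    (fun x hx k => k4 (k3 ⟨hx, mem_centralizer_singleton_iff.2 k.symm⟩)) hK hn

end Cfsg.Agent.CT8
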