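import Mathlib
import Cfsg.Agent.CT8.L3S
import Cfsg.Agent.CT8.N2of

/-! The local structure of a pair of type (iii) (S1308, piece T3a). -/

set_option autoImplicit false
set_option linter.unusedSectionVars false
set_option linter.unusedVariables false

namespace Cfsg.Agent.CT8

open Subgroup Cfsg.Agent.GT Cfsg.Agent.Inv Cfsg.Agent.Cmp
open scoped commutatorElement

variable {G : Type*} [Group G] [Finite G] {𝒦 : Set (Subgroup G)}

namespace T3a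

theorem sq_of_idx {H K : Subgroup G} (h : H.relIndex K = 2) {x : G} (hx : x ∈ K) : x * x ∈ H := by
  have := Subgroup.mul_self_mem_of_index_two (H := H.subgroupOf K) h ⟨x, hx⟩
  simpa [mem_subgroupOf] using this

variable {K R S T : Subgroup G} (n : Nf K R S T) (he : El S) (h4 : 4 ≤ Nat.card T)
  (hn : ¬ R ≤ NN (S ⊔ T)) {v : G} (hv : v ∈ R) (hvW : v ∉ NN (S ⊔ T))
include n he h4 hn hv hvW

theorem inf_eq : (S ⊔ T) ⊓ (S ⊔ T) ^ᶜ v = S := n.inf_eq he (n.U_le he h4 hn hv) hvW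

theorem mem_of_Wv {g : G} (hg : g ∈ (S ⊔ T) ^ᶜ v) (hK : g ∈ K) : v⁻¹ * g * v ∈ S :=
  n.memK n.TS n.SK (GT.mem_map_conj.1 hg)
    (mul_mem (mul_mem (inv_mem (n.syl.le hv)) hK) (n.syl.le hv))

theorem S_conj : S ^ᶜ v = S := by
  refine (eq_of_le_of_card_ge (fun g hg => ?_) (by rw [GT.card_map_conj])).symm
  have h1 : g ∈ (S ⊔ T) ⊓ (S ⊔ T) ^ᶜ v := by rwa [inf_eq n he h4 hn hv hvW]
  exact GT.mem_map_conj.2 (mem_of_Wv n he h4 hn hv hvW h1.2 (n.SK hg))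

theorem S_le_Wv : S ≤ (S ⊔ T) ^ᶜ v := fun g hg => by
  have h1 : g ∈ (S ⊔ T) ⊓ (S ⊔ T) ^ᶜ v := by rwa [inf_eq n he h4 hn hv hvW]
  exact h1.2

theorem psi_mem {t : G} (ht : t ∈ T) : t⁻¹ * (v * t * v⁻¹) ∈ R ⊓ NN (S ⊔ T) :=
  mem_inf.2 ⟨n.phiU hv ht, ((n.str he h4 hn).2 v hv hvW).1 t ht⟩

theorem psi_inj {t t' : G} (ht : t ∈ T) (ht' : t' ∈ T)
    (e : (t⁻¹ * (v * t * v⁻¹))⁻¹ * (t'⁻¹ * (v * t' * v⁻¹)) ∈ S) : t = t' := by
  have a1 : v * t * v⁻¹ ∈ (S ⊔ T) ^ᶜ v := GT.conj_mem_map_conj.2 (mem_sup_right ht)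
  have a2 : v * t' * v⁻¹ ∈ (S ⊔ T) ^ᶜ v := GT.conj_mem_map_conj.2 (mem_sup_right ht')
  have a3 := mul_mem (mul_mem a1 (S_le_Wv n he h4 hn hv hvW e)) (inv_mem a2)
  have a4 : v * t * v⁻¹ * ((t⁻¹ * (v * t * v⁻¹))⁻¹ * (t'⁻¹ * (v * t' * v⁻¹))) * (v * t' * v⁻¹)⁻¹ =
      t * t'⁻¹ := by group
  rw [a4] at a3
  have a5 : t * t'⁻¹ ∈ T := mul_mem ht (inv_mem ht')
  have a6 : t * t'⁻¹ ∈ S := by
    rw [← inf_eq n he h4 hn hv hvW]; exact mem_inf.2 ⟨mem_sup_right a5, a3⟩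
  exact mul_inv_eq_one.1 (n.eq_one_of_K a5 (n.SK a6))

theorem psi_eq_one {t : G} (ht : t ∈ T) (e : t⁻¹ * (v * t * v⁻¹) ∈ S) : t = 1 :=
  (psi_inj n he h4 hn hv hvW (one_mem _) ht (by simpa using e)).symm

theorem om : Om S (R ⊓ NN (S ⊔ T)) := fun x => by
  refine ⟨fun hx => ⟨n.SR hx, he x hx⟩, fun ⟨hx, h2⟩ => ?_⟩
  rcases n.mem_or_mem he (n.U_le he h4 hn hv) hvW (mem_sup_left hx) h2 with h | h
  · exact n.memK n.TS n.SK h (n.RK hx)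
  · rw [← S_conj n he h4 hn hv hvW]
    exact GT.mem_map_conj.2 (mem_of_Wv n he h4 hn hv hvW h (n.RK hx))

theorem key (r : Rt S (R ⊓ NN (S ⊔ T)) T) {t : G} (ht : t ∈ T) (h1 : t ≠ 1)
    (hc : Commute v (t⁻¹ * (v * t * v⁻¹))) : (t⁻¹ * (v * t * v⁻¹))⁻¹ * (v * v) ∈ S := by
  have m := psi_mem n he h4 hn hv hvW ht
  refine (r.ns _ (mul_mem (inv_mem m) (sq_of_idx (n.str he h4 hn).1 hv)) t ht
    (comm_of_conj_eq ?_)).resolve_right h1
  have t2 : t * t = 1 := n.elemT' he ht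
  have e4 := he _ (n.sq_mem m.1 m.2)
  have e := conj_eq_of_comm hc
  have a2 : v * t * v⁻¹ * (v * t * v⁻¹) = 1 := by
    calc _ = v * (t * t) * v⁻¹ := by group
      _ = 1 := by rw [t2]; group
  have eb : v * v * t * (v * v)⁻¹ = v * t * v⁻¹ * (t⁻¹ * (v * t * v⁻¹)) := by
    rw [← e]; group
  have e5 : (t⁻¹ * (v * t * v⁻¹))⁻¹ * (v * v) * t * ((t⁻¹ * (v * t * v⁻¹))⁻¹ * (v * v))⁻¹ =
      (t⁻¹ * (v * t * v⁻¹))⁻¹ * (v * v * t * (v * v)⁻¹) * (t⁻¹ * (v * t * v⁻¹)) := by group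
  rw [e5, eb]
  generalize v * t * v⁻¹ = a at a2 e4
  have ia := inv_of_mul_self a2
  have it := inv_of_mul_self t2
  rw [mul_inv_rev, it, it, ia]
  rw [it] at e4
  calc a * t * (a * (t * a)) * (t * a) = t⁻¹ * (t * a * (t * a) * (t * a * (t * a))) := by group
    _ = t := by rw [e4, mul_one, it]

theorem mem_NN_Wv {t : G} (ht : t ∈ T) : t ∈ NN ((S ⊔ T) ^ᶜ v) := by
  have h1 : v⁻¹ * t * v ∈ NN (S ⊔ T) :=
    Nf.RT_le (GT.conj_mem_of_mem_normalizer' (n.U_le he h4 hn hv) (mem_sup_right ht))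
  simpa [mul_assoc] using conj_mem_NN v h1

theorem com (r : Rt S (R ⊓ NN (S ⊔ T)) T) {u w : G} (hu : u ∈ T) (hw : w ∈ T ^ᶜ v) :
    ⁅u, w⁆ ∈ S := by
  obtain ⟨t, ht, rfl⟩ := GT.mem_map_conj_iff_exists.1 hw
  have h1 := inv_mem (r.com _ (psi_mem n he h4 hn hv hvW ht) u hu)
  have h2 := conj_eq_of_comm (n.commST h1 ht).symm
  have h3 := (n.commT hu ht).eq
  have h5 : ⁅u, v * t * v⁻¹⁆ = t * ⁅t⁻¹ * (v * t * v⁻¹), u⁆⁻¹ * t⁻¹ := by
    simp only [commutatorElement_def]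
    calc _ = u * t * (t⁻¹ * (v * t * v⁻¹)) * u⁻¹ * (v * t * v⁻¹)⁻¹ := by group
      _ = _ := by rw [h3]; group
  rw [h5, h2]; exact h1

theorem ns (r : Rt S (R ⊓ NN (S ⊔ T)) T) {u w : G} (hu : u ∈ T) (hw : w ∈ T ^ᶜ v)
    (hc : Commute u w) : u = 1 ∨ w = 1 := by
  obtain ⟨t, ht, rfl⟩ := GT.mem_map_conj_iff_exists.1 hw
  rcases r.ns _ (psi_mem n he h4 hn hv hvW ht) u hu
    ((n.commT (inv_mem ht) hu).mul_left hc.symm) with h | h
  · right; rw [psi_eq_one n he h4 hn hv hvW ht h]; group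
  · exact Or.inl h

theorem EV : S ≤ CC (T ^ᶜ v) := fun s hs => mem_CC.2 fun w hw =>
  n.commWv v (map_mono le_sup_right hw) (S_le_Wv n he h4 hn hv hvW hs)

theorem hu {x : G} (hx : x ∈ R ⊓ NN (S ⊔ T)) :
    ∃ u ∈ T, x * u ∈ CC (T ^ᶜ v) ∧ (x ∉ S → x * u * (x * u) = 1) := by
  obtain ⟨t, ht, s, hs, rfl⟩ := ((n.str he h4 hn).2 v hv hvW).2 x hx
  have h1 : s * (t⁻¹ * (v * t * v⁻¹)) * t ∈ (S ⊔ T) ^ᶜ v := by
    rw [mul_assoc]
    exact mul_mem (S_le_Wv n he h4 hn hv hvW hs) (GT.conj_mem_of_mem_normalizer'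
      (mem_NN_Wv n he h4 hn hv hvW ht) (GT.conj_mem_map_conj.2 (mem_sup_right ht)))
  exact ⟨t, ht, mem_CC.2 fun w hw => n.commWv v (map_mono le_sup_right hw) h1,
    fun _ => n.elemWv he v h1⟩

/-- Every element of `S` is a square in `R`. -/
theorem exists_sq (ha : Ab (R ⊓ NN (S ⊔ T))) {s : G} (hs : s ∈ S) : ∃ x ∈ R, x * x = s := by
  have m := fun t : T => psi_mem n he h4 hn hv hvW t.2
  let f : T → S := fun t => ⟨_, n.sq_mem (m t).1 (m t).2⟩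
  have hf : Function.Injective f := fun a b e => by
    refine Subtype.ext (psi_inj n he h4 hn hv hvW a.2 b.2 ((om n he h4 hn hv hvW _).2
      ⟨mul_mem (inv_mem (m a)) (m b), ?_⟩))
    have e1 := congrArg Subtype.val e
    have c := (ha _ (m b) _ (inv_mem (m a))).eq
    simp only [f] at e1
    generalize (a : G)⁻¹ * (v * a * v⁻¹) = x at e1 c
    generalize (b : G)⁻¹ * (v * b * v⁻¹) = y at e1 c
    calc x⁻¹ * y * (x⁻¹ * y) = x⁻¹ * (y * x⁻¹) * y := by group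
      _ = (x * x)⁻¹ * (y * y) := by rw [c]; group
      _ = 1 := by rw [e1]; group
  obtain ⟨t, e⟩ := (hf.bijective_of_nat_card_le n.card.le).2 ⟨s, hs⟩
  exact ⟨_, (m t).1, congrArg Subtype.val e⟩

end T3a

/-- The local structure of a pair of type (iii). -/
theorem W2.t3 (h : W2 𝒦) {K L R T T0 : Subgroup G} (hK : K ∈ 𝒦) (hL : L ∈ 𝒦)
    (p : PD K L R T T0) (hc : ¬ HC K L) (hn : ¬ R ≤ NN (T0 ⊔ T)) :
    Core K T0 (R ⊓ NN (T0 ⊔ T)) ∧ Nat.card R = 32 ∧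
      (∀ x ∈ R, x ∈ CC (R ⊓ NN (T0 ⊔ T)) → x ∈ NN (T0 ⊔ T)) ∧
      (∀ E Z : Subgroup G, Core K E Z → Z ≤ R → Z = R ⊓ NN (T0 ⊔ T)) ∧
      ∃ v ∈ R, L3 L (L ^ᶜ v) K T (T ^ᶜ v) T0 := by
  have n := p.nf_of_fh h.fh hK hL hc
  obtain ⟨he, f4⟩ := h.el K hK L hL R T T0 p hc
  have h4 := four_le_card f4
  have eT : El T := fun x hx => n.elemT' he hx
  have r := p.rt h.fh hK hL hc he
  obtain ⟨v, hv, hvW⟩ := SetLike.not_le_iff_exists.1 hn
  have c1 : Nat.card (R ⊓ NN (T0 ⊔ T) : Subgroup G) = Nat.card T * Nat.card T :=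
    le_antisymm n.card_R_le (n.card_R_ge hn)
  have c2 : Nat.card R = 2 * Nat.card (R ⊓ NN (T0 ⊔ T) : Subgroup G) := by
    rw [Loc.card_eq_relIndex_mul_card (inf_le_left : R ⊓ NN (T0 ⊔ T) ≤ R), (n.str he h4 hn).1]
  obtain ⟨R', p'⟩ := p.symm h.toTI hK hL
  have hc' : ¬ HC L K := fun e => hc e.symm
  have n' := p'.nf_of_fh h.fh hL hK hc'
  have r' := p'.rt h.fh hL hK hc' eT
  have hn' : ¬ R' ≤ NN (T ⊔ T0) := fun e => by
    have a1 := n'.card_R_le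
    obtain ⟨g, -, e2⟩ := h.toTI.syl_conj hK hL p.sR p'.sR
    rw [inf_eq_left.2 e, e2, GT.card_map_conj, c2, c1, n.card] at a1
    have : 0 < Nat.card T * Nat.card T := Nat.mul_pos Nat.card_pos Nat.card_pos
    omega
  have c1' : Nat.card (R' ⊓ NN (T ⊔ T0) : Subgroup G) = Nat.card T * Nat.card T := by
    rw [← n.card]; exact le_antisymm n'.card_R_le (n'.card_R_ge hn')
  have o := T3a.om n he h4 hn hv hvW
  have co : Core K T0 (R ⊓ NN (T0 ⊔ T)) :=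
    l3s h.toTI hL hK p.ne eT n.card.symm h4 n.RK o r (by rw [c1, n.card]) n'.RK r' c1' p.sT0
      (fun e => p.neT (GT.map_conj_eq_bot_iff.1 e)) (T3a.EV n he h4 hn hv hvW)
      (fun u hu w hw => T3a.ns n he h4 hn hv hvW r hu hw) fun x hx => T3a.hu n he h4 hn hv hvW hx
  have c32 : Nat.card R = 32 := by rw [c2, co.cZ]
  have vK : K ^ᶜ v = K := GT.map_conj_eq_of_mem (n.syl.le hv)
  refine ⟨co, c32, fun x hx hC => by_contra fun hW => ?_, fun E Z cz hZ => ?_, v, hv,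
    p.ne.symm, fun e => p.ne ?_, hc', fun e => hc' ?_, p.sT.le.trans inf_le_left,
    map_mono (p.sT.le.trans inf_le_left), n.SK, p.le_CC, T3a.EV n he h4 hn hv hvW,
    fun u hu w hw => T3a.com n he h4 hn hv hvW r hu hw,
    fun u hu w hw => T3a.ns n he h4 hn hv hvW r hu hw⟩
  · obtain ⟨a, ha, b, hb, a2, b2, hab, -⟩ := f4
    have k := fun t ht h1 => T3a.key n he h4 hn hx hW r (t := t) ht h1
      (comm_of_CC hC (T3a.psi_mem n he h4 hn hx hW ht)).symm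
    refine hab (T3a.psi_inj n he h4 hn hx hW ha hb ?_)
    have := mul_mem (k a ha (ne_one_of_two a2)) (inv_mem (k b hb (ne_one_of_two b2)))
    convert this using 1
    group
  · by_cases hle : Z ≤ NN (T0 ⊔ T)
    · exact eq_of_le_of_card_ge (le_inf hZ hle) (by rw [co.cZ, cz.cZ])
    exfalso
    obtain ⟨x, hx, hW⟩ := SetLike.not_le_iff_exists.1 hle
    have i2 : Z.relIndex R = 2 := by
      have := Loc.card_eq_relIndex_mul_card hZ
      rw [c32, cz.cZ] at this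
      omega
    have hT0 : T0 ≤ Z := fun s hs => by
      obtain ⟨y, hy, rfl⟩ := T3a.exists_sq n he h4 hn hv hvW co.ab hs
      exact T3a.sq_of_idx i2 hy
    have hx2 : x * x ∈ T0 := (o _).2 ⟨T3a.sq_of_idx (n.str he h4 hn).1 (hZ hx),
      cz.om.el _ (cz.sq x hx)⟩
    have hnl : ¬ Z ⊓ (R ⊓ NN (T0 ⊔ T)) ≤ T0 := fun e => by
      have a1 := (Loc.card_mul_card_le_card_sup_mul_card_inf Z (R ⊓ NN (T0 ⊔ T))).trans
        (Nat.mul_le_mul (card_le_of_le (sup_le hZ inf_le_left)) (card_le_of_le e))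
      rw [cz.cZ, co.cZ, c32, co.cE] at a1
      omega
    obtain ⟨y, hy, hy0⟩ := SetLike.not_le_iff_exists.1 hnl
    obtain ⟨t, ht, s, hs, rfl⟩ := ((n.str he h4 hn).2 x (hZ hx) hW).2 y hy.2
    have h1 : t ≠ 1 := by
      rintro rfl
      exact hy0 (by simpa using hs)
    have := T3a.key n he h4 hn (hZ hx) hW r ht h1
      (cz.ab _ hx _ ((mul_mem_cancel_left (hT0 hs)).1 hy.1))
    exact hy0 (mul_mem hs (inv_mem_iff.1 ((mul_mem_cancel_right hx2).1 this)))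
  · rw [← vK] at e; exact (GT.map_conj_inj.1 e).symm
  · rw [← vK] at e; exact (hc_conj_iff v).1 e

end Cfsg.Agent.CT8
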