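import Mathlib
import Cfsg.Agent.CT8.T3a

/-! The world of type (iii) pairs is a world of `4 × 4` cores (S1308, piece T3CW). -/

set_option autoImplicit false
set_option linter.unusedSectionVars false
set_option linter.unusedVariables false

namespace Cfsg.Agent.CT8

open Subgroup Cfsg.Agent.GT Cfsg.Agent.Inv Cfsg.Agent.Cmp
open scoped commutatorElement

variable {G : Type*} [Group G] [Finite G] {𝒦 : Set (Subgroup G)}

namespace T3CW

/-- The structure of a Sylow subgroup. -/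
def SP (K S : Subgroup G) : Prop :=
  Nat.card S = 32 ∧ ∃ E Z, Core K E Z ∧ Z ≤ S ∧ (∀ x ∈ S, x ∈ CC Z → x ∈ Z) ∧
    ∀ E' Z', Core K E' Z' → Z' ≤ S → Z' = Z

theorem SP.conj {K S : Subgroup G} (h : SP K S) (g : G) : SP (K ^ᶜ g) (S ^ᶜ g) := by
  obtain ⟨h1, E, Z, h2, h3, h4, h5⟩ := h
  refine ⟨by rw [card_map_conj, h1], E ^ᶜ g, Z ^ᶜ g, h2.conj g, map_mono h3, fun x hx hc => ?_,
    fun E' Z' c hle => ?_⟩
  · rw [CC_conj, mem_map_conj] at hc
    exact mem_map_conj.2 (h4 _ (mem_map_conj.1 hx) hc)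
  · have c' := c.conj g⁻¹
    rw [map_conj_inv_map_conj] at c'
    have := h5 _ _ c' (le_map_conj_iff.1 hle)
    rw [← this, map_conj_map_conj_inv]

theorem core_two {K E Z : Subgroup G} (c : Core K E Z) : IsPGroup 2 Z := IsPGroup.of_card (n := 4) c.cZ

theorem om_eq {E E' Z : Subgroup G} (h : Om E Z) (h' : Om E' Z) : E = E' :=
  Subgroup.ext fun x => (h x).trans (h' x).symm

theorem ne_bot_of_card {E : Subgroup G} {n : ℕ} (h : Nat.card E = n) (h1 : n ≠ 1) : E ≠ ⊥ := fun e => by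
  rw [e, card_bot] at h
  exact h1 h.symm

variable (h : W2 𝒦) (sp : ∀ K ∈ 𝒦, ∀ S, Syl S K → SP K S)
include h sp

theorem not_le {K L R T T0 : Subgroup G} (hK : K ∈ 𝒦) (hL : L ∈ 𝒦) (p : PD K L R T T0) (hc : ¬ HC K L) :
    ¬ R ≤ NN (T0 ⊔ T) := fun hn => by
  have r := p.rt h.fh hK hL hc (h.el K hK L hL R T T0 p hc).1
  rw [inf_eq_left.2 hn] at r
  obtain ⟨h1, E, Z, c, h3, h4, -⟩ := sp K hK R p.sR
  have h5 : T0 ≤ E := fun x hx =>
    (c.om x).2 ⟨h4 x (p.le hx) (centralizer_le h3 (r.cen hx)), (h.el K hK L hL R T T0 p hc).1 x hx⟩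
  have h6 := card_le_of_le h5
  have h7 := r.card_le p.neT
  rw [h1] at h7
  rw [c.cE] at h6
  have := Nat.mul_le_mul h6 h6
  omega

theorem core_of {K L R T T0 : Subgroup G} (hK : K ∈ 𝒦) (hL : L ∈ 𝒦) (p : PD K L R T T0) (hc : ¬ HC K L) :
    Core K T0 (R ⊓ NN (T0 ⊔ T)) := (h.t3 hK hL p hc (not_le h sp hK hL p hc)).1

theorem card_T {K L R T T0 : Subgroup G} (hK : K ∈ 𝒦) (hL : L ∈ 𝒦) (p : PD K L R T T0) (hc : ¬ HC K L) :
    Nat.card T = 4 := p.card ▸ (core_of h sp hK hL p hc).cE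

theorem cw : CW 𝒦 where
  toFm := h.toFm
  fh := h.fh
  ex K hK := by
    obtain ⟨S, hS⟩ := exists_syl K
    obtain ⟨-, E, Z, c, -⟩ := sp K hK S hS
    exact ⟨E, Z, c⟩
  uniq K hK E Z E' Z' c c' h2 := by
    obtain ⟨S, hle, hS⟩ := exists_syl_ge h2 (sup_le c.le c'.le)
    obtain ⟨-, E0, Z0, -, -, -, h5⟩ := sp K hK S hS
    exact (h5 _ _ c (le_sup_left.trans hle)).trans (h5 _ _ c' (le_sup_right.trans hle)).symm
  rt K hK L hL hne hc E Z F c pF hn := by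
    obtain ⟨Y, cF⟩ := pF
    have F2 : IsPGroup 2 F := cF.om.el.two
    have FL : F ≤ L := cF.om.le.trans cF.le
    have F0 : F ≠ ⊥ := ne_bot_of_card cF.cE (by norm_num)
    obtain ⟨z, hz, z2⟩ := exists_inv_of_ne_bot (core_two c) (ne_bot_of_card c.cZ (by norm_num))
    have FK : F ≤ NN K := fun f hf =>
      h.toTI.mem_NN_of_conj hK (c.le hz) (Two.of_two z2) (fun e => by simp [e] at z2)
        (c.le (conj_mem_of_mem_normalizer (hn hf) hz))
    obtain ⟨S, hS, ZS, FS⟩ := exists_inv_syl F2 FK (core_two c) c.le hn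
    obtain ⟨R', T', T0', p', hle⟩ := h.toTI.exists_pd hK hL hne F2 FL FK F0
    have e : F = T' := eq_of_le_of_card_ge hle (by rw [card_T h sp hK hL p' hc, cF.cE])
    have p := h.toTI.pair hK hL hne (e ▸ p'.sT) F0 hS FS
    obtain ⟨c0, -, -, h4, -⟩ := h.t3 hK hL p hc (not_le h sp hK hL p hc)
    have eZ := h4 E Z c ZS
    have eE : E = S ⊓ CC F := om_eq c.om (eZ ▸ c0.om)
    rw [eZ, eE]
    exact p.rt h.fh hK hL hc (h.el K hK L hL _ _ _ p hc).1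
  small K hK L hL hne hc X XK XL X2 := by
    by_cases h0 : X = ⊥
    · rw [h0, card_bot]; norm_num
    obtain ⟨R, T, T0, p, hle⟩ := h.toTI.exists_pd hL hK hne.symm X2 XK XL h0
    rw [← card_T h sp hL hK p fun e => hc e.symm]
    exact card_le_of_le hle
  sc K hK E Z c x hx x2 xc := by
    obtain ⟨S, hle, hS⟩ := exists_syl_ge (two_sup (core_two c) x2.isPGroup (zpowers_le.2 (CC_le_NN _ xc)))
      (sup_le c.le (zpowers_le.2 hx))
    obtain ⟨-, E0, Z0, -, -, h4, h5⟩ := sp K hK S hS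
    have e := h5 _ _ c (le_sup_left.trans hle)
    subst e
    exact h4 x (hle (mem_sup_right (mem_zpowers x))) xc

end T3CW

theorem W2.cw (h : W2 𝒦) {K L R T T0 : Subgroup G} (hK : K ∈ 𝒦) (hL : L ∈ 𝒦)
    (p : PD K L R T T0) (hc : ¬ HC K L) (hn : ¬ R ≤ NN (T0 ⊔ T)) :
    ∃ K2 V : Subgroup G, L3c 𝒦 L K2 K T V T0 := by
  obtain ⟨c, h2, h3, h4, v, hv, l⟩ := h.t3 hK hL p hc hn
  have s0 : T3CW.SP K R := ⟨h2, _, _, c, inf_le_left, fun x hx hc => ⟨hx, h3 x hx hc⟩, h4⟩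
  have sp : ∀ K' ∈ 𝒦, ∀ S, Syl S K' → T3CW.SP K' S := fun K' hK' S hS => by
    obtain ⟨g, rfl, rfl⟩ := h.toTI.syl_conj hK hK' p.sR hS
    exact s0.conj g
  obtain ⟨R', p'⟩ := p.symm h.toTI hK hL
  have p1 : Pt L T := ⟨_, T3CW.core_of h sp hL hK p' fun e => hc e.symm⟩
  exact ⟨L ^ᶜ v, T ^ᶜ v, l, T3CW.cw h sp, hL, h.conj L hL v, hK, p1, p1.conj v, ⟨_, c⟩⟩

end Cfsg.Agent.CT8
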