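import Mathlib
import Cfsg.Agent.CT8.FR

/-! S1308, piece T4a: the product condition.  See `stubs/Cfsg/Agent/CT8/PLAN.md`. -/

set_option autoImplicit false
set_option linter.unusedSectionVars false
set_option linter.unusedVariables false

namespace Cfsg.Agent.CT8

open Subgroup Cfsg.Agent.GT Cfsg.Agent.Inv Cfsg.Agent.Cmp
open scoped commutatorElement

variable {G : Type*} [Group G] [Finite G] {𝒦 : Set (Subgroup G)}

namespace T4a

/-- `Z*` modulo a central involution. -/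
theorem zstar {H : Subgroup G} {w d z : G} (hw : w * w = 1) (hw1 : w ≠ 1)
    (hwc : ∀ g : G, Commute g w)
    (hd : d * d = 1) (hz : z * z = 1) (hdz : Commute d z)
    (h0 : ∀ v ∈ ({d, z, d * z} : Set G), v ≠ 1 ∧ v ≠ w ∧ ∀ g : G, Commute g v → g ∈ H)
    (h1 : ∀ g : G, g * d * g⁻¹ = d * w → g ∈ H)
    (h2 : ∀ g : G, g * d * g⁻¹ ∈ H → Two (g * d * g⁻¹ * d) →
      g * d * g⁻¹ = d ∨ g * d * g⁻¹ = d * w) (g : G) : g ∈ H := by
  have hmem : ∀ x ∈ zpowers w, x = 1 ∨ x = w := by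
    rintro _ ⟨k, rfl⟩
    have e : w ^ (2 : ℤ) = 1 := by rw [zpow_two, hw]
    rcases Int.even_or_odd' k with ⟨j, rfl | rfl⟩
    · left; simp only [zpow_mul, e, one_zpow]
    · right; simp only [zpow_add, zpow_mul, e, one_zpow, one_mul, zpow_one]
  have : (zpowers w).Normal := ⟨fun x hx g => by
    rcases hmem x hx with e | e
    · simp [e]
    · rw [e, conj_eq_of_comm (hwc g)]; exact mem_zpowers w⟩
  set π := QuotientGroup.mk' (zpowers w) with hπ
  have hker : ∀ x, π x = 1 → x = 1 ∨ x = w := fun x hx =>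
    hmem x ((QuotientGroup.eq_one_iff x).1 hx)
  have hπw : π w = 1 := (QuotientGroup.eq_one_iff w).2 (mem_zpowers w)
  have hcomm : ∀ a v : G, Commute (π a) (π v) → a * v * a⁻¹ = v ∨ a * v * a⁻¹ = v * w := by
    intro a v h
    refine (hker (v⁻¹ * (a * v * a⁻¹)) ?_).imp (fun e => ?_) fun e => ?_
    · rw [map_mul, map_mul, map_mul, map_inv, map_inv, conj_eq_of_comm h, inv_mul_cancel]
    · exact (inv_mul_eq_one.1 e).symm
    · exact inv_mul_eq_iff_eq_mul.1 e
  have m1 : d ∈ ({d, z, d * z} : Set G) := by simp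
  have m2 : z ∈ ({d, z, d * z} : Set G) := by simp
  have m3 : d * z ∈ ({d, z, d * z} : Set G) := by simp
  have ne1 : ∀ v ∈ ({d, z, d * z} : Set G), π v ≠ 1 := fun v hv e =>
    (hker v e).elim (h0 v hv).1 (h0 v hv).2.1
  have hd2 : orderOf (π d) = 2 := orderOf_two_of (by rw [← map_mul, hd, map_one]) (ne1 d m1)
  have hz2 : orderOf (π z) = 2 := orderOf_two_of (by rw [← map_mul, hz, map_one]) (ne1 z m2)
  have hH : ∀ c : G, Commute (π c) (π d) → c ∈ H := fun c hc =>
    (hcomm c d hc).elim (fun e => (h0 d m1).2.2 c (comm_of_conj_eq e)) (h1 c)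
  have iso : IsIsolatedInvolution (π d) := ⟨hd2, fun q hq => by
    obtain ⟨c, rfl⟩ := QuotientGroup.mk'_surjective (zpowers w) q
    have e : π c * π d * (π c)⁻¹ = π (c * d * c⁻¹) := by simp only [map_mul, map_inv]
    rw [e] at hq ⊢
    have hd' : c * d * c⁻¹ * (c * d * c⁻¹) = 1 := by
      calc c * d * c⁻¹ * (c * d * c⁻¹) = c * (d * d) * c⁻¹ := by group
        _ = 1 := by rw [hd]; group
    have ht : Two (c * d * c⁻¹ * d) := by
      have h3 := hcomm _ d hq.symm
      generalize c * d * c⁻¹ = x at h3 hd'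
      rw [inv_of_mul_self hd'] at h3
      refine ⟨2, ?_⟩
      have e4 : (x * d) ^ 2 ^ 2 = (x * d * x * d) * (x * d * x * d) := by
        simp only [pow_succ, pow_zero, one_mul, mul_assoc]
        norm_num [pow_succ, mul_assoc]
      rw [e4]
      rcases h3 with e' | e' <;> rw [e']
      · rw [hd, one_mul]
      · rw [mul_assoc d w d, ← (hwc d).eq, ← mul_assoc d d w, hd, one_mul, hw]
    rcases h2 c (hH _ hq.symm) ht with e' | e' <;> rw [e']
    rw [map_mul, hπw, mul_one]⟩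
  have hwH : w ∈ H := (h0 d m1).2.2 w (hwc d).symm
  have hO : oddCore (G ⧸ zpowers w) ≤ H.map π := by
    have key : ∀ v ∈ ({d, z, d * z} : Set G),
        oddCore (G ⧸ zpowers w) ⊓ centralizer {π v} ≤ H.map π := by
      rintro v hv q ⟨hq, hc⟩
      obtain ⟨c, rfl⟩ := QuotientGroup.mk'_surjective (zpowers w) q
      refine mem_map_of_mem _ ((h0 v hv).2.2 c (comm_of_conj_eq ?_))
      refine (hcomm c v (mem_centralizer_singleton_iff.1 hc)).resolve_right fun e => ?_
      obtain ⟨j, hj⟩ := odd_card_oddCore (G := G ⧸ zpowers w)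
      have h3 : Commute (c * c) v := comm_of_conj_eq (by
        calc c * c * v * (c * c)⁻¹ = c * (c * v * c⁻¹) * c⁻¹ := by group
          _ = c * (v * w) * c⁻¹ := by rw [e]
          _ = c * v * c⁻¹ * (c * w * c⁻¹) := by group
          _ = v := by rw [e, conj_eq_of_comm (hwc c), mul_assoc, hw, mul_one])
      have h4 : π (c ^ (2 * j + 1)) = 1 := by
        rw [map_pow, ← hj]
        exact congrArg Subtype.val (pow_card_eq_one' (x := (⟨_, hq⟩ : oddCore (G ⧸ zpowers w))))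
      have h5 : Commute (c ^ (2 * j + 1)) v := by
        rcases hker _ h4 with e' | e' <;> rw [e']
        · exact Commute.one_left v
        · exact (hwc v).symm
      rw [pow_succ, pow_mul, sq] at h5
      have h6 : Commute c v := by
        simpa only [inv_mul_cancel_left] using (h3.pow_left j).inv_left.mul_left h5
      rw [conj_eq_of_comm h6] at e
      exact hw1 (left_eq_mul.1 e)
    refine le_of_four_group hd2 hz2 (fun e => ne1 _ m3 ?_) (hdz.map π) (le_normalizer_of_normal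
      (mem_top _)) (le_normalizer_of_normal (mem_top _))
      (odd_card_oddCore (G := G ⧸ zpowers w)).not_two_dvd_nat (key d m1) (key z m2) ?_
    · rw [map_mul, e, mul_self_of_two hz2]
    · rw [← map_mul]; exact key _ m3
  obtain ⟨k, hk, q, hq, e⟩ := iso.exists_oddCore_mul_commute (π g)
  obtain ⟨c, rfl⟩ := QuotientGroup.mk'_surjective (zpowers w) q
  obtain ⟨a, ha, rfl⟩ := hO hk
  have h3 := mul_mem ha (hH c hq)
  rcases hker ((a * c)⁻¹ * g) (by rw [map_mul, map_inv, map_mul, e, inv_mul_cancel]) with e' | e'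
  · exact inv_mul_eq_one.1 e' ▸ h3
  · rw [inv_mul_eq_iff_eq_mul.1 e']
    exact mul_mem h3 hwH

/-- The elements normalizing `M` and centralizing it modulo `O(M)`. -/
def Cm (M : Subgroup G) : Subgroup G where
  carrier := {a | a ∈ NN M ∧ ∀ m ∈ M, ⁅a, m⁆ ∈ Od M}
  one_mem' := ⟨one_mem _, fun m _ => by rw [commutatorElement_one_left]; exact one_mem _⟩
  mul_mem' := fun {a b} ha hb => ⟨mul_mem ha.1 hb.1, fun m hm => by
    have e : ⁅a * b, m⁆ = a * ⁅b, m⁆ * a⁻¹ * ⁅a, m⁆ := by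
      simp only [commutatorElement_def]; group
    rw [e]
    exact mul_mem (conj_mem_of_mem_normalizer (NN_le_NN_Od M ha.1) (hb.2 m hm)) (ha.2 m hm)⟩
  inv_mem' := fun {a} ha => ⟨inv_mem ha.1, fun m hm => by
    have e : ⁅a⁻¹, m⁆ = a⁻¹ * ⁅a, m⁆⁻¹ * a := by
      simp only [commutatorElement_def]; group
    rw [e]
    exact conj_mem_of_mem_normalizer' (NN_le_NN_Od M ha.1) (inv_mem (ha.2 m hm))⟩

theorem mem_Cm (h : TI 𝒦) {M J : Subgroup G} (hM : M ∈ 𝒦) (hJ : J ∈ 𝒦) (hc : HC M J) {a : G}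
    (ha : a ∈ J) : a ∈ Cm M :=
  ⟨hc.2.2 ha, fun m hm => by
    rw [← commutatorElement_inv]
    exact inv_mem (h.inf_le_Od hM hJ hc (hc.comm_mem hm ha))⟩

theorem not_mem_Cm {M : Subgroup G} (h : NS M) {y : G} (hy : y ∈ M) (h2 : orderOf y = 2) :
    y ∉ Cm M := fun hc => h.false hy h2 hc.2

/-- The elements permuting `K` and `L`. -/
def Pm (K L : Subgroup G) : Subgroup G where
  carrier := {g | (K ^ᶜ g = K ∧ L ^ᶜ g = L) ∨ (K ^ᶜ g = L ∧ L ^ᶜ g = K)}
  one_mem' := Or.inl ⟨map_conj_one K, map_conj_one L⟩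
  mul_mem' := fun {a b} ha hb => by
    show (_ ∧ _) ∨ (_ ∧ _)
    rw [map_conj_mul, map_conj_mul]
    rcases ha with ⟨a1, a2⟩ | ⟨a1, a2⟩ <;> rcases hb with ⟨b1, b2⟩ | ⟨b1, b2⟩ <;>
      rw [b1, b2, a1, a2] <;> simp
  inv_mem' := fun {a} ha => by
    rcases ha with ⟨a1, a2⟩ | ⟨a1, a2⟩
    · exact Or.inl ⟨(map_conj_eq_iff.1 a1).symm, (map_conj_eq_iff.1 a2).symm⟩
    · exact Or.inr ⟨(map_conj_eq_iff.1 a2).symm, (map_conj_eq_iff.1 a1).symm⟩

theorem exists_z (h : HF 𝒦) {K L : Subgroup G} (hK : K ∈ 𝒦) (hL : L ∈ 𝒦) (hc : HC K L) {d e : G}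
    (hd : d ∈ K) (he : e ∈ L) (hd2 : orderOf d = 2) (he2 : orderOf e = 2) (hde : Commute d e) :
    ∃ z ∈ K, orderOf z = 2 ∧ z ≠ d ∧ Commute d z ∧ Commute z e := by
  obtain ⟨U, hU, h1, h2⟩ := exists_inv_syl (K := K) (Two.of_two he2).isPGroup
    (zpowers_le.2 (hc.2.2 he)) (Two.of_two hd2).isPGroup (zpowers_le.2 hd)
    (zpowers_le.2 (CC_le_NN _ (mem_CC.2 fun k hk => by
      obtain ⟨n, rfl⟩ := mem_zpowers_iff.1 hk
      exact hde.zpow_left n)))
  have heU := h.toTI.mem_CC_of_hc hK hL hc hU.two hU.le he (h2 (mem_zpowers e))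
  have hdU := h1 (mem_zpowers d)
  obtain ⟨z, hz, hz2, hcz⟩ := exists_inv_fixed hU.two le_normalizer hdU hd2
  by_cases e0 : z = d
  · obtain ⟨a, ha, b, hb, ha2, hb2, hab, -⟩ := hU.four (h.four K hK)
    subst e0
    by_cases e' : a = z
    · exact ⟨b, hU.le hb, hb2, fun e'' => hab (e'.trans e''.symm), (hcz b hb).symm,
        comm_of_CC heU hb⟩
    · exact ⟨a, hU.le ha, ha2, e', (hcz a ha).symm, comm_of_CC heU ha⟩
  · exact ⟨z, hU.le hz, hz2, e0, hcz d hdU, comm_of_CC heU hz⟩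

/-- A member `M` containing an involution normalizing `K` and `L` which is a product of elements
of `K`, `L` and a member `J` related to `M` is `K` or `L`. -/
theorem eq_or_eq (h : HF 𝒦) (ns : ∀ K ∈ 𝒦, NS K) {K L M J : Subgroup G} (hK : K ∈ 𝒦)
    (hL : L ∈ 𝒦) (hM : M ∈ 𝒦) (hJ : J ∈ 𝒦) (hMJ : HC M J) {y d e j : G} (hy : y ∈ M)
    (hy2 : orderOf y = 2) (h1 : y ∈ NN K) (h2 : y ∈ NN L) (hd : d ∈ K) (he : e ∈ L) (hj : j ∈ J)
    (eq : y = j * (d * e)) : M = K ∨ M = L := by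
  by_contra! hne
  have c1 := (h.hc K hK M hM ⟨hne.1.symm, y, hy, hy2, h1⟩).symm
  have c2 := (h.hc L hL M hM ⟨hne.2.symm, y, hy, hy2, h2⟩).symm
  refine not_mem_Cm (ns M hM) hy hy2 ?_
  rw [eq]
  exact mul_mem (mem_Cm h.toTI hM hJ hMJ hj)
    (mul_mem (mem_Cm h.toTI hM hK c1 hd) (mem_Cm h.toTI hM hL c2 he))

end T4a

open T4a in
/-- The product condition. -/
theorem HF.prod (h : HF 𝒦) (ns : ∀ K ∈ 𝒦, NS K) {K L : Subgroup G} (hK : K ∈ 𝒦) (hL : L ∈ 𝒦)
    (hne : K ≠ L) {d e g : G} (hd : d ∈ K) (he : e ∈ L) (hd2 : orderOf d = 2)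
    (he2 : orderOf e = 2) (hc : Commute d e) (hg : Commute g (d * e)) :
    (K ^ᶜ g = K ∧ L ^ᶜ g = L) ∨ (K ^ᶜ g = L ∧ L ^ᶜ g = K) := by
  have ti := h.toTI
  have dd := mul_self_of_two hd2
  have ee := mul_self_of_two he2
  have hKL : HC K L := h.hc K hK L hL ⟨hne, e, he, he2,
    ti.mem_NN hK hd (Two.of_two hd2) (ne_one_of_two hd2) hc.symm⟩
  obtain ⟨z, hzK, hz2, hzd, hdz, hze⟩ := exists_z h hK hL hKL hd he hd2 he2 hc
  have heK : e ∉ K := fun h' => hne (ti.ti K hK L hL e h' he he2)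
  have hwK : d * e ∉ K := fun h' => heK ((mul_mem_cancel_left hd).1 h')
  have ww : d * e * (d * e) = 1 := (commute_iff_mul_sq dd ee).1 hc
  have edw : d * (d * e) = e := mul_mul_cancel_of_mul_self dd e
  have eew : e * (d * e) = d := by rw [hc.eq, mul_mul_cancel_of_mul_self ee]
  have wK : d * e ∈ NN K := mul_mem (le_normalizer hd) (hKL.2.2 he)
  have wL : d * e ∈ NN L := mul_mem (hKL.2.1 hd) (le_normalizer he)
  have mC : ∀ {x : G}, Commute x (d * e) → x ∈ centralizer {d * e} := fun hx =>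
    mem_centralizer_singleton_iff.2 hx
  have hdC := mC ((Commute.refl d).mul_right hc)
  have hzC := mC (hdz.symm.mul_right hze)
  have ce : ∀ c : G, Commute c (d * e) → c * e * c⁻¹ = c * d * c⁻¹ * (d * e) := fun c hcw => by
    conv_rhs => rw [← conj_eq_of_comm hcw]
    calc c * e * c⁻¹ = c * (d * (d * e)) * c⁻¹ := by rw [edw]
      _ = _ := by group
  refine zstar (G := centralizer {d * e}) (H := (Pm K L).subgroupOf _)
    (w := ⟨d * e, mC (Commute.refl _)⟩) (d := ⟨d, hdC⟩) (z := ⟨z, hzC⟩) (Subtype.ext ww)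
    (fun e' => hwK (by rw [show d * e = 1 from congrArg Subtype.val e']; exact one_mem K))
    (fun g => Subtype.ext (mem_centralizer_singleton_iff.1 g.2)) (Subtype.ext dd)
    (Subtype.ext (mul_self_of_two hz2)) (Subtype.ext hdz.eq) (fun v hv => ?_) (fun c hc' => ?_)
    (fun c hc' ht => ?_) ⟨g, mC hg⟩
  · have hv' : (v : G) ∈ K ∧ orderOf (v : G) = 2 := by
      rcases hv with rfl | rfl | rfl
      · exact ⟨hd, hd2⟩
      · exact ⟨hzK, hz2⟩
      · exact ⟨mul_mem hd hzK, orderOf_mul_two_of_commute hd2 hz2 hzd.symm hdz⟩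
    refine ⟨fun e' => ne_one_of_two hv'.2 (congrArg Subtype.val e'), fun e' => hwK ?_,
      fun c hcv => ?_⟩
    · rw [e'] at hv'
      exact hv'.1
    obtain ⟨c, hcC⟩ := c
    have hcw : Commute c (d * e) := mem_centralizer_singleton_iff.1 hcC
    have hcK : c ∈ NN K := ti.mem_NN hK hv'.1 (Two.of_two hv'.2) (ne_one_of_two hv'.2)
      (congrArg Subtype.val hcv.eq)
    refine Or.inl ⟨map_conj_eq_of_mem_norm hcK, by_contra fun hn => ?_⟩
    have hk : c * d * c⁻¹ * d ∈ K := mul_mem (conj_mem_of_mem_normalizer hcK hd) hd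
    have e1 : c * e * c⁻¹ = c * d * c⁻¹ * d * e := by rw [ce c hcw, mul_assoc _ d e]
    have hL' := ti.conj L hL c
    have c1 : HC L (L ^ᶜ c) := h.hc L hL _ hL' ⟨fun e' => hn e'.symm, c * e * c⁻¹,
      conj_mem_map_conj.2 he, by rwa [orderOf_conj'], by
        rw [e1]; exact mul_mem (hKL.2.1 hk) (le_normalizer he)⟩
    refine not_mem_Cm (ns L hL) he he2 ?_
    have e2 : e = (c * d * c⁻¹ * d)⁻¹ * (c * e * c⁻¹) := by rw [e1]; group
    rw [e2]
    exact mul_mem (inv_mem (mem_Cm ti hL hK hKL.symm hk))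
      (mem_Cm ti hL hL' c1 (conj_mem_map_conj.2 he))
  · obtain ⟨c, hcC⟩ := c
    have hcw : Commute c (d * e) := mem_centralizer_singleton_iff.1 hcC
    have e1 : c * d * c⁻¹ = e := (congrArg Subtype.val hc').trans edw
    have e2 : c * e * c⁻¹ = d := by rw [ce c hcw, e1, eew]
    exact Or.inr ⟨ti.ti _ (ti.conj K hK c) L hL e (e1 ▸ conj_mem_map_conj.2 hd) he he2,
      ti.ti _ (ti.conj L hL c) K hK d (e2 ▸ conj_mem_map_conj.2 he) hd hd2⟩
  · obtain ⟨c, hcC⟩ := c
    have hcw : Commute c (d * e) := mem_centralizer_singleton_iff.1 hcC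
    have hP : c * d * c⁻¹ ∈ Pm K L := hc'
    have ht' : Two (c * d * c⁻¹ * d) := ht.imp fun k hk => congrArg Subtype.val hk
    have hK' := ti.conj K hK c
    have hL' := ti.conj L hL c
    have hd' : c * d * c⁻¹ ∈ K ^ᶜ c := conj_mem_map_conj.2 hd
    have he' : c * e * c⁻¹ ∈ L ^ᶜ c := conj_mem_map_conj.2 he
    have hd2' : orderOf (c * d * c⁻¹) = 2 := by rwa [orderOf_conj']
    have he2' : orderOf (c * e * c⁻¹) = 2 := by rwa [orderOf_conj']
    have e1 := ce c hcw
    have hcd : Commute (c * d * c⁻¹) (d * e) := by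
      have := comm_conj c ((Commute.refl d).mul_right hc)
      rwa [conj_eq_of_comm hcw] at this
    suffices H : c * d * c⁻¹ = d ∨ c * d * c⁻¹ = d * (d * e) from
      H.imp (fun e' => Subtype.ext e') fun e' => Subtype.ext e'
    have hcc := hKL.conj c
    generalize c * d * c⁻¹ = d' at *
    generalize c * e * c⁻¹ = e' at *
    generalize K ^ᶜ c = K' at *
    generalize L ^ᶜ c = L' at *
    have hn : d' ∈ NN K ∧ d' ∈ NN L := by
      rcases hP with ⟨a1, a2⟩ | ⟨a1, a2⟩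
      · exact ⟨map_conj_eq_self_iff.1 a1, map_conj_eq_self_iff.1 a2⟩
      · exact absurd (a1.symm ▸ hKL) (h.f1 hK' hK hd' (mul_self_of_two hd2'))
    have e2 : d' = e' * (d * e) := by rw [e1, mul_assoc, ww, mul_one]
    have k1 := eq_or_eq h ns hK hL hK' hL' hcc hd' hd2' hn.1 hn.2 hd he he' e2
    have k2 := eq_or_eq h ns hK hL hL' hK' hcc.symm he' he2' (e1 ▸ mul_mem hn.1 wK)
      (e1 ▸ mul_mem hn.2 wL) hd he hd' e1
    rcases k1 with rfl | rfl
    · obtain rfl := k2.resolve_left hcc.1.symm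
      have e3 : d' * d = e' * e := by rw [e1, mul_assoc, mul_assoc, ee, mul_one]
      have := ti.eq_one hK hL hne (mul_mem hd' hd) (e3 ▸ mul_mem he' he) ht'
      left
      rw [eq_inv_of_mul_eq_one_left this, inv_of_mul_self dd]
    · obtain rfl := k2.resolve_right hcc.1.symm
      have e3 : d' * e = e' * d := by
        rw [e1, mul_assoc, hc.eq, mul_assoc, dd, mul_one]
      have e4 : d' * e = d' * d * (d * e) := by rw [mul_assoc, edw]
      have t : Two (d' * e) := by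
        rw [e4]
        exact ht'.mul (Two.of_sq ww) (hcd.mul_left ((Commute.refl d).mul_right hc))
      have := ti.eq_one hK hL hne (e3 ▸ mul_mem he' hd) (mul_mem hd' he) t
      right
      rw [edw, eq_inv_of_mul_eq_one_left this, inv_of_mul_self ee]

end Cfsg.Agent.CT8
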