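import Mathlib
import Cfsg.Agent.CT8.Bas
import Cfsg.Agent.GT.HallTools

/-! The perfect residuals of the members (S1308, piece Yfam). -/

set_option autoImplicit false
set_option linter.unusedSectionVars false
set_option linter.unusedVariables false

namespace Cfsg.Agent.CT8

open Subgroup Cfsg.Agent.GT Cfsg.Agent.Inv Cfsg.Agent.Cmp
open scoped commutatorElement

variable {G : Type*} [Group G] [Finite G] {𝒦 : Set (Subgroup G)}

/-- A perfect group with abelian Sylow 2-subgroups has no normal 2-subgroup. -/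
theorem yfam_two {S V : Subgroup G} (hp : ⁅(⊤ : Subgroup G), (⊤ : Subgroup G)⁆ = ⊤) (hS : Syl S ⊤) (ha : Ab S)
    (hV : IsPGroup 2 V) [V.Normal] : V = ⊥ := by
  have h1 : V ≤ S := le_sup_left.trans (hS.le_of_le (two_sup hV hS.two (by
    rw [NN, normalizer_eq_top]; exact le_top)) le_sup_right le_top)
  have h2 : S ≤ CC V := ha.le_CC.trans (centralizer_anti h1)
  have h3 : Odd (Nat.card (⊤ : Subgroup (G ⧸ CC V))) := by
    rw [card_top, ← index_eq_card, ← Nat.not_even_iff_odd, even_iff_two_dvd]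
    exact fun e => hS.idx (by rw [relIndex_top_right]; exact e.trans (index_dvd_of_le h2))
  have h4 : (⊤ : Subgroup (G ⧸ CC V)) = ⊥ := perfect_eq_bot_of_isSolvable (by
    have := congrArg (Subgroup.map (QuotientGroup.mk' (CC V))) hp
    rwa [map_commutator, map_top_of_surjective _ (QuotientGroup.mk'_surjective _)] at this) (solv_of_odd h3)
  have h5 : V ≤ CC ⊤ := fun v hv g _ => by
    have : (g : G ⧸ CC V) = 1 := mem_bot.1 (h4 ▸ mem_top _)
    exact ((QuotientGroup.eq_one_iff g).1 this v hv).symm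
  have hc : IsMulCommutative S := ⟨⟨fun a b => Subtype.ext (ha a a.2 b b.2).eq⟩⟩
  obtain ⟨n, hn⟩ := IsPGroup.iff_card.1 hS.two
  rw [eq_bot_iff, ← Tr.inf_commutator_inf_centralizer_eq_bot (L := ⊤) hc
    (hn ▸ ((Nat.prime_two.coprime_iff_not_dvd).2 hS.idx).pow_left n), hp]
  exact le_inf (le_inf h1 le_top) h5

theorem yfam_ns {Y S : Subgroup G} (hp : ⁅Y, Y⁆ = Y) (hS : Syl S Y) (ha : Ab S) : NS Y := fun N hN hn hs => by
  let f := QuotientGroup.mk' (pPrimeCore 2 Y)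
  have fs : Function.Surjective f := QuotientGroup.mk'_surjective _
  have hn' : (N.subgroupOf Y).Normal := (normal_subgroupOf_iff_le_normalizer hN).2 hn
  have hb : (N.subgroupOf Y).map f = ⊥ := by
    by_contra h0
    have s1 : Group.IsSolvable (N.subgroupOf Y) :=
      Group.isSolvable_of_isSolvable_injective (f := (subgroupOfEquivOfLe hN).toMonoidHom)
        (subgroupOfEquivOfLe hN).injective
    have s2 : Group.IsSolvable ((N.subgroupOf Y).map f) :=
      Group.isSolvable_of_surjective (f.subgroupMap_surjective (N.subgroupOf Y))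
    obtain ⟨p, hp', A, -, h2, h3, -, h5⟩ := HT.exists_comm_pGroup_le_of_solvable ((N.subgroupOf Y).map f) ⊤
      (by have := hn'.map f fs; rw [normalizer_eq_top]) s2 h0
    have hA : A.Normal := normalizer_eq_top_iff.1 (eq_top_iff.2 h2)
    refine h3 ?_
    by_cases e : p = 2
    · subst e
      refine yfam_two (S := (S.subgroupOf Y).map f) ?_ ⟨le_top, hS.two.comap_subtype.map f, fun e => hS.idx ?_⟩ ?_ h5
      · have : ⁅(⊤ : Subgroup Y), (⊤ : Subgroup Y)⁆ = ⊤ := by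
          rw [← subgroupOf_self, commutator_subgroupOf le_rfl le_rfl, hp]
        have := congrArg (Subgroup.map f) this
        rwa [map_commutator, map_top_of_surjective _ fs] at this
      · rw [relIndex_top_right] at e
        exact e.trans (index_map_dvd _ fs)
      · rintro _ ⟨a, ha', rfl⟩ _ ⟨b, hb, rfl⟩
        exact (show Commute a b from Subtype.ext (ha a ha' b hb).eq).map f
    · have := Fact.mk hp'
      obtain ⟨n, hn⟩ := IsPGroup.iff_card.1 h5
      rw [eq_bot_iff, ← pPrimeCore_quotient_pPrimeCore (p := 2)]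
      exact le_pPrimeCore (hn ▸ ((Nat.coprime_primes hp' Nat.prime_two).2 e).pow_left n)
  rw [Subgroup.map_eq_bot_iff, QuotientGroup.ker_mk'] at hb
  rw [← Nat.card_congr (subgroupOfEquivOfLe hN).toEquiv]
  exact odd_card_oddCore.of_dvd_nat (card_dvd_of_le hb)

theorem yfam_four {Y : Subgroup G} (h : NS Y) (hs : ¬ Group.IsSolvable Y) : Four Y := by
  by_contra h4
  obtain ⟨x, hx⟩ := exists_prime_orderOf_dvd_card' (G := Y) 2
    (even_iff_two_dvd.1 (Nat.not_odd_iff_even.1 fun ho => hs (solv_of_odd ho)))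
  have h2 : orderOf (x : G) = 2 := by rw [orderOf_coe, hx]
  refine h.false x.2 h2 (zstar_Od (by rw [← sq, ← h2, pow_orderOf_eq_one]) (le_normalizer x.2)
    fun k hk hc => by_contra fun e => h4 ⟨x, x.2, _, mul_mem (mul_mem hk x.2) (inv_mem hk), h2, ?_, Ne.symm e, hc⟩)
  rw [orderOf_conj, h2]

/-- The join of the perfect subgroups. -/
def yfamY (K : Subgroup G) : Subgroup G := sSup {P | P ≤ K ∧ ⁅P, P⁆ = P}

theorem yfamY_le (K : Subgroup G) : yfamY K ≤ K := sSup_le fun _ h => h.1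

theorem yfamY_perf (K : Subgroup G) : ⁅yfamY K, yfamY K⁆ = yfamY K :=
  le_antisymm (commutator_le_self _)
    (sSup_le fun _ h => h.2.ge.trans (commutator_mono (le_sSup h) (le_sSup h)))

theorem yfamY_nn (K : Subgroup G) : NN K ≤ NN (yfamY K) := fun g hg =>
  mem_normalizer_of_map_conj_le (le_sSup ⟨map_conj_le_of_mem_normalizer (yfamY_le K) hg, by
    rw [← map_conj_commutator, yfamY_perf]⟩)

theorem yfamY_ne {K : Subgroup G} (hs : ¬ Group.IsSolvable K) : yfamY K ≠ ⊥ := fun h0 => by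
  obtain ⟨_, ⟨n, rfl⟩, hn⟩ := (wellFounded_lt (α := Subgroup K)).has_min
    (Set.range (derivedSeries K)) (Set.range_nonempty _)
  have e : ⁅derivedSeries K n, derivedSeries K n⁆ = derivedSeries K n :=
    eq_of_le_of_not_lt (commutator_le_self _) (hn _ ⟨n + 1, rfl⟩)
  have h1 : (derivedSeries K n).map K.subtype ≤ yfamY K :=
    le_sSup ⟨map_subtype_le _, by rw [← map_commutator, e]⟩
  rw [h0, le_bot_iff, map_eq_bot_iff_of_injective _ K.subtype_injective] at h1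
  exact hs ⟨⟨n, h1⟩⟩

/-- Passing to the perfect residuals when the Sylow subgroups are abelian. -/
theorem exists_ns_fam (h : HF 𝒦) {K S : Subgroup G} (hK : K ∈ 𝒦) (hS : Syl S K) (ha : Ab S)
    (hs : ¬ Group.IsSolvable K) :
    ∃ 𝒴 : Set (Subgroup G), HF 𝒴 ∧ (∀ Y ∈ 𝒴, NS Y) ∧ ∃ Y ∈ 𝒴, Y ≤ K := by
  have ti := h.toFm.toTI
  have le : ∀ g, yfamY K ^ᶜ g ≤ K ^ᶜ g := fun g => map_mono (yfamY_le K)
  have nn : ∀ g, NN (K ^ᶜ g) ≤ NN (yfamY K ^ᶜ g) := fun g => by
    rw [NN_conj, NN_conj]; exact map_mono (yfamY_nn K)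
  have pf : ∀ g, ⁅yfamY K ^ᶜ g, yfamY K ^ᶜ g⁆ = yfamY K ^ᶜ g := fun g => by
    rw [← map_conj_commutator, yfamY_perf]
  have ns : ∀ g, NS (yfamY K ^ᶜ g) := fun g => by
    refine yfam_ns (pf g) ((hS.inf (yfamY_le K) (le_normalizer.trans (yfamY_nn K))).conj g) ?_
    rintro _ ⟨a, ha', rfl⟩ _ ⟨b, hb, rfl⟩
    exact (ha a ha'.1 b hb.1).map _
  have nsv : ∀ g, ¬ Group.IsSolvable ↥(yfamY K ^ᶜ g) := fun g hs' =>
    yfamY_ne hs (map_conj_eq_bot_iff.1 (perfect_eq_bot_of_isSolvable (pf g) hs'))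
  have eq : ∀ {g g'}, K ^ᶜ g = K ^ᶜ g' → yfamY K ^ᶜ g = yfamY K ^ᶜ g' := fun e =>
    map_conj_eq_map_conj_iff.2 (yfamY_nn K (map_conj_eq_map_conj_iff.1 e))
  refine ⟨Set.range fun g => yfamY K ^ᶜ g, ⟨⟨⟨?_, ?_, ?_⟩, ?_⟩, ?_, ?_⟩, ?_, yfamY K, ⟨1, map_conj_one _⟩, yfamY_le K⟩
  · rintro _ ⟨g, rfl⟩ g'
    exact ⟨g' * g, map_conj_mul _ _ _⟩
  · rintro _ ⟨g, rfl⟩ _ ⟨g', rfl⟩
    exact ⟨g' * g⁻¹, by simp only [map_conj_map_conj, inv_mul_cancel_right]⟩
  · rintro _ ⟨g, rfl⟩ _ ⟨g', rfl⟩ x h1 h2 hx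
    exact eq (ti.ti _ (ti.conj K hK g) _ (ti.conj K hK g') x (le g h1) (le g' h2) hx)
  · rintro _ ⟨g, rfl⟩
    exact yfam_four (ns g) (nsv g)
  · rintro _ ⟨g, rfl⟩ _ ⟨g', rfl⟩ ⟨hne, y, hy, y2, hn⟩
    obtain ⟨x, hx, x2⟩ := (yfam_four (ns g) (nsv g)).exists_inv
    have hc := h.hc _ (ti.conj K hK g) _ (ti.conj K hK g') ⟨fun e => hne (eq e), y, le g' hy, y2,
      ti.mem_NN_of_conj (ti.conj K hK g) (le g hx) (Two.of_two x2) (by rintro rfl; simp at x2)
        (le g (conj_mem_of_mem_normalizer hn hx))⟩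
    exact ⟨hne, (le g).trans (hc.2.1.trans (nn g')), (le g').trans (hc.2.2.trans (nn g))⟩
  · rintro _ ⟨g, rfl⟩
    exact bg_of_not_solv (nsv g)
  · rintro _ ⟨g, rfl⟩
    exact ns g

end Cfsg.Agent.CT8
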