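import Mathlib
import Cfsg.Agent.CT8.Bas
import Cfsg.Agent.GT.MinNormal

/-! The class of the involutions which are central in `O₂(K / O(K))`. -/

set_option autoImplicit false
set_option linter.unusedSectionVars false
set_option linter.unusedVariables false

namespace Cfsg.Agent.CT8

open Subgroup Cfsg.Agent.GT Cfsg.Agent.Inv Cfsg.Agent.Cmp
open scoped commutatorElement

variable {G : Type*} [Group G] [Finite G] {𝒦 : Set (Subgroup G)}

namespace ZD0a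

variable {K : Subgroup G} {x y : G}

/-- The preimage of `O₂(K / O(K))`. -/
def O2 (K : Subgroup G) : Subgroup G := ⨅ S : {S // Syl S K}, Od K ⊔ S.1

theorem mem_O2 : x ∈ O2 K ↔ ∀ S, Syl S K → x ∈ Od K ⊔ S := by
  rw [O2, mem_iInf, Subtype.forall]

theorem O2_le : O2 K ≤ K := fun x hx => by
  obtain ⟨S, hS⟩ := exists_syl K
  exact sup_le (Od_le K) hS.le (mem_O2.1 hx S hS)

theorem Od_le_O2 : Od K ≤ O2 K := fun _ hx => mem_O2.2 fun _ _ => mem_sup_left hx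

theorem conj_O2 (hx : x ∈ O2 K) (g : G) : g * x * g⁻¹ ∈ O2 (K ^ᶜ g) := mem_O2.2 fun S hS => by
  have h := hS.conj g⁻¹
  rw [map_conj_inv_map_conj] at h
  rw [Od_conj, ← map_conj_map_conj_inv S g, ← map_conj_sup, conj_mem_map_conj]
  exact mem_O2.1 hx _ h

/-- The elements which are central in `O2 K` modulo `O(K)`. -/
def Z2 (K : Subgroup G) (x : G) : Prop := x ∈ O2 K ∧ ∀ y ∈ O2 K, ⁅x, y⁆ ∈ Od K

theorem Z2.conj (h : Z2 K x) (g : G) : Z2 (K ^ᶜ g) (g * x * g⁻¹) := ⟨conj_O2 h.1 g, fun y hy => by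
  have h1 := conj_O2 hy g⁻¹
  rw [map_conj_inv_map_conj] at h1
  rw [Od_conj, show y = g * (g⁻¹ * y * g⁻¹⁻¹) * g⁻¹ by group, ← conj_comm_elt, conj_mem_map_conj]
  exact h.2 _ h1⟩

theorem Z2.mul (h : Z2 K x) (h' : Z2 K y) : Z2 K (x * y) := ⟨mul_mem h.1 h'.1, fun z hz => by
  rw [show ⁅x * y, z⁆ = x * ⁅y, z⁆ * x⁻¹ * ⁅x, z⁆ by simp only [commutatorElement_def]; group]
  exact mul_mem (conj_mem_of_mem_normalizer (le_NN_Od K (O2_le h.1)) (h'.2 z hz)) (h.2 z hz)⟩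

theorem comm_of {Q : Subgroup G} (hQ : IsPGroup 2 Q) (hx : x ∈ Q) (hy : y ∈ Q) (h : ⁅x, y⁆ ∈ Od K) :
    Commute x y := by
  rw [← commutatorElement_eq_one_iff_commute]
  by_contra h1
  obtain ⟨n, hn⟩ := (Two.of_mem hQ (mul_mem (mul_mem (mul_mem hx hy) (inv_mem hx)) (inv_mem hy))).exists_inv h1
  exact Nat.not_even_iff_odd.2 (odd_Od K) (even_card_of_involution_mem (pow_mem h n) hn)

/-- The commutator of `o t` with an element centralizing `t`. -/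
theorem comm_mem {o t : G} (ho : o ∈ Od K) (hy : y ∈ K) (h : Commute t y) : ⁅o * t, y⁆ ∈ Od K := by
  rw [show ⁅o * t, y⁆ = o * ⁅t, y⁆ * (y * o⁻¹ * y⁻¹) * (y * o * y⁻¹ * o⁻¹ * (o * (y * o⁻¹ * y⁻¹))) by
    simp only [commutatorElement_def]; group, commutatorElement_eq_one_iff_commute.2 h]
  have h1 := conj_mem_of_mem_normalizer (le_NN_Od K hy) (inv_mem ho)
  have h2 := conj_mem_of_mem_normalizer (le_NN_Od K hy) ho
  exact mul_mem (mul_mem (mul_mem ho (one_mem _)) h1) (mul_mem (mul_mem h2 (inv_mem ho)) (mul_mem ho h1))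

theorem exists_ab (N : Subgroup G) (hle : N ≤ K) (hn : K ≤ NN N) (hs : Group.IsSolvable N)
    (he : ¬ Odd (Nat.card N)) : ∃ M ≤ K, K ≤ NN M ∧ ¬ Odd (Nat.card M) ∧ ⁅M, M⁆ ≤ Od K := by
  induction N using WellFoundedLT.induction with
  | ind N ih =>
    have h1 : ⁅N, N⁆ ≤ N := commutator_le_self N
    have h2 : K ≤ NN ⁅N, N⁆ := hn.trans (normalizer_le_normalizer_commutator_self N)
    by_cases ho : Odd (Nat.card ↥⁅N, N⁆)
    · exact ⟨N, hle, hn, he, le_Od (h1.trans hle) h2 ho⟩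
    · exact ih _ (commutator_lt_of_isSolvable fun e => he (by rw [e, card_bot]; exact odd_one)) (h1.trans hle) h2
        (Group.isSolvable_of_isSolvable_injective (inclusion_injective h1)) ho

theorem exists_Z2 (hn : ¬ NS K) : ∃ z, orderOf z = 2 ∧ Z2 K z := by
  simp only [NS, not_forall] at hn
  obtain ⟨N, h1, h2, h3, h4⟩ := hn
  obtain ⟨M, m1, m2, m3, m4⟩ := exists_ab N h1 h2 h3 h4
  obtain ⟨x, hx, x2⟩ := exists_involution_mem_of_even (Nat.not_odd_iff_even.1 m3)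
  have hO : x ∈ O2 K := mem_O2.2 fun S hS => by
    obtain ⟨k, hk, e⟩ := (hS.inf m1 m2).exists_conj_elt (Two.of_two x2) hx
    rw [show x = ⁅x, k⁆ * (k * x * k⁻¹) by simp only [commutatorElement_def]; group]
    exact mul_mem (mem_sup_left (m4 (commutator_mem_commutator hx hk))) (mem_sup_right (mem_inf.1 e).1)
  obtain ⟨S, hS⟩ := exists_syl K
  obtain ⟨k, hk, e⟩ := hS.exists_conj_elt (Two.of_two x2) (m1 hx)
  have h5 := conj_O2 hO k
  rw [map_conj_eq_of_mem hk] at h5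
  obtain ⟨z, hz, z2, zc⟩ := exists_inv_fixed (X := S ⊓ O2 K) (Y := S ⊓ O2 K) (hS.two.to_le inf_le_left)
    le_normalizer (mem_inf.2 ⟨e, h5⟩) ((orderOf_conj' k x).trans x2)
  refine ⟨z, z2, (mem_inf.1 hz).2, fun y hy => ?_⟩
  obtain ⟨o, ho, s, hs, rfl⟩ := exists_mul_of_mem_sup (hS.le.trans (le_NN_Od K)) (mem_O2.1 hy S hS)
  rw [← commutatorElement_inv]
  exact inv_mem (comm_mem ho (O2_le (mem_inf.1 hz).2)
    (zc s (mem_inf.2 ⟨hs, (mul_mem_cancel_left (Od_le_O2 ho)).1 hy⟩)))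

end ZD0a

open ZD0a in
theorem exists_zd0 (h : Fm 𝒦) {K : Subgroup G} (hK : K ∈ 𝒦) (hn : ¬ NS K) :
    ∃ D : Set G, ZD0 𝒦 D := by
  have key : ∀ L ∈ 𝒦, ∀ d, (orderOf d = 2 ∧ ∃ J ∈ 𝒦, Z2 J d) → d ∈ L → Z2 L d :=
    fun L hL d ⟨d2, J, hJ, hd⟩ hdL => h.ti J hJ L hL d (O2_le hd.1) hdL d2 ▸ hd
  refine ⟨{x | orderOf x = 2 ∧ ∃ J ∈ 𝒦, Z2 J x}, fun d hd => hd.1, fun d ⟨_, J, hJ, hd⟩ => ⟨J, hJ, O2_le hd.1⟩,
    fun d ⟨d2, J, hJ, hd⟩ g => ⟨(orderOf_conj' g d).trans d2, _, h.conj J hJ g, hd.conj g⟩, fun L hL => ?_,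
    fun L hL Q hQ d hd e he dL eL dQ eQ => ?_, fun L hL S hS s hs sc Q hQ d hd dL dQ sQ => ?_⟩
  · obtain ⟨g, rfl⟩ := h.trans K hK L hL
    obtain ⟨z, z2, hz⟩ := exists_Z2 hn
    exact ⟨_, ⟨(orderOf_conj' g z).trans z2, _, hL, hz.conj g⟩, O2_le (hz.conj g).1⟩
  · have h1 := key L hL d hd dL
    have h2 := key L hL e he eL
    have c := comm_of hQ dQ eQ (h1.2 e h2.1)
    exact ⟨c, fun hne => ⟨orderOf_mul_two_of_commute hd.1 he.1 hne c, L, hL, h1.mul h2⟩⟩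
  · obtain ⟨o, ho, t, ht, e⟩ := exists_mul_of_mem_sup (hS.le.trans (le_NN_Od L))
      (mem_O2.1 (key L hL d hd dL).1 S hS)
    exact comm_of hQ dQ sQ (e ▸ comm_mem ho (hS.le hs) (comm_of_CC sc ht))

end Cfsg.Agent.CT8
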