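import Mathlib
import Cfsg.Agent.CT8.Defs
import Cfsg.Agent.Loc.CardProd

/-!
# The 2-group structure of the non-full configuration (S1308; copy of Cmp.NFa)
-/

set_option autoImplicit false
set_option linter.unusedSectionVars false

namespace Cfsg.Agent.CT8

open Subgroup Cfsg.Agent.GT Cfsg.Agent.Inv Cfsg.Agent.Cmp

variable {G : Type*} [Group G] [Finite G]

/-- A group is not the union of two proper subgroups. -/
theorem le_or_le_of_mem {X A B : Subgroup G} (h : ∀ x ∈ X, x ∈ A ∨ x ∈ B) : X ≤ A ∨ X ≤ B := by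
  by_contra! h1
  obtain ⟨a, ha, ha'⟩ := SetLike.not_le_iff_exists.1 h1.1
  obtain ⟨b, hb, hb'⟩ := SetLike.not_le_iff_exists.1 h1.2
  rcases h _ (mul_mem ha hb) with h2 | h2
  · exact ha' ((mul_mem_cancel_right ((h b hb).resolve_right hb')).1 h2)
  · exact hb' ((mul_mem_cancel_left ((h a ha).resolve_left ha')).1 h2)

namespace Nf

variable {K U S T : Subgroup G} (h : Nf K U S T) {r s x : G}
include h

theorem commST (hs : s ∈ S) (hx : x ∈ T) : Commute s x := by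
  by_cases h1 : x = 1
  · rw [h1]; exact Commute.one_right s
  · exact (h.cen x hx h1 s (h.lt.le hs)).2 hs

theorem SK : S ≤ K := h.lt.le.trans h.syl.le

theorem eq_one_of_K (hx : x ∈ T) (hK : x ∈ K) : x = 1 := by
  rw [← mem_bot, ← h.disj]; exact mem_inf.2 ⟨hx, hK⟩

theorem TS : T ≤ NN S := fun _ hx => CC_le_NN _ (mem_CC.2 fun _ hs => h.commST hs hx)

theorem memK {X : Subgroup G} (hT : T ≤ NN X) (hX : X ≤ K) {g : G} (hg : g ∈ X ⊔ T)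
    (hK : g ∈ K) : g ∈ X := by
  obtain ⟨a, ha, y, hy, rfl⟩ := exists_mul_of_mem_sup hT hg
  rw [h.eq_one_of_K hy ((mul_mem_cancel_left (hX ha)).1 hK), mul_one]; exact ha

theorem card_sup {X : Subgroup G} (hT : T ≤ NN X) (hX : X ≤ K) :
    Nat.card (X ⊔ T : Subgroup G) = Nat.card X * Nat.card T := by
  have h1 := Loc.card_sup_mul_card_inf_of_le_normalizer' hT
  have h2 : X ⊓ T = ⊥ := eq_bot_iff.2 fun g hg => mem_bot.2 (h.eq_one_of_K hg.2 (hX hg.1))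
  rwa [h2, card_bot, mul_one] at h1

theorem grow {X : Subgroup G} (hX : X < U) (hT : T ≤ NN X) :
    ∃ v ∈ U, v ∈ NN (X ⊔ T) ∧ v ∉ X := by
  have : Fact (Nat.Prime 2) := ⟨Nat.prime_two⟩
  have hlt : X ⊔ T < U ⊔ T := lt_of_le_of_ne (sup_le_sup_right hX.le _) fun e =>
    hX.not_ge fun u hu => h.memK hT (hX.le.trans h.syl.le) (e ▸ mem_sup_left hu) (h.syl.le hu)
  obtain ⟨g, hg, hgW⟩ := SetLike.exists_of_lt (Tr.lt_inf_normalizer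
    (h.syl.two.to_sup_of_normal_left' h.two h.TU) hlt)
  obtain ⟨u, hu, y, hy, rfl⟩ := exists_mul_of_mem_sup h.TU hg.1
  exact ⟨u, hu, (mul_mem_cancel_right (le_normalizer (mem_sup_right hy))).1 hg.2,
    fun e => hgW (mul_mem (mem_sup_left e) (mem_sup_right hy))⟩

theorem exists_r : ∃ r ∈ U, r ∈ NN (S ⊔ T) ∧ r ∉ S := h.grow h.lt h.TS

theorem phiU (hr : r ∈ U) (hx : x ∈ T) : x⁻¹ * (r * x * r⁻¹) ∈ U := by
  simpa [mul_assoc] using mul_mem (conj_mem_of_mem_normalizer' (h.TU hx) hr) (inv_mem hr)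

theorem phiX {X : Subgroup G} (hT : T ≤ NN X) (hX : X ≤ K) (hr : r ∈ U) (hn : r ∈ NN (X ⊔ T))
    (hx : x ∈ T) : x⁻¹ * (r * x * r⁻¹) ∈ X :=
  h.memK hT hX (mul_mem (inv_mem (mem_sup_right hx))
    (conj_mem_of_mem_normalizer hn (mem_sup_right hx))) (h.syl.le (h.phiU hr hx))

theorem phi_mem (hr : r ∈ U) (hn : r ∈ NN (S ⊔ T)) (hx : x ∈ T) : x⁻¹ * (r * x * r⁻¹) ∈ S :=
  h.phiX h.TS h.SK hr hn hx

theorem eq_one_of_comm (hr : r ∈ U) (hS : r ∉ S) (hx : x ∈ T) (hc : Commute r x) : x = 1 :=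
  by_contra fun h1 => hS ((h.cen x hx h1 r hr).1 hc)

theorem phi_inj (hr : r ∈ U) (hS : r ∉ S) (hx : x ∈ T) {y : G} (hy : y ∈ T)
    (e : x⁻¹ * (r * x * r⁻¹) = y⁻¹ * (r * y * r⁻¹)) : x = y := by
  refine mul_inv_eq_one.1 (h.eq_one_of_comm hr hS (mul_mem hx (inv_mem hy)) (comm_of_conj_eq ?_))
  calc r * (x * y⁻¹) * r⁻¹ = x * (x⁻¹ * (r * x * r⁻¹)) * (y⁻¹ * (r * y * r⁻¹))⁻¹ * y⁻¹ := by group
    _ = x * y⁻¹ := by rw [e]; group

theorem phi_surj (hr : r ∈ U) (hn : r ∈ NN (S ⊔ T)) (hS : r ∉ S) (hs : s ∈ S) :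
    ∃ x ∈ T, x⁻¹ * (r * x * r⁻¹) = s := by
  let f : T → S := fun x => ⟨_, h.phi_mem hr hn x.2⟩
  have hf : Function.Injective f := fun x y e =>
    Subtype.ext (h.phi_inj hr hS x.2 y.2 (congrArg Subtype.val e))
  obtain ⟨x, hx⟩ := (hf.bijective_of_nat_card_le h.card.le).2 ⟨s, hs⟩
  exact ⟨x, x.2, congrArg Subtype.val hx⟩

theorem phi_mul (hr : r ∈ U) (hn : r ∈ NN (S ⊔ T)) (hx : x ∈ T) {y : G} (hy : y ∈ T) :
    (x * y)⁻¹ * (r * (x * y) * r⁻¹) = x⁻¹ * (r * x * r⁻¹) * (y⁻¹ * (r * y * r⁻¹)) := by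
  have h1 := (h.commST (h.phi_mem hr hn hx) (inv_mem hy)).eq
  calc (x * y)⁻¹ * (r * (x * y) * r⁻¹) = y⁻¹ * (x⁻¹ * (r * x * r⁻¹)) * (r * y * r⁻¹) := by group
    _ = _ := by rw [← h1]; group

theorem rS (hr : r ∈ U) (hn : r ∈ NN (S ⊔ T)) : r ∈ NN S :=
  Tr.mem_normalizer_of_conj_mem fun _ ha => h.memK h.TS h.SK
    (conj_mem_of_mem_normalizer hn (mem_sup_left ha))
    (mul_mem (mul_mem (h.syl.le hr) (h.SK ha)) (inv_mem (h.syl.le hr)))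

theorem S_ne_bot : S ≠ ⊥ := fun e => h.ne (by
  have := h.card
  rw [e, card_bot] at this
  exact card_eq_one.1 this.symm)

theorem sq_mem (hr : r ∈ U) (hn : r ∈ NN (S ⊔ T)) : r * r ∈ S := by
  by_cases hS : r ∈ S
  · exact mul_mem hS hS
  obtain ⟨y, hy, hy2⟩ := exists_inv_of_ne_bot (h.syl.two.to_le h.lt.le) h.S_ne_bot
  obtain ⟨b, hb, hb2, hc⟩ := exists_inv_fixed_elt (Two.of_mem h.syl.two hr) (h.rS hr hn) hy hy2
  obtain ⟨x, hx, e⟩ := h.phi_surj hr hn hS hb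
  have h1 : x ≠ 1 := by
    rintro rfl
    exact ne_one_of_two hb2 (by rw [← e]; group)
  refine (h.cen x hx h1 _ (mul_mem hr hr)).1 (comm_of_conj_eq ?_)
  have h2 : r * x * r⁻¹ = x * b := by rw [← e]; group
  calc r * r * x * (r * r)⁻¹ = r * (r * x * r⁻¹) * r⁻¹ := by group
    _ = r * (x * b) * r⁻¹ := by rw [h2]
    _ = r * x * r⁻¹ * (r * b * r⁻¹) := by group
    _ = x := by rw [h2, conj_eq_of_comm hc, mul_assoc, mul_self_of_two hb2, mul_one]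

theorem inverts (hr : r ∈ U) (hn : r ∈ NN (S ⊔ T)) (hS : r ∉ S) (hs : s ∈ S) :
    r * s * r⁻¹ = s⁻¹ := by
  obtain ⟨x, hx, rfl⟩ := h.phi_surj hr hn hS hs
  have h1 := conj_eq_of_comm (h.commST (h.sq_mem hr hn) hx)
  calc r * (x⁻¹ * (r * x * r⁻¹)) * r⁻¹ = (r * x * r⁻¹)⁻¹ * (r * r * x * (r * r)⁻¹) := by group
    _ = _ := by rw [h1]; group

theorem commS (hs : s ∈ S) {s' : G} (hs' : s' ∈ S) : Commute s s' := by
  obtain ⟨r, hr, hn, hS⟩ := h.exists_r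
  have h1 := h.inverts hr hn hS (mul_mem hs hs')
  have h2 : r * (s * s') * r⁻¹ = (r * s * r⁻¹) * (r * s' * r⁻¹) := by group
  rw [h2, h.inverts hr hn hS hs, h.inverts hr hn hS hs', ← mul_inv_rev, inv_inj] at h1
  exact h1.symm

theorem commT (hx : x ∈ T) {x' : G} (hx' : x' ∈ T) : Commute x x' := by
  obtain ⟨r, hr, hn, hS⟩ := h.exists_r
  refine h.phi_inj hr hS (mul_mem hx hx') (mul_mem hx' hx) ?_
  rw [h.phi_mul hr hn hx hx', h.phi_mul hr hn hx' hx]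
  exact (h.commS (h.phi_mem hr hn hx) (h.phi_mem hr hn hx')).eq

theorem commW {w w' : G} (hw : w ∈ S ⊔ T) (hw' : w' ∈ S ⊔ T) : Commute w w' := by
  obtain ⟨a, ha, y, hy, rfl⟩ := exists_mul_of_mem_sup h.TS hw
  obtain ⟨a', ha', y', hy', rfl⟩ := exists_mul_of_mem_sup h.TS hw'
  exact ((h.commS ha ha').mul_right (h.commST ha hy')).mul_left
    ((h.commST ha' hy).symm.mul_right (h.commT hy hy'))

theorem commWv (v : G) {w w' : G} (hw : w ∈ (S ⊔ T) ^ᶜ v) (hw' : w' ∈ (S ⊔ T) ^ᶜ v) :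
    Commute w w' := by
  obtain ⟨a, ha, rfl⟩ := mem_map_conj_iff_exists.1 hw
  obtain ⟨b, hb, rfl⟩ := mem_map_conj_iff_exists.1 hw'
  exact comm_conj v (h.commW ha hb)

theorem SR : S ≤ U ⊓ NN (S ⊔ T) := le_inf h.lt.le (le_sup_left.trans le_normalizer)

theorem RK : U ⊓ NN (S ⊔ T) ≤ K := inf_le_left.trans h.syl.le

theorem TR : T ≤ NN (U ⊓ NN (S ⊔ T)) := fun _ hx => inf_normalizer_le_normalizer_inf
  (mem_inf.2 ⟨h.TU hx, le_normalizer (le_normalizer (mem_sup_right hx))⟩)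

theorem W_le : S ⊔ T ≤ U ⊓ NN (S ⊔ T) ⊔ T := sup_le_sup_right h.SR _

omit h in
theorem RT_le : U ⊓ NN (S ⊔ T) ⊔ T ≤ NN (S ⊔ T) :=
  sup_le inf_le_right (le_sup_right.trans le_normalizer)

theorem card_W : Nat.card (S ⊔ T : Subgroup G) = Nat.card T * Nat.card T := by
  rw [h.card_sup h.TS h.SK, h.card]

/-- An element of `RT - W` acts on `W` as an element of `R - S`. -/
theorem exists_r_of {y : G} (hy : y ∈ U ⊓ NN (S ⊔ T) ⊔ T) (hW : y ∉ S ⊔ T) :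
    ∃ r ∈ U, r ∈ NN (S ⊔ T) ∧ r ∉ S ∧ ∀ w ∈ S ⊔ T, Commute y w → Commute r w := by
  obtain ⟨r, hr, z, hz, rfl⟩ := exists_mul_of_mem_sup h.TR hy
  refine ⟨r, hr.1, hr.2, fun e => hW (mul_mem (mem_sup_left e) (mem_sup_right hz)),
    fun w hw hc => ?_⟩
  simpa using hc.mul_left (h.commW (inv_mem (mem_sup_right hz)) hw)

theorem exists_wv {v : G} (hv : v ∉ NN (S ⊔ T)) : ∃ y ∈ (S ⊔ T) ^ᶜ v, y ∉ S ⊔ T :=
  SetLike.not_le_iff_exists.1 fun e => hv (mem_normalizer_of_map_conj_le e)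

theorem card_inf_le {v : G} (hn : v ∈ NN (U ⊓ NN (S ⊔ T) ⊔ T)) (hv : v ∉ NN (S ⊔ T)) :
    Nat.card ((S ⊔ T) ⊓ (S ⊔ T) ^ᶜ v : Subgroup G) ≤ Nat.card T := by
  obtain ⟨y, hy, hW⟩ := h.exists_wv hv
  obtain ⟨r, hr, -, hS, hc⟩ := h.exists_r_of (map_conj_le_of_mem_normalizer h.W_le hn hy) hW
  have h1 : (S ⊔ T) ⊓ (S ⊔ T) ^ᶜ v ⊓ T = ⊥ := eq_bot_iff.2 fun g hg => mem_bot.2
    (h.eq_one_of_comm hr hS hg.2 (hc g hg.1.1 (h.commWv v hy hg.1.2)))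
  have h2 := Loc.card_mul_card_le_card_sup_mul_card_inf ((S ⊔ T) ⊓ (S ⊔ T) ^ᶜ v) T
  rw [h1, card_bot, mul_one] at h2
  have h3 := h2.trans (card_le_of_le (K := S ⊔ T) (sup_le inf_le_left le_sup_right))
  rw [h.card_W] at h3
  exact Nat.le_of_mul_le_mul_right h3 Nat.card_pos

theorem card_sup_ge {v : G} (hn : v ∈ NN (U ⊓ NN (S ⊔ T) ⊔ T)) (hv : v ∉ NN (S ⊔ T)) :
    Nat.card T * Nat.card T * Nat.card T ≤ Nat.card ((S ⊔ T) ⊔ (S ⊔ T) ^ᶜ v : Subgroup G) := by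
  have h1 := Loc.card_mul_card_le_card_sup_mul_card_inf (S ⊔ T) ((S ⊔ T) ^ᶜ v)
  rw [card_map_conj, h.card_W] at h1
  have h2 := h1.trans (Nat.mul_le_mul_left _ (h.card_inf_le hn hv))
  rw [← mul_assoc] at h2
  exact Nat.le_of_mul_le_mul_right h2 Nat.card_pos

theorem WW_le {v : G} (hn : v ∈ NN (U ⊓ NN (S ⊔ T) ⊔ T)) :
    (S ⊔ T) ⊔ (S ⊔ T) ^ᶜ v ≤ U ⊓ NN (S ⊔ T) ⊔ T :=
  sup_le h.W_le (map_conj_le_of_mem_normalizer h.W_le hn)

theorem exists_v (hn : ¬ U ≤ NN (S ⊔ T)) :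
    ∃ v ∈ U, v ∈ NN (U ⊓ NN (S ⊔ T) ⊔ T) ∧ v ∉ NN (S ⊔ T) := by
  obtain ⟨v, h1, h2, h3⟩ := h.grow (X := U ⊓ NN (S ⊔ T))
    (lt_of_le_of_ne inf_le_left fun e => hn (inf_eq_left.1 e)) h.TR
  exact ⟨v, h1, h2, fun e => h3 (mem_inf.2 ⟨h1, e⟩)⟩

theorem card_R_ge (hn : ¬ U ≤ NN (S ⊔ T)) :
    Nat.card T * Nat.card T ≤ Nat.card (U ⊓ NN (S ⊔ T) : Subgroup G) := by
  obtain ⟨v, -, h2, h3⟩ := h.exists_v hn
  have h4 := (h.card_sup_ge h2 h3).trans (card_le_of_le (h.WW_le h2))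
  rw [h.card_sup h.TR h.RK] at h4
  exact Nat.le_of_mul_le_mul_right h4 Nat.card_pos

theorem relIndex_R_le : S.relIndex (U ⊓ NN (S ⊔ T)) ≤ Nat.card T := by
  obtain ⟨⟨x, hx⟩, h1⟩ := ne_bot_iff_exists_ne_one.1 h.ne
  have h1' : x ≠ 1 := fun e => h1 (Subtype.ext e)
  rw [← h.card]
  let f : (U ⊓ NN (S ⊔ T) : Subgroup G) ⧸ S.subgroupOf (U ⊓ NN (S ⊔ T)) → S :=
    fun q => ⟨_, h.phi_mem q.out.2.1 q.out.2.2 hx⟩
  refine Nat.card_le_card_of_injective f fun a b e => ?_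
  rw [← QuotientGroup.out_eq' a, ← QuotientGroup.out_eq' b, QuotientGroup.eq, mem_subgroupOf]
  refine (h.cen x hx h1' _ (a.out⁻¹ * b.out).2.1).1 (comm_of_conj_eq ?_)
  have e1 : (a.out : G) * x * (a.out : G)⁻¹ = b.out * x * (b.out : G)⁻¹ :=
    mul_left_cancel (congrArg Subtype.val e)
  calc ((a.out : G)⁻¹ * b.out) * x * ((a.out : G)⁻¹ * b.out)⁻¹
      = (a.out : G)⁻¹ * (b.out * x * (b.out : G)⁻¹) * a.out := by group
    _ = x := by rw [← e1]; group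

theorem card_R_le : Nat.card (U ⊓ NN (S ⊔ T) : Subgroup G) ≤ Nat.card T * Nat.card T := by
  rw [Loc.card_eq_relIndex_mul_card h.SR, h.card]
  exact Nat.mul_le_mul_right _ h.relIndex_R_le

/-- STR-ne: if `S` is not elementary, it has index 2 in `U`. -/
theorem relIndex_of_nonelem (hs : s ∈ S) (h2 : s * s ≠ 1) : S.relIndex U = 2 := by
  have h3 : S.relIndex (U ⊓ NN (S ⊔ T)) = 2 := by
    obtain ⟨r, hr, hn, hS⟩ := h.exists_r
    refine relIndex_eq_two_iff_exists_notMem_and.2 ⟨r, mem_inf.2 ⟨hr, hn⟩, hS, fun b hb => ?_⟩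
    by_contra! h4
    have h5 := h.inverts (mul_mem hb.1 hr) (mul_mem hb.2 hn) h4.1 hs
    have h6 : b * r * s * (b * r)⁻¹ = b * (r * s * r⁻¹) * b⁻¹ := by group
    rw [h6, h.inverts hr hn hS hs, h.inverts hb.1 hb.2 h4.2 (inv_mem hs), inv_inv] at h5
    exact h2 (mul_eq_one_iff_eq_inv.2 h5)
  by_cases hn : U ≤ NN (S ⊔ T)
  · rwa [inf_eq_left.2 hn] at h3
  have h4 := h.card_R_ge hn
  rw [Loc.card_eq_relIndex_mul_card h.SR, h3, ← h.card] at h4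
  have h5 : Nat.card S ≤ 2 := Nat.le_of_mul_le_mul_right h4 Nat.card_pos
  have h6 : s ^ Nat.card S = 1 := congrArg Subtype.val (pow_card_eq_one' (x := (⟨s, hs⟩ : S)))
  have h7 : 0 < Nat.card S := Nat.card_pos
  exfalso
  interval_cases Nat.card S
  · exact h2 (by rw [pow_one] at h6; rw [h6, one_mul])
  · exact h2 (by rwa [sq] at h6)

/-- STR-e, first part. -/
theorem le_or_card (he : ∀ s ∈ S, s * s = 1) :
    U ≤ NN (S ⊔ T) ∨ S.relIndex (U ⊓ NN (S ⊔ T)) = Nat.card T := by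
  have _ := he
  refine or_iff_not_imp_left.2 fun hn => le_antisymm h.relIndex_R_le ?_
  have h4 := h.card_R_ge hn
  rw [Loc.card_eq_relIndex_mul_card h.SR, h.card] at h4
  exact Nat.le_of_mul_le_mul_right h4 Nat.card_pos

theorem elemT' (he : ∀ s ∈ S, s * s = 1) (hx : x ∈ T) : x * x = 1 := by
  obtain ⟨r, hr, hn, hS⟩ := h.exists_r
  refine h.phi_inj hr hS (mul_mem hx hx) (one_mem _) ?_
  rw [h.phi_mul hr hn hx hx, he _ (h.phi_mem hr hn hx)]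
  group

theorem elemW (he : ∀ s ∈ S, s * s = 1) {w : G} (hw : w ∈ S ⊔ T) : w * w = 1 := by
  obtain ⟨a, ha, y, hy, rfl⟩ := exists_mul_of_mem_sup h.TS hw
  exact (commute_iff_mul_sq (he a ha) (h.elemT' he hy)).1 (h.commST ha hy)

theorem elemWv (he : ∀ s ∈ S, s * s = 1) (v : G) {w : G} (hw : w ∈ (S ⊔ T) ^ᶜ v) :
    w * w = 1 := by
  obtain ⟨a, ha, rfl⟩ := mem_map_conj_iff_exists.1 hw
  calc v * a * v⁻¹ * (v * a * v⁻¹) = v * (a * a) * v⁻¹ := by group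
    _ = 1 := by rw [h.elemW he ha]; group

theorem cenW (he : ∀ s ∈ S, s * s = 1) {y : G} (hy : y ∈ U ⊓ NN (S ⊔ T) ⊔ T) (hW : y ∉ S ⊔ T)
    {w : G} (hw : w ∈ S ⊔ T) (hc : Commute y w) : w ∈ S := by
  obtain ⟨r, hr, hn, hS, h1⟩ := h.exists_r_of hy hW
  have h2 := h1 w hw hc
  obtain ⟨a, ha, z, hz, rfl⟩ := exists_mul_of_mem_sup h.TS hw
  have h3 : Commute r a :=
    comm_of_conj_eq ((h.inverts hr hn hS ha).trans (inv_of_mul_self (he a ha)))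
  have h4 : Commute r z := by simpa using h3.inv_right.mul_right h2
  rw [h.eq_one_of_comm hr hS hz h4, mul_one]; exact ha

theorem WW_eq {v : G} (hn : v ∈ NN (U ⊓ NN (S ⊔ T) ⊔ T)) (hv : v ∉ NN (S ⊔ T)) :
    (S ⊔ T) ⊔ (S ⊔ T) ^ᶜ v = U ⊓ NN (S ⊔ T) ⊔ T := by
  refine eq_of_le_of_card_ge (h.WW_le hn) (le_trans ?_ (h.card_sup_ge hn hv))
  rw [h.card_sup h.TR h.RK]
  exact Nat.mul_le_mul_right _ h.card_R_le

theorem inf_eq (he : ∀ s ∈ S, s * s = 1) {v : G} (hn : v ∈ NN (U ⊓ NN (S ⊔ T) ⊔ T))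
    (hv : v ∉ NN (S ⊔ T)) : (S ⊔ T) ⊓ (S ⊔ T) ^ᶜ v = S := by
  obtain ⟨y, hy, hW⟩ := h.exists_wv hv
  refine eq_of_le_of_card_ge (fun g hg => h.cenW he
    (map_conj_le_of_mem_normalizer h.W_le hn hy) hW hg.1 (h.commWv v hy hg.2)) ?_
  have h1 := Loc.card_mul_card_le_card_sup_mul_card_inf (S ⊔ T) ((S ⊔ T) ^ᶜ v)
  rw [card_map_conj, h.card_W, h.WW_eq hn hv, h.card_sup h.TR h.RK] at h1
  have h2 := h1.trans (Nat.mul_le_mul_right _ (Nat.mul_le_mul_right _ h.card_R_le))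
  rw [← mul_assoc] at h2
  rw [h.card]
  exact Nat.le_of_mul_le_mul_left h2 (Nat.mul_pos (Nat.mul_pos Nat.card_pos Nat.card_pos)
    Nat.card_pos)

theorem exists_mul_WW {v : G} (hn : v ∈ NN (U ⊓ NN (S ⊔ T) ⊔ T)) (hv : v ∉ NN (S ⊔ T)) {g : G}
    (hg : g ∈ U ⊓ NN (S ⊔ T) ⊔ T) : ∃ a ∈ S ⊔ T, ∃ b ∈ (S ⊔ T) ^ᶜ v, a * b = g :=
  exists_mul_of_mem_sup ((map_conj_le_of_mem_normalizer h.W_le hn).trans RT_le)
    (by rwa [h.WW_eq hn hv])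

theorem mem_or_mem (he : ∀ s ∈ S, s * s = 1) {v : G} (hn : v ∈ NN (U ⊓ NN (S ⊔ T) ⊔ T))
    (hv : v ∉ NN (S ⊔ T)) {g : G} (hg : g ∈ U ⊓ NN (S ⊔ T) ⊔ T) (h2 : g * g = 1) :
    g ∈ S ⊔ T ∨ g ∈ (S ⊔ T) ^ᶜ v := by
  obtain ⟨a, ha, b, hb, rfl⟩ := h.exists_mul_WW hn hv hg
  by_cases hW : b ∈ S ⊔ T
  · exact Or.inl (mul_mem ha hW)
  have h3 := (commute_iff_mul_sq (h.elemW he ha) (h.elemWv he v hb)).2 h2
  have h4 := h.cenW he (map_conj_le_of_mem_normalizer h.W_le hn hb) hW ha h3.symm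
  rw [← h.inf_eq he hn hv] at h4
  exact Or.inr (mul_mem h4.2 hb)

theorem conj_eq_or (he : ∀ s ∈ S, s * s = 1) {v : G} (hn : v ∈ NN (U ⊓ NN (S ⊔ T) ⊔ T))
    (hv : v ∉ NN (S ⊔ T)) {g : G} (hg : g ∈ NN (U ⊓ NN (S ⊔ T) ⊔ T)) :
    (S ⊔ T) ^ᶜ g = S ⊔ T ∨ (S ⊔ T) ^ᶜ g = (S ⊔ T) ^ᶜ v := by
  refine (le_or_le_of_mem fun y hy => h.mem_or_mem he hn hv
    (map_conj_le_of_mem_normalizer h.W_le hg hy) (h.elemWv he g hy)).imp (fun e => ?_) fun e => ?_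
  · exact eq_of_le_of_card_ge e (by rw [card_map_conj])
  · exact eq_of_le_of_card_ge e (by rw [card_map_conj, card_map_conj])

/-- An element normalizing `RT` but not `W` interchanges `W` and `W^v`. -/
theorem swap (he : ∀ s ∈ S, s * s = 1) {v : G} (hn : v ∈ NN (U ⊓ NN (S ⊔ T) ⊔ T))
    (hv : v ∉ NN (S ⊔ T)) {g : G} (hg : g ∈ NN (U ⊓ NN (S ⊔ T) ⊔ T)) (hg' : g ∉ NN (S ⊔ T)) :
    (S ⊔ T) ^ᶜ g = (S ⊔ T) ^ᶜ v ∧ (S ⊔ T) ^ᶜ (g * v) = S ⊔ T := by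
  have h1 := (h.conj_eq_or he hn hv hg).resolve_left fun e => hg' (map_conj_eq_self_iff.1 e)
  refine ⟨h1, (h.conj_eq_or he hn hv (mul_mem hg hn)).resolve_right fun e => hv ?_⟩
  rw [← h1, map_conj_mul, map_conj_inj] at e
  exact map_conj_eq_self_iff.1 e

theorem relIndex_R2 (he : ∀ s ∈ S, s * s = 1) (hn : ¬ U ≤ NN (S ⊔ T)) :
    (U ⊓ NN (S ⊔ T)).relIndex (U ⊓ NN (U ⊓ NN (S ⊔ T) ⊔ T)) = 2 := by
  obtain ⟨v, h1, h2, h3⟩ := h.exists_v hn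
  refine relIndex_eq_two_iff_exists_notMem_and.2 ⟨v, mem_inf.2 ⟨h1, h2⟩, fun e => h3 e.2,
    fun b hb => or_iff_not_imp_right.2 fun h4 => mem_inf.2 ⟨mul_mem hb.1 h1, ?_⟩⟩
  exact map_conj_eq_self_iff.1 (h.swap he h2 h3 hb.2 fun e => h4 (mem_inf.2 ⟨hb.1, e⟩)).2

theorem U_le (he : ∀ s ∈ S, s * s = 1) (h4 : 4 ≤ Nat.card T) (hn : ¬ U ≤ NN (S ⊔ T)) :
    U ≤ NN (U ⊓ NN (S ⊔ T) ⊔ T) := by
  by_contra hU
  obtain ⟨v, h1, h2, h3⟩ := h.exists_v hn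
  have hi := h.relIndex_R2 he hn
  set R := U ⊓ NN (S ⊔ T) with hR
  set R2 := U ⊓ NN (R ⊔ T) with hR2
  have hT : T ≤ NN R2 := fun _ hx => inf_normalizer_le_normalizer_inf
    (mem_inf.2 ⟨h.TU hx, le_normalizer (le_normalizer (mem_sup_right hx))⟩)
  have hRR : R ≤ R2 := le_inf inf_le_left (le_sup_left.trans le_normalizer)
  have hN : R2 ⊔ T ≤ NN (R ⊔ T) := sup_le inf_le_right (le_sup_right.trans le_normalizer)
  have key : ∀ g : G, (S ⊔ T) ^ᶜ g ≤ R2 ⊔ T → (S ⊔ T) ^ᶜ g ≤ R ⊔ T := by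
    intro g hg
    by_contra h5
    obtain ⟨y, hy, hyR⟩ := SetLike.not_le_iff_exists.1 h5
    have hyW : y ∉ NN (S ⊔ T) := fun e => by
      obtain ⟨a, ha, z, hz, rfl⟩ := exists_mul_of_mem_sup hT (hg hy)
      exact hyR (mul_mem (mem_sup_left (mem_inf.2 ⟨ha.1,
        (mul_mem_cancel_right (le_normalizer (mem_sup_right hz))).1 e⟩)) (mem_sup_right hz))
    obtain ⟨e1, e2⟩ := h.swap he h2 h3 (hN (hg hy)) hyW
    have h6 : (S ⊔ T) ^ᶜ g ⊓ (R ⊔ T) ≤ S := fun w hw => by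
      have h7 := conj_eq_of_comm (h.commWv g hy hw.1)
      rw [← h.inf_eq he h2 h3]
      rcases h.mem_or_mem he h2 h3 hw.2 (h.elemWv he g hw.1) with h8 | h8
      · exact mem_inf.2 ⟨h8, by rw [← e1, ← h7]; exact conj_mem_map_conj.2 h8⟩
      · exact mem_inf.2 ⟨by rw [← e2, map_conj_mul, ← h7]; exact conj_mem_map_conj.2 h8, h8⟩
    have h7 := (Loc.card_mul_card_le_card_sup_mul_card_inf ((S ⊔ T) ^ᶜ g) (R ⊔ T)).trans
      (Nat.mul_le_mul (card_le_of_le (sup_le hg (sup_le_sup_right hRR _))) (card_le_of_le h6))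
    rw [card_map_conj, h.card_W, h.card_sup h.TR h.RK, h.card_sup hT (inf_le_left.trans h.syl.le),
      Loc.card_eq_relIndex_mul_card hRR, hi, h.card] at h7
    have h8 : 0 < Nat.card R * Nat.card T * Nat.card T :=
      Nat.mul_pos (Nat.mul_pos Nat.card_pos Nat.card_pos) Nat.card_pos
    have h9 : Nat.card R * Nat.card T * Nat.card T * Nat.card T ≤
        Nat.card R * Nat.card T * Nat.card T * 2 := by
      calc _ = _ := by ring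
        _ ≤ _ := h7
        _ = _ := by ring
    have := Nat.le_of_mul_le_mul_left h9 h8
    omega
  obtain ⟨v2, h5, h6, h7⟩ := h.grow (X := R2)
    (lt_of_le_of_ne inf_le_left fun e => hU (inf_eq_left.1 e)) hT
  have hW2 : R ⊔ T ≤ R2 ⊔ T := sup_le_sup_right hRR _
  refine h7 (mem_inf.2 ⟨h5, mem_normalizer_of_map_conj_le ?_⟩)
  conv_lhs => rw [← h.WW_eq h2 h3, map_conj_sup, map_conj_map_conj]
  refine sup_le (key _ (map_conj_le_of_mem_normalizer (h.W_le.trans hW2) h6)) (key _ ?_)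
  rw [map_conj_mul]
  exact map_conj_le_of_mem_normalizer ((map_conj_le_of_mem_normalizer h.W_le h2).trans hW2) h6

/-- STR-e, second part: `U = R⟨v⟩`, where `R = N_U(ST)` consists of the `s · x⁻¹ x^v`. -/
theorem str (he : ∀ s ∈ S, s * s = 1) (h4 : 4 ≤ Nat.card T) (hn : ¬ U ≤ NN (S ⊔ T)) :
    (U ⊓ NN (S ⊔ T)).relIndex U = 2 ∧ ∀ v ∈ U, v ∉ NN (S ⊔ T) →
      (∀ x ∈ T, x⁻¹ * (v * x * v⁻¹) ∈ NN (S ⊔ T)) ∧
      ∀ r ∈ U ⊓ NN (S ⊔ T), ∃ x ∈ T, ∃ s ∈ S, r = s * (x⁻¹ * (v * x * v⁻¹)) := by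
  have hU := h.U_le he h4 hn
  refine ⟨by simpa only [inf_eq_left.2 hU] using h.relIndex_R2 he hn, fun v hv hvW =>
    ⟨fun x hx => (h.phiX h.TR h.RK hv (hU hv) hx).2, fun r hr => ?_⟩⟩
  obtain ⟨a, ha, b, hb, e⟩ := h.exists_mul_WW (hU hv) hvW (mem_sup_left hr)
  obtain ⟨b', hb', rfl⟩ := mem_map_conj_iff_exists.1 hb
  obtain ⟨s, hs, x, hx, rfl⟩ := exists_mul_of_mem_sup h.TS ha
  obtain ⟨s', hs', x', hx', rfl⟩ := exists_mul_of_mem_sup h.TS hb'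
  have hSv : S ^ᶜ v = S := by
    refine (eq_of_le_of_card_ge (fun g hg => ?_) (by rw [card_map_conj])).symm
    have h1 : g ∈ (S ⊔ T) ⊓ (S ⊔ T) ^ᶜ v := by rwa [h.inf_eq he (hU hv) hvW]
    exact mem_map_conj.2 (h.memK h.TS h.SK (mem_map_conj.1 h1.2)
      (mul_mem (mul_mem (inv_mem (h.syl.le hv)) (h.SK hg)) (h.syl.le hv)))
  have h1 : v * s' * v⁻¹ ∈ S := hSv ▸ conj_mem_map_conj.2 hs'
  have h2 := (h.commST h1 hx).eq
  have h3 : r = s * (v * s' * v⁻¹) * (x * x') * (x'⁻¹ * (v * x' * v⁻¹)) := by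
    calc r = s * (x * (v * s' * v⁻¹)) * (v * x' * v⁻¹) := by rw [← e]; group
      _ = _ := by rw [← h2]; group
  have h5 : x * x' = 1 := by
    refine h.eq_one_of_K (mul_mem hx hx') ?_
    have h6 := h.RK hr
    rwa [h3, mul_mem_cancel_right (h.syl.le (h.phiU hv hx')),
      mul_mem_cancel_left (h.SK (mul_mem hs h1))] at h6
  exact ⟨x', hx', _, mul_mem hs h1, by rw [h3, h5, mul_one]⟩

end Nf

end Cfsg.Agent.CT8
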